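import Cfsg.Agent.GO.Jn0

/-! An elementary abelian subgroup of order sixteen with alternating automizer, and an involution not fused into it. -/

set_option autoImplicit false
set_option linter.unusedSectionVars false
set_option linter.unusedVariables false
set_option linter.style.haveILetI false

namespace Cfsg.Agent.GO.Jn

open Cfsg Subgroup Cfsg.Agent.H28.HJ

open Cfsg.Agent.H4E in
theorem jM {G : Type*} [Group G] [Finite G] (S : Sylow 2 G) (h64 : Nat.card S = 64)
    (hz : ∃ z : S, ∀ x : S, (∀ y, x * y = y * x) → x = 1 ∨ x = z)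
    {A : Subgroup G} (h3 : ∃ c : G, c * c = 1 ∧ ∀ g : G, g * c * g⁻¹ ∉ A)
    (hA : IsElementaryAbelian 2 A) (h16 : Nat.card A = 16) {N : Subgroup G}
    (hN : N = normalizer (A : Set G)) (π : N →* alternatingGroup (Fin 5))
    (hπ : Function.Surjective π) (hk : π.ker = A.subgroupOf N ⊔ oddCore N) : (A ⊔ oddCore G).Normal := by
  have hAN : A ≤ N := hN ▸ le_normalizer
  haveI nA : (A.subgroupOf N).Normal := by subst hN; exact normal_in_normalizer
  have cA : Nat.card (A.subgroupOf N) = 16 := by rw [← h16]; exact Nat.card_congr (subgroupOfEquivOfLe hAN).toEquiv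
  have h60 : Nat.card A5 = 60 := by rw [nat_card_alternatingGroup]; simp [Nat.factorial]
  obtain ⟨T0⟩ : Nonempty (Sylow 2 N) := inferInstance
  have d1 : 2 ^ 6 ∣ Nat.card N := by
    have e1 := card_mul_index π.ker
    rw [index_ker, MonoidHom.range_eq_top.2 hπ, card_top, h60] at e1
    obtain ⟨k, e2⟩ : 16 ∣ Nat.card π.ker := cA ▸ card_dvd_of_le (hk ▸ le_sup_left)
    exact ⟨k * 15, by rw [← e1, e2]; ring⟩
  have d2 := T0.pow_dvd_card_of_pow_dvd_card d1
  obtain ⟨T, hT⟩ := (T0.isPGroup'.map N.subtype).exists_le_sylow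
  have c64 : Nat.card T = 64 := (Nat.card_congr (Sylow.equiv T S).toEquiv).trans h64
  have eT : (T0 : Subgroup N).map N.subtype = T := eq_of_le_of_card_ge hT (by
    rw [card_map_of_injective N.subtype_injective, c64]
    exact Nat.le_of_dvd Nat.card_pos d2)
  have hTN : (T : Subgroup G) ≤ N := eT ▸ map_subtype_le _
  have mT : ∀ x : N, x ∈ T0 ↔ (x : G) ∈ T := fun x => by
    change _ ↔ (x : G) ∈ (T : Subgroup G)
    rw [← eT]
    exact ⟨fun hx => ⟨x, hx, rfl⟩, fun ⟨y, hy, e⟩ => (Subtype.ext e : y = x) ▸ hy⟩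
  have pA : IsPGroup 2 (A.subgroupOf N) := IsPGroup.of_card (n := 4) cA
  have AT0 : A.subgroupOf N ≤ T0 := pA.le_sylow_of_normal T0
  have AT : A ≤ T := fun a ha => (mT ⟨a, hAN ha⟩).1 (AT0 ha)
  obtain ⟨z0, hz0⟩ := hz
  let e := Sylow.equiv S T
  have hz1 : ∀ x : T, (∀ y, x * y = y * x) → x = 1 ∨ x = e z0 := fun x hx => by
    obtain ⟨x, rfl⟩ := e.surjective x
    rcases hz0 x (fun y => e.injective (by rw [map_mul, map_mul, hx])) with h | h
    · left; rw [h, map_one]
    · right; rw [h]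
  let z : N := ⟨e z0, hTN (e z0).2⟩
  haveI := H2.pPrimeCore_characteristic (p := 2) (G := N)
  have cf : Cfg (A.subgroupOf N) (oddCore N) π z := by
    refine ⟨nA, inferInstance, fun a ha b hb => Subtype.ext (FT.Ab.comm hA.1 ha hb),
      fun a ha => Subtype.ext (by simpa [pow_two] using hA.2 a ha), cA,
      Nat.coprime_two_right.1 H2.pPrimeCore_coprime, hπ, hk, fun x hx ho => ?_⟩
    obtain ⟨g, hg⟩ := exists_conj_le T0.isPGroup' ho
    have h1 : g * x * g⁻¹ ∈ T0 := AT0 (nA.conj_mem _ hx g)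
    rcases hz1 ⟨_, (mT _).1 h1⟩ (fun y => by
      have := mem_centralizer_singleton_iff.1 (hg ⟨y, hTN y.2⟩ ((mT _).2 y.2))
      have h2 : g * x * g⁻¹ * ⟨y, hTN y.2⟩ = ⟨y, hTN y.2⟩ * (g * x * g⁻¹) := by
        calc g * x * g⁻¹ * ⟨y, hTN y.2⟩ = g * (x * (g⁻¹ * ⟨y, hTN y.2⟩ * g)) * g⁻¹ := by group
          _ = _ := by rw [← this]; group
      exact Subtype.ext (congrArg (fun w : N => (w : G)) h2)) with h | h
    · right
      have : g * x * g⁻¹ = 1 := Subtype.ext (congrArg (fun w : T => (w : G)) h)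
      simpa [mul_inv_eq_one] using this
    · left
      have : g * x * g⁻¹ = z := Subtype.ext (congrArg (fun w : T => (w : G)) h)
      exact (isConj_iff.2 ⟨g, this⟩).symm
  have up : ∀ {x y : N}, IsConj x y → IsConj (x : G) y := fun h => N.subtype.map_isConj h
  have key : ¬ ∀ c ∈ T, c * c = 1 → c ∉ A → ∃ a ∈ A, IsConj a c := fun hc => by
    obtain ⟨x, x2, hx⟩ := h3
    have hp : IsPGroup 2 (zpowers x) := IsPGroup.iff_orderOf.2 fun y => by
      have hy : orderOf (y : G) ∣ 2 := (orderOf_dvd_of_mem_zpowers y.2).trans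
        (orderOf_dvd_of_pow_eq_one (by rw [pow_two, x2]))
      rw [Subgroup.orderOf_coe] at hy
      rcases (Nat.dvd_prime Nat.prime_two).1 hy with h | h
      · exact ⟨0, by simpa using h⟩
      · exact ⟨1, by simpa using h⟩
    obtain ⟨g, hg⟩ := exists_conj_le hp (C := T) (Nat.odd_iff.2 (by have := T.not_dvd_index; omega))
    have h2 := hg x (mem_zpowers x)
    have h : g⁻¹ * x * g ∉ A := by simpa using hx g⁻¹
    obtain ⟨a, ha, h6⟩ := hc _ h2 (by
      calc g⁻¹ * x * g * (g⁻¹ * x * g) = g⁻¹ * (x * x) * g := by group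
        _ = 1 := by rw [x2]; group) h
    obtain ⟨k, hk⟩ := isConj_iff.1 h6.symm
    refine hx (k * g⁻¹) ?_
    rw [show k * g⁻¹ * x * (k * g⁻¹)⁻¹ = k * (g⁻¹ * x * g) * k⁻¹ by group, hk]
    exact ha
  have sc : IsStronglyClosed A (T : Subgroup G) := ⟨AT, fun x hx g hg => by
    by_contra hn
    refine key fun c hc c2 c1 => ⟨x, hx, (isConj_iff.2 ⟨g, rfl⟩).trans
      (up (cf.conj_out (s := ⟨_, hTN hg⟩) (t := ⟨c, hTN hc⟩) (Subtype.ext ?_) (Subtype.ext c2) hn c1))⟩
    have := hA.2 x hx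
    rw [pow_two] at this
    calc g * x * g⁻¹ * (g * x * g⁻¹) = g * (x * x) * g⁻¹ := by group
      _ = 1 := by rw [this]; group⟩
  set K := normalClosure (A : Set G) with hK
  have AK : A ≤ K := le_normalClosure
  rcases cf.dich (K.subgroupOf N) with h | h
  swap
  · refine absurd (fun c hc c2 c1 => absurd (H4E.gold T hA.1 sc hc ?_ c2) c1) key
    exact cf.mem_of_onto (K.subgroupOf N) (fun a ha => AK ha) h (c := ⟨c, hTN hc⟩) (Subtype.ext c2)
  have TK : (T : Subgroup G) ⊓ K ≤ A := fun c ⟨h1, h2⟩ => by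
    obtain ⟨a, ha, o, ho, e1⟩ := cf.decomp (h ⟨c, hTN h1⟩ h2)
    have h4 : o ∈ T0 := by
      rw [show o = a⁻¹ * ⟨c, hTN h1⟩ by rw [e1]; group]
      exact mul_mem (inv_mem (AT0 ha)) ((mT _).2 h1)
    obtain ⟨k, hk⟩ := (IsPGroup.iff_orderOf.1 T0.isPGroup') ⟨_, h4⟩
    rw [← Subgroup.orderOf_coe] at hk
    change orderOf o = _ at hk
    have h5 : Odd (orderOf o) := by
      have := orderOf_dvd_natCard (⟨o, ho⟩ : oddCore N)
      rw [← Subgroup.orderOf_coe] at this
      exact Odd.of_dvd_nat cf.odd this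
    have h6 : o = 1 := by
      rcases k with _ | k
      · simpa using hk
      · rw [hk, pow_succ] at h5
        exact absurd h5 (Nat.not_odd_iff_even.2 (by simp))
    rw [h6, mul_one] at e1
    have : c = a := congrArg Subtype.val e1
    exact this ▸ ha
  obtain ⟨P, hP⟩ : ∃ P : Sylow 2 K, (P : Subgroup K) = A.subgroupOf K := by
    refine ⟨IsPGroup.toSylow (P := A.subgroupOf K) ((IsPGroup.of_card (n := 4) h16).of_equiv
      (subgroupOfEquivOfLe AK).symm) ?_, rfl⟩
    have e1 := ((FT.syl_top Nat.prime_two T).inf_nml (K := K) (FT.nml_top_iff.2 inferInstance)).not_dvd Nat.prime_two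
    rwa [le_antisymm TK (le_inf AT AK)] at e1
  have hPN : normalizer ((P : Subgroup K) : Set K) ≤ centralizer ((P : Subgroup K) : Set K) := fun x hx => by
    rw [hP] at hx ⊢
    have h1 : (x : G) ∈ N := hN ▸ mem_normalizer_iff.2 fun a => by
      by_cases ha : a ∈ K
      · exact mem_normalizer_iff.1 hx ⟨a, ha⟩
      · refine ⟨fun h => absurd (AK h) ha, fun h => absurd ?_ ha⟩
        have := mul_mem (mul_mem (inv_mem x.2) (AK h)) x.2
        simpa [mul_assoc] using this
    refine mem_centralizer_iff.2 fun a ha => Subtype.ext ?_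
    exact (congrArg Subtype.val (cf.ker_comm (a := ⟨a, hAN ha⟩) (h ⟨x, h1⟩ x.2) ha)).symm
  have hc := MonoidHom.ker_transferSylow_isComplement' P hPN
  have hL : (MonoidHom.transferSylow P hPN).ker ≤ pPrimeCore 2 K := H2.le_pPrimeCore (by
    rw [← hc.index_eq_card]
    exact ((Nat.Prime.coprime_iff_not_dvd Nat.prime_two).2 P.not_dvd_index).symm)
  haveI := H2.pPrimeCore_characteristic (p := 2) (G := G)
  have : A ⊔ oddCore G = K ⊔ oddCore G := le_antisymm (sup_le_sup_right AK _) (sup_le (fun x hx => by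
    obtain ⟨⟨l, a⟩, e, -⟩ := hc.existsUnique ⟨x, hx⟩
    have e1 : x = (l : K) * (a : K) := (congrArg Subtype.val e).symm
    rw [e1]
    refine mul_mem (mem_sup_right (H2.pPrimeCore_map_subtype_le_of_normal K ⟨l, hL l.2, rfl⟩)) (mem_sup_left ?_)
    have : (a : K) ∈ A.subgroupOf K := hP ▸ a.2
    exact this) le_sup_right)
  rw [this]
  infer_instance

end Cfsg.Agent.GO.Jn
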