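import Cfsg.Agent.H5.Hy4
import Cfsg.Agent.H10.Sym3
import Cfsg.Agent.H16.FCStruct
import Cfsg.Agent.S3341

/-! Hayden's theorem: identification with the symmetric group of degree six. -/

set_option autoImplicit false
set_option linter.unusedSectionVars false
set_option linter.unusedVariables false

namespace Cfsg.Agent.H5.Hy

open Subgroup Cfsg.Agent.H6 Cfsg.Agent.H21 Cfsg.Agent.FT DihedralGroup SemidirectProduct
open scoped commutatorElement

theorem conj_inj : Function.Injective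
    (MulAut.conjNormal : Equiv.Perm (Fin 6) →* MulAut ↥(alternatingGroup (Fin 6))) := by
  refine (injective_iff_map_eq_one _).mpr fun g hg => Equiv.ext fun x => ?_
  by_contra hx
  obtain ⟨y, -, hy⟩ := Finset.exists_mem_notMem_of_card_lt_card (s := {x, g x})
    (t := Finset.univ) (Finset.card_le_two.trans_lt (by simp))
  obtain ⟨z, -, hz⟩ := Finset.exists_mem_notMem_of_card_lt_card (s := {x, g x, y})
    (t := Finset.univ) (Finset.card_le_three.trans_lt (by simp))
  simp only [Finset.mem_insert, Finset.mem_singleton, not_or] at hy hz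
  have h1 := congrArg (fun φ : MulAut (alternatingGroup (Fin 6)) =>
    (φ ⟨Equiv.swap (g x) y * Equiv.swap (g x) z, Equiv.Perm.mul_mem_alternatingGroup_of_isSwap
      ⟨_, _, Ne.symm hy.2, rfl⟩ ⟨_, _, Ne.symm hz.2.1, rfl⟩⟩).1 (g x)) hg
  have hx' : x ≠ g x := Ne.symm hx
  simp [Equiv.swap_apply_of_ne_of_ne hx' (Ne.symm hy.1), Equiv.swap_apply_of_ne_of_ne hx'
    (Ne.symm hz.1), Equiv.swap_apply_of_ne_of_ne hz.2.1 hz.2.2] at h1
  exact hz.2.1 h1.symm

theorem a6_conj {x y : alternatingGroup (Fin 6)} (hx : orderOf x = 3) (hy : orderOf y = 3)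
    (h : x.1.IsThreeCycle ↔ y.1.IsThreeCycle) : IsConj x y := by
  by_cases h3 : x.1.IsThreeCycle
  · exact alternatingGroup.isThreeCycle_isConj (by simp) h3 (h.1 h3)
  have ct : ∀ w : Equiv.Perm (Fin 6), orderOf w = 3 → ¬ w.IsThreeCycle →
      w.cycleType = Multiset.replicate 2 3 := fun w hw hn => by
    obtain ⟨k, hk, hk'⟩ := H10.cycleType_of_orderOf_three hw
    rw [Fintype.card_fin] at hk'
    obtain rfl | rfl : k = 0 ∨ k = 1 := by omega
    · exact absurd hk hn
    · exact hk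
  let c : alternatingGroup (Fin 6) := ⟨Equiv.swap 0 1 * Equiv.swap 1 2 * (Equiv.swap 3 4 * Equiv.swap 4 5),
    by rw [Equiv.Perm.mem_alternatingGroup]; decide⟩
  let τ : Equiv.Perm (Fin 6) := Equiv.swap 0 3 * Equiv.swap 1 4 * Equiv.swap 2 5
  have hc : c.1.cycleType = Multiset.replicate 2 3 := by
    have := Fact.mk Nat.prime_three
    refine ct _ (orderOf_eq_prime (by decide) (by decide)) fun e => ?_
    exact absurd e.card_support (by decide)
  have key : ∀ w : alternatingGroup (Fin 6), orderOf w = 3 → ¬ w.1.IsThreeCycle → IsConj c w := by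
    intro w hw hn
    obtain ⟨σ, hσ⟩ := isConj_iff.1 (Equiv.Perm.isConj_of_cycleType_eq
      (hc.trans (ct w.1 (by rw [orderOf_coe, hw]) hn).symm))
    by_cases e : σ ∈ alternatingGroup (Fin 6)
    · exact isConj_iff.2 ⟨⟨σ, e⟩, Subtype.ext hσ⟩
    · have hτ : τ ∉ alternatingGroup (Fin 6) := by rw [Equiv.Perm.mem_alternatingGroup]; decide
      have e2 : τ * c.1 * τ⁻¹ = c.1 := by decide
      refine isConj_iff.2 ⟨⟨σ * τ, (mul_mem_iff_of_index_two alternatingGroup.index_eq_two).2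
        (iff_of_false e hτ)⟩, Subtype.ext ?_⟩
      change σ * τ * c.1 * (σ * τ)⁻¹ = w.1
      rw [← hσ]
      conv_rhs => rw [← e2]
      group
  exact (key x hx h3).symm.trans (key y hy fun e => h3 (h.2 e))

variable {G : Type*} [Group G] [Finite G]

theorem iso_s6 {N : Subgroup G} [N.Normal] (e : N ≃* alternatingGroup (Fin 6)) (hC : C(N) ≤ N)
    {a b : G} (ha : a ∈ N) (hb : b ∈ N) (oa : orderOf a = 3) (ob : orderOf b = 3)
    (ab : ¬ IsConj a b) {s : G} (hs : s ∉ N) : Nonempty (G ≃* Equiv.Perm (Fin 6)) := by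
  let Φ : G →* MulAut (alternatingGroup (Fin 6)) :=
    (MulAut.congr e).toMonoidHom.comp MulAut.conjNormal
  have hΦ : ∀ g (n : N), Φ g (e n) = e (MulAut.conjNormal g n) := fun g n => by simp [Φ]
  have cj : ∀ {x y : N}, IsConj (e x) (e y) → IsConj (x : G) y := fun {x y} h => by
    have := N.subtype.map_isConj (e.symm.toMonoidHom.map_isConj h)
    simpa using this
  have o3 : ∀ x : N, orderOf (x : G) = 3 → orderOf (e x) = 3 := fun x h => by
    rw [MulEquiv.orderOf_eq, ← orderOf_coe, h]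
  have key : ∀ x y : N, orderOf (x : G) = 3 → orderOf (y : G) = 3 → ¬ IsConj (x : G) y →
      (e x).1.IsThreeCycle → ∀ g, (Φ g (e x)).1.IsThreeCycle := by
    intro x y ox oy xy h3 g
    by_contra hn
    have h1 : ¬ (e y).1.IsThreeCycle := fun h => xy (cj (a6_conj (o3 x ox) (o3 y oy) (iff_of_true h3 h)))
    have h2 := a6_conj (x := Φ g (e x)) (by rw [MulEquiv.orderOf_eq, o3 x ox]) (o3 y oy)
      (iff_of_false hn h1)
    rw [hΦ] at h2
    exact xy (IsConj.trans (isConj_iff.2 ⟨g, rfl⟩) (cj h2))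
  have ex : ∀ g, ∃ σ : Equiv.Perm (Fin 6), MulAut.conjNormal σ = Φ g := fun g => by
    have h6 : ∃ c : alternatingGroup (Fin 6), c.1.IsThreeCycle ∧ (Φ g c).1.IsThreeCycle := by
      by_cases h : (e ⟨a, ha⟩).1.IsThreeCycle
      · exact ⟨_, h, key ⟨a, ha⟩ ⟨b, hb⟩ oa ob ab h g⟩
      · have h' : (e ⟨b, hb⟩).1.IsThreeCycle := by
          by_contra h'
          exact ab (cj (a6_conj (o3 ⟨a, ha⟩ oa) (o3 ⟨b, hb⟩ ob) (iff_of_false h h')))
        exact ⟨_, h', key ⟨b, hb⟩ ⟨a, ha⟩ ob oa (fun e => ab e.symm) h' g⟩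
    obtain ⟨σ, hσ⟩ := H10.alt_aut_conj (by simp) (Φ g) (Or.inr h6)
    exact ⟨σ, MulEquiv.ext fun x => Subtype.ext (hσ x).symm⟩
  choose θ0 hθ using ex
  let θ : G →* Equiv.Perm (Fin 6) := MonoidHom.mk' θ0 fun x y => conj_inj (by
    rw [map_mul, hθ, hθ, hθ, map_mul])
  have θN : ∀ n : N, θ n = e n := fun n => conj_inj (by
    change MulAut.conjNormal (θ0 n) = _
    rw [hθ]
    ext x : 1
    obtain ⟨x, rfl⟩ := e.surjective x
    rw [hΦ, show MulAut.conjNormal (n : G) x = n * x * n⁻¹ from rfl, map_mul, map_mul, map_inv]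
    rfl)
  have inj : Function.Injective θ := (injective_iff_map_eq_one _).2 fun g hg => by
    have h1 : Φ g = 1 := by rw [← hθ]; change MulAut.conjNormal (θ g) = 1; rw [hg, map_one]
    have h2 : g ∈ N := hC fun n hn => by
      have := hΦ g ⟨n, hn⟩
      rw [h1, MulAut.one_apply] at this
      have := congrArg Subtype.val (e.injective this)
      exact (mul_inv_eq_iff_eq_mul.1 this.symm).symm
    have h3 := θN ⟨g, h2⟩
    rw [hg] at h3
    have h4 : e ⟨g, h2⟩ = e 1 := Subtype.ext (by rw [← h3, map_one]; rfl)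
    exact congrArg Subtype.val (e.injective h4)
  have hA : ∀ σ ∈ alternatingGroup (Fin 6), ∃ n : N, θ n = σ := fun σ hσ =>
    ⟨e.symm ⟨σ, hσ⟩, by rw [θN, MulEquiv.apply_symm_apply]⟩
  have hs' : θ s ∉ alternatingGroup (Fin 6) := fun h => by
    obtain ⟨n, hn⟩ := hA _ h
    exact hs (inj hn ▸ n.2)
  refine ⟨MulEquiv.ofBijective θ ⟨inj, fun σ => ?_⟩⟩
  by_cases h : σ ∈ alternatingGroup (Fin 6)
  · exact (hA σ h).elim fun n hn => ⟨n, hn⟩
  · obtain ⟨n, hn⟩ := hA (σ * θ s) ((mul_mem_iff_of_index_two alternatingGroup.index_eq_two).2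
      (iff_of_false h hs'))
    exact ⟨n * s⁻¹, by rw [map_mul, map_inv, hn, mul_inv_cancel_right]⟩

theorem thm3333 (P : Sylow 3 G) (S : Subgroup G) (hSP : S = P) (hcard : Nat.card S = 9)
    (hC : Subgroup.centralizer (S : Set G) = S)
    (eN : Subgroup.normalizer (S : Set G) ⧸ S.subgroupOf (Subgroup.normalizer (S : Set G)) ≃* DihedralGroup 4)
    (hcent : ∀ x ∈ S, x ≠ 1 → Subgroup.centralizer ({x} : Set G) ≤ Subgroup.normalizer (S : Set G)) :
    S.Normal ∨ Nonempty (G ≃* Equiv.Perm (Fin 6)) := by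
  have h9 : Nat.card (S.subgroupOf N(S)) = 9 := by
    rw [Nat.card_congr (subgroupOfEquivOfLe (le_nrm S)).toEquiv, hcard]
  have h8 : (S.subgroupOf N(S)).index = 8 := by
    rw [index, Nat.card_congr eN.toEquiv, nat_card]
  have h72 : Nat.card N(S) = 72 := by rw [← (S.subgroupOf N(S)).card_mul_index, h9, h8]
  obtain ⟨D, hD⟩ := exists_left_complement'_of_coprime (N := S.subgroupOf N(S)) (by rw [h9, h8]; norm_num)
  let ψ : DihedralGroup 4 →* G := (N(S)).subtype.comp
    (D.subtype.comp (eN.symm.trans hD.QuotientMulEquiv).toMonoidHom)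
  have hi : Function.Injective ψ := fun a b h =>
    (eN.symm.trans hD.QuotientMulEquiv).injective (Subtype.ext (Subtype.ext h))
  have hψ : ∀ d, ψ d ∈ N(S) := fun d => ((eN.symm.trans hD.QuotientMulEquiv) d).1.2
  have hnc : ¬ IsCyclic S := fun hc => by
    have h1 := H16.commutator_mem_centralizer_of_isCyclic (hψ (r 1)) (hψ (sr 0))
    rw [hC, ← map_commutatorElement, show ⁅(r 1 : DihedralGroup 4), sr 0⁆ = r 2 by decide] at h1
    have h2 : ψ (r 2) ^ 9 = 1 := by
      rw [← hcard]; exact orderOf_dvd_iff_pow_eq_one.1 (orderOf_dvd_card' h1)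
    exact absurd (hi (by rw [map_pow, h2, map_one]) : (r 2 : DihedralGroup 4) ^ 9 = 1) (by decide)
  have h3 : ∀ m ∈ S, m ^ 3 = 1 := fun m hm => by
    have h1 : orderOf m ∣ 3 ^ 2 := by have := orderOf_dvd_card' hm; rwa [hcard] at this
    obtain ⟨k, hk, e⟩ := (Nat.dvd_prime_pow Nat.prime_three).1 h1
    rw [← orderOf_dvd_iff_pow_eq_one, e]
    interval_cases k
    · simp
    · simp
    · exact absurd (isCyclic_of_orderOf_eq_card (⟨m, hm⟩ : S) (by
        rw [← orderOf_coe, hcard]; exact e)) hnc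
  obtain ⟨f, h, r1, r2, χ, x1, x2, x3, x4, x5⟩ := exists_lin hcard h3 hC h72 hcent hi hψ
  obtain ⟨p1, p2, p3, p4, p5, p6, p7, p8, p9, p10, p11, p12, p13, p14, p15, p16, p17⟩ := d_pow
  refine or_iff_not_imp_left.2 fun hnn => ?_
  set K := charKer χ.1 with hK
  have hKn : K.Normal := charKer_normal (isClassFunction_of_irr χ.2)
  have mK : ∀ g, g ∈ K ↔ χ.1 g = 1 := fun g => by rw [hK, mem_charKer_iff_irr χ.2, x1]
  have k1 : f t0 ∈ K := (mK _).2 x2
  have k2 : f t0' ∈ K := (mK _).2 x3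
  have k3 : f s0 ∉ K := fun e => by
    have := (mK _).1 (mul_mem e k1)
    rw [← map_mul, ← u0, x4] at this; norm_num at this
  have k4 : f σ0 ∉ K := fun e => by
    have := (mK _).1 (mul_mem e k2)
    rw [← map_mul, ← v0, x5] at this; norm_num at this
  have mS : ∀ m ∈ S, ∃ n, f (inl n) = m := fun m hm => r1.ge hm
  have Sm : ∀ x : H0, x ^ 3 = 1 → f x ∈ S := fun x hx => r1.le ⟨x.left, by
    rw [MonoidHom.comp_apply]; congr 1; exact SemidirectProduct.ext rfl ((d_cube x).1 hx).symm⟩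
  have irr : ∀ L : Subgroup G, L.Normal → S ⊓ L ≠ ⊥ → S ≤ L := fun L hL hne m hm => by
    obtain ⟨x, ⟨hx1, hx2⟩, hx3⟩ := exists_ne_one hne
    obtain ⟨n, rfl⟩ := mS x hx1
    obtain ⟨k, rfl⟩ := mS m hm
    obtain ⟨a, b, rfl⟩ := d_irr n (fun e => hx3 (by rw [e, map_one, map_one])) k
    simp only [map_mul, inl_aut, map_inv]
    exact mul_mem (hL.conj_mem _ hx2 _) (hL.conj_mem _ hx2 _)
  have t1 : f t0 ≠ 1 := fun e => p11 (h.inj (e.trans (map_one f).symm))
  have SK : S ≤ K := irr K hKn fun e => t1 (mem_bot.1 (e ▸ ⟨Sm _ p5, k1⟩))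
  have cK : ∀ m ∈ S, m ≠ 1 → K ⊓ C[m] ≤ S := fun m hm m1 g ⟨g1, g2⟩ => by
    obtain ⟨n, rfl⟩ := mS m hm
    have n1 : (inl n : H0) ≠ 1 := fun e => m1 (by rw [e, map_one])
    obtain ⟨x, rfl⟩ := h.cen _ ((d_cube _).2 rfl) n1 g2
    rcases d_cm (inl n) x ((d_cube _).2 rfl) n1 (h.inj (by rw [map_mul, map_mul, mem_cen1.1 g2])) with
      e | ⟨k, e | e⟩
    · exact Sm x e
    · exact absurd (by rw [← e, map_mul, map_mul, map_inv, map_pow]; exact hKn.conj_mem _ (pow_mem g1 _) _) k3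
    · exact absurd (by rw [← e, map_mul, map_mul, map_inv, map_pow]; exact hKn.conj_mem _ (pow_mem g1 _) _) k4
  have hab : Ab S := ⟨⟨fun a b => Subtype.ext (hC.ge b.2 a a.2)⟩⟩
  have hSp : PGrp 3 S := pGrp_of_card Nat.prime_three (n := 2) hcard
  have hsyl : Syl 3 S ⊤ := (syl_top_iff Nat.prime_three).2 ⟨P, hSP.symm⟩
  have meet : ∀ L M : Subgroup G, L ≤ K → L ≠ ⊥ → S ≤ M → L ⊴ M → S ⊓ L ≠ ⊥ := by
    intro L M hLK L1 hSM hLM e
    have h1 := ((hsyl.subl hSM le_top).inf_nml hLM)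
    rw [e] at h1
    have h2 := (p'grp_of_not_dvd ((h1.syl_eq_bot_iff Nat.prime_three).1 rfl)).cop' hSp
    refine L1 (le_bot_iff.1 (coprime_abelian_gen_cent1 hab hnc (hSM.trans hLM.nrm) h2 fun a ha a1 => ?_))
    rw [← e]
    exact le_inf ((inf_le_inf_right _ hLK).trans (cK a ha a1)) inf_le_left
  obtain ⟨N, hNK, hN⟩ := exists_minNml (M := ⊤) (K := K) (fun e => t1 (mem_bot.1 (e ▸ k1)))
    le_normalizer_of_normal
  have hNn : N.Normal := normalizer_eq_top_iff.1 (top_le_iff.1 hN.nrm)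
  have SN : S ≤ N := irr N hNn (meet N ⊤ hNK hN.ne le_top ⟨le_top, hN.nrm⟩)
  have hsN : Syl 3 S N := hsyl.subl SN le_top
  have simple : IsSimpleGroup N := by
    have : Nontrivial N := (nontrivial_iff_ne_bot _).2 hN.ne
    refine ⟨fun L' hL' => or_iff_not_imp_left.2 fun L1 => ?_⟩
    obtain ⟨L, hL1, hL⟩ := exists_minNml (M := N) (K := L'.map N.subtype)
      (fun e => L1 ((map_eq_bot_iff_of_injective _ N.subtype_injective).1 e))
      (by
        have := Subgroup.le_normalizer_map (H := L') N.subtype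
        rwa [normalizer_eq_top, ← MonoidHom.range_eq_map, range_subtype] at this)
    have hLN : L ≤ N := hL1.trans (map_subtype_le _)
    obtain ⟨m, ⟨m1, m2⟩, m3⟩ := exists_ne_one (meet L N (hLN.trans hNK) hL.ne SN ⟨hLN, hL.nrm⟩)
    have key : N(S) ≤ N(L) := fun g hg => by
      have hc := hL.cj g
      rw [cj_eq_self.2 (hN.nrm (mem_top g))] at hc
      rcases hL.inf_eq_bot_or_le hc.nrm with e | e
      · exfalso
        have hLg : cj g L ≤ N := by
          rw [← cj_eq_self.2 (hN.nrm (mem_top g))]; exact cj_mono g hLN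
        have h1 : L ≤ C(cj g L) := by
          rw [← commutator_eq_bot_iff_le_centralizer, ← le_bot_iff, ← e]
          exact le_inf (H1.commutator_le_left_of_le_normalizer (hLg.trans hL.nrm))
            (by rw [commutator_comm]; exact H1.commutator_le_left_of_le_normalizer (hLN.trans hc.nrm))
        have h2 : L ≤ S := le_trans (le_inf (hLN.trans hNK) fun x hx => mem_cen1.2
          (h1 hx _ (FT.conj_mem_cj.2 m2)).symm) (cK (g * m * g⁻¹) (conj_mem hg m1) (by simpa using m3))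
        obtain ⟨n, rfl⟩ := mS m m1
        have h4 : N ≤ N(S) := fun x hx => r2 ▸ h.se ((d_cube _).2 rfl)
          (fun e => m3 (by rw [e, map_one])) (r2 ▸ le_nrm S (h2 (conj_mem (hL.nrm hx) m2)))
        exact hnn (normalizer_eq_top_iff.1 (top_le_iff.1 (hsN.norms_of_nml h4 hN.nrm)))
      · exact cj_eq_self.1 (eq_of_le_of_card_ge e (card_cj _ _).le).symm
    have h5 : ⊤ ≤ N(L) := fun g hg => by
      obtain ⟨a, ha, b, hb, rfl⟩ := (hsN.frattini ⟨le_top, hN.nrm⟩).3 g hg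
      exact mul_mem (hL.nrm ha) (key hb.2)
    have h6 := hN.min L hLN hL.ne h5
    refine map_injective N.subtype_injective (le_antisymm (map_mono le_top) ?_)
    rw [← MonoidHom.range_eq_map, range_subtype]
    exact h6.ge.trans hL1
  have o3 : ∀ {x : H0}, x ^ 3 = 1 → x ≠ 1 → orderOf (f x) = 3 := fun h3 h1 =>
    haveI := Fact.mk Nat.prime_three
    orderOf_eq_prime (by rw [← map_pow, h3, map_one]) fun e => h1 (h.inj (e.trans (map_one f).symm))
  have nc : ¬ IsConj (f t0) (f t0') := fun e => (h.conj_of d_s6.1 e).elim fun k => (d_nc k).1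
  obtain ⟨e⟩ := S3341.result (G := N) (P.subtype (hSP ▸ SN)) (S.subgroupOf N) (by
      rw [Sylow.coe_subtype, hSP])
    ⟨⟨fun a b => Subtype.ext (Subtype.ext (hC.ge b.2 a a.2))⟩⟩
    (fun a ha => Subtype.ext (h3 _ ha))
    (by rw [Nat.card_congr (subgroupOfEquivOfLe SN).toEquiv, hcard])
    ⟨⟨f t0, SN (Sm _ p5)⟩, ⟨f t0', SN (Sm _ p6)⟩, by rw [← orderOf_coe]; exact o3 p5 p11,
      by rw [← orderOf_coe]; exact o3 p6 p12,
      fun g e => nc (isConj_iff.2 ⟨g, congrArg Subtype.val e⟩)⟩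
    (fun s hs s1 => by
      ext x
      rw [mem_centralizer_singleton_iff, mem_subgroupOf]
      exact ⟨fun e => cK s hs (fun e => s1 (Subtype.ext e)) ⟨hNK x.2, mem_cen1.2 (congrArg Subtype.val e)⟩,
        fun e => Subtype.ext (hC.ge hs x e)⟩)
  exact iso_s6 e (((centralizer_le SN).trans hC.le).trans SN) (SN (Sm _ p5)) (SN (Sm _ p6))
    (o3 p5 p11) (o3 p6 p12) nc (s := f s0) fun e => k3 (hNK e)

end Cfsg.Agent.H5.Hy
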