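import Cfsg.Agent.H10.Am0

/-! S3348: construction of the Borel part `3^{1+2} : 2²` of the amalgam. -/

set_option autoImplicit false

namespace Cfsg.Agent.H10.Am

open Subgroup

variable {G : Type*} [Group G]

structure Sd5 (A E : Subgroup G) : Prop where
  le : E ≤ A
  cE : Nat.card E = 9
  com : ∀ x ∈ E, ∀ y ∈ E, x * y = y * x
  e3 : ∀ x ∈ E, x * x * x = 1
  nor : ∀ g ∈ A, ∀ x ∈ E, g * x * g⁻¹ ∈ E
  cen : ∀ g ∈ A, (∀ x ∈ E, g * x = x * g) → g ∈ E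
  inv : ∃ t ∈ A, ∀ x ∈ E, t * x * t⁻¹ = x⁻¹

theorem c5_nine [Finite G] {H K F : Subgroup G} (h1 : H ≤ K) (h2 : K ≤ F) (cH : Nat.card H = 3) (cF : Nat.card F = 9) :
    K = H ∨ K = F := by
  have d1 := card_dvd_of_le h1
  have d2 := card_dvd_of_le h2
  rw [cF, show 9 = 3 ^ 2 by norm_num, Nat.dvd_prime_pow Nat.prime_three] at d2
  obtain ⟨i, hi, e⟩ := d2
  rw [cH, e] at d1
  interval_cases i
  · norm_num at d1
  · exact .inl (eq_of_le_of_card_ge h1 (by rw [e, cH]; norm_num)).symm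
  · exact .inr (eq_of_le_of_card_ge h2 (by rw [e, cF]; norm_num))

theorem c5_one {y : G} (h3 : y * y * y = 1) (h : y = y⁻¹) : y = 1 := by
  rw [← h3]; nth_rewrite 3 [h]; group

variable {A B E F : Subgroup G}

theorem Sd5.invol (h : Sd5 A E) {t : G} (ht : t ∈ A) (hi : ∀ x ∈ E, t * x * t⁻¹ = x⁻¹) : t * t = 1 := by
  have m : t * t ∈ E := h.cen _ (mul_mem ht ht) fun x hx => by
    calc t * t * x = t * (t * x * t⁻¹) * t⁻¹ * (t * t) := by group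
      _ = x * (t * t) := by rw [hi x hx, hi _ (inv_mem hx), inv_inv]
  exact c5_one (h.e3 _ m) (by rw [← hi _ m]; group)

theorem c5_nc [Finite G] (hA : Sd5 A E) (hB : Sd5 B F) (FA : F ≤ A) (c3 : Nat.card ↥(E ⊓ F) = 3) {a b : G}
    (ha : a ∈ E) (ha' : a ∉ F) (hb : b ∈ F) (hb' : b ∉ E) : a * b * a⁻¹ * b⁻¹ ≠ 1 := fun e => by
  have e' : b * a = a * b := by
    calc b * a = a * b * a⁻¹ * b⁻¹ * (b * a) := by rw [e, one_mul]
      _ = _ := by group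
  rcases c5_nine (H := E ⊓ F) (K := E ⊓ centralizer {b}) (fun x hx => ⟨hx.1, mem_centralizer_singleton_iff.2
    (hB.com x hx.2 b hb)⟩) inf_le_left c3 hA.cE with k | k
  · exact ha' (k.le ⟨ha, mem_centralizer_singleton_iff.2 e'.symm⟩).2
  · exact hb' (hA.cen b (FA hb) fun x hx => (mem_centralizer_singleton_iff.1 (k.ge hx).2).symm)

theorem c5_ex [Finite G] (hB : Sd5 B F) (c3 : Nat.card ↥(E ⊓ F) = 3) : ∃ b ∈ F, b ∉ E := by
  by_contra! h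
  have : E ⊓ F = F := inf_eq_right.2 h
  rw [this, hB.cE] at c3
  omega

theorem c5_zm (hA : Sd5 A E) (hB : Sd5 B F) (EB : E ≤ B) (FA : F ≤ A) {a b : G} (ha : a ∈ E) (hb : b ∈ F) :
    a * b * a⁻¹ * b⁻¹ ∈ E ⊓ F :=
  ⟨by rw [mul_assoc a, mul_assoc a]; exact mul_mem ha (hA.nor b (FA hb) _ (inv_mem ha)),
    F.mul_mem (hB.nor a (EB ha) b hb) (F.inv_mem hb)⟩

theorem c5_key [Finite G] (hA : Sd5 A E) (hB : Sd5 B F) (EB : E ≤ B) (FA : F ≤ A) (c3 : Nat.card ↥(E ⊓ F) = 3) {s : G}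
    (hs : s ∈ A) (ss : s * s = 1) (si : ∀ x ∈ F, s * x * s⁻¹ = x⁻¹) {a : G} (ha : a ∈ E) (ha' : a ∉ F) :
    s * (a * (s * a * s⁻¹)) = a * (s * a * s⁻¹) * s ∧ a * (s * a * s⁻¹) ∉ F := by
  have e1 : s * (a * (s * a * s⁻¹)) * s⁻¹ = a * (s * a * s⁻¹) := by
    calc _ = s * a * s⁻¹ * ((s * s) * a * (s * s)⁻¹) := by group
      _ = _ := by rw [ss, one_mul, inv_one, mul_one, hA.com _ (hA.nor s hs a ha) a ha]
  refine ⟨by rw [← mul_inv_eq_iff_eq_mul, e1], fun hy => ?_⟩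
  have e2 : s * a * s⁻¹ = a⁻¹ := eq_inv_of_mul_eq_one_right (c5_one (hB.e3 _ hy) (e1.symm.trans (si _ hy)))
  obtain ⟨b, hb, hb'⟩ := c5_ex hB c3
  have hz := c5_zm hA hB EB FA ha hb
  refine c5_nc hA hB FA c3 ha ha' hb hb' (c5_one (hA.e3 _ hz.1) ?_)
  rw [← si _ hz.2]
  calc a * b * a⁻¹ * b⁻¹ = a⁻¹ * (b⁻¹ * (b * (a * (a * b * a⁻¹ * b⁻¹)))) := by group
    _ = a⁻¹ * (b⁻¹ * ((a * b * a⁻¹ * b⁻¹) * b) * a) := by
        rw [hA.com a ha _ hz.1, ← mul_assoc b, hB.com b hb _ hz.2]; group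
    _ = (a⁻¹) * (b⁻¹) * (a⁻¹)⁻¹ * (b⁻¹)⁻¹ := by group
    _ = (s * a * s⁻¹) * (s * b * s⁻¹) * (s * a * s⁻¹)⁻¹ * (s * b * s⁻¹)⁻¹ := by rw [e2, si b hb]
    _ = _ := by group

theorem c5_cl [Finite G] (hA : Sd5 A E) (c3 : Nat.card ↥(E ⊓ F) = 3) {a z : G} (ha : a ∈ E) (ha' : a ∉ F)
    (hz : z ∈ E ⊓ F) (z1 : z ≠ 1) : zpowers z = E ⊓ F ∧ closure {a, z} = E := by
  have : Fact (Nat.Prime 3) := ⟨Nat.prime_three⟩
  have e : zpowers z = E ⊓ F := eq_of_le_of_card_ge (zpowers_le.2 hz) (by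
    rw [c3, Nat.card_zpowers, orderOf_eq_prime (p := 3) (by rw [← hA.e3 z hz.1]; simp [pow_succ]) z1])
  refine ⟨e, (c5_nine (H := E ⊓ F) (e ▸ zpowers_le.2 (subset_closure (by simp))) ((closure_le _).2 ?_) c3 hA.cE).resolve_left
    fun k => ha' (k.le (subset_closure (by simp))).2⟩
  rintro x (rfl | rfl)
  exacts [ha, hz.1]

theorem c5_main [Finite G] (hA : Sd5 A E) (hB : Sd5 B F) (EB : E ≤ B) (FA : F ≤ A) (c3 : Nat.card ↥(E ⊓ F) = 3)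
    (hN : ∀ g : G, (∀ x ∈ E ⊓ F, g * x * g⁻¹ ∈ E ⊓ F) → g ∈ A ⊓ B) :
    ∃ a b z t s : G, AC a b z t s ∧ z ≠ 1 ∧ a ∈ A ⊓ B ∧ b ∈ A ⊓ B ∧ z ∈ A ⊓ B ∧ t ∈ A ⊓ B ∧ s ∈ A ⊓ B ∧
      closure {a, z} = E ∧ closure {b, z⁻¹} = F ∧
      ∀ n ∈ B, n * b * n⁻¹ = z → ∀ g, Commute g b → Commute g t → g ∈ zpowers b ⊔ zpowers t := by
  obtain ⟨t0, t0A, t0i⟩ := hA.inv
  obtain ⟨s, sB, si⟩ := hB.inv
  have sA : s ∈ A := (hN s fun x hx => by rw [si x hx.2]; exact inv_mem hx).1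
  have ss := hB.invol sB si
  have he : t0 * s * (t0 * s) ∈ E := hA.cen _ (mul_mem (mul_mem t0A sA) (mul_mem t0A sA)) fun x hx => by
    calc t0 * s * (t0 * s) * x = t0 * (s * (t0 * (s * x * s⁻¹) * t0⁻¹) * s⁻¹) * t0⁻¹ * (t0 * s * (t0 * s)) := by group
      _ = t0 * ((s * s) * x⁻¹ * (s * s)⁻¹) * t0⁻¹ * (t0 * s * (t0 * s)) := by rw [t0i _ (hA.nor s sA x hx)]; group
      _ = _ := by rw [ss, one_mul, inv_one, mul_one, t0i _ (inv_mem hx), inv_inv]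
  obtain ⟨t, ht⟩ : ∃ t, t = t0 * s * (t0 * s) * t0 := ⟨_, rfl⟩
  have tA : t ∈ A := ht ▸ mul_mem (hA.le he) t0A
  have ti : ∀ x ∈ E, t * x * t⁻¹ = x⁻¹ := fun x hx => by
    calc t * x * t⁻¹ = t0 * s * (t0 * s) * (t0 * x * t0⁻¹) * (t0 * s * (t0 * s))⁻¹ := by rw [ht]; group
      _ = _ := by rw [t0i x hx, hA.com _ he _ (inv_mem hx), mul_inv_cancel_right]
  have tB : t ∈ B := (hN t fun x hx => by rw [ti x hx.1]; exact inv_mem hx).2
  have tt := hA.invol tA ti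
  have ts : t * s = s * t := by
    have : t * s * (t * s) = 1 := by rw [← hA.e3 _ he, ht]; group
    rw [eq_inv_of_mul_eq_one_left this, mul_inv_rev, inv_eq_of_mul_eq_one_left ss, inv_eq_of_mul_eq_one_left tt]
  have c3' : Nat.card ↥(F ⊓ E) = 3 := by rw [inf_comm]; exact c3
  obtain ⟨a0, ha0, ha0'⟩ := c5_ex hA c3'
  obtain ⟨b0, hb0, hb0'⟩ := c5_ex hB c3
  obtain ⟨sa, ha'⟩ := c5_key hA hB EB FA c3 sA ss si ha0 ha0'
  obtain ⟨tb, hb'⟩ := c5_key hB hA FA EB c3' tB tt ti hb0 hb0'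
  have ha := mul_mem ha0 (hA.nor s sA a0 ha0)
  have hb := mul_mem hb0 (hB.nor t tB b0 hb0)
  generalize a0 * (s * a0 * s⁻¹) = a at sa ha' ha
  generalize b0 * (t * b0 * t⁻¹) = b at tb hb' hb
  have hz := c5_zm hA hB EB FA ha hb
  have z1 := c5_nc hA hB FA c3 ha ha' hb hb'
  obtain ⟨z, ez⟩ : ∃ z, a * b * a⁻¹ * b⁻¹ = z := ⟨_, rfl⟩
  rw [ez] at hz z1
  obtain ⟨zp, cl1⟩ := c5_cl hA c3 ha ha' hz z1
  obtain ⟨-, cl2⟩ := c5_cl hB c3' hb hb' (z := z⁻¹) (inv_mem ⟨hz.2, hz.1⟩) (inv_ne_one.2 z1)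
  refine ⟨a, b, z, t, s, ⟨hA.e3 a ha, hB.e3 b hb, hA.e3 z hz.1, tt, ss, ts, hA.com a ha z hz.1, hB.com b hb z hz.2, ez,
    ti a ha, tb, ti z hz.1, sa, si b hb, si z hz.2⟩, z1, ⟨hA.le ha, EB ha⟩, ⟨FA hb, hB.le hb⟩, ⟨hA.le hz.1, EB hz.1⟩,
    ⟨tA, tB⟩, ⟨sA, sB⟩, cl1, cl2, fun n hn nb g gb gt => ?_⟩
  have : Fact (Nat.Prime 3) := ⟨Nat.prime_three⟩
  have gB : g ∈ B := by
    have : n * g * n⁻¹ ∈ B := (hN _ fun x hx => by
      obtain ⟨k, rfl⟩ := mem_zpowers_iff.1 (zp.ge hx)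
      have c : Commute (n * g * n⁻¹) z := by rw [← nb]; exact gb.map (MulAut.conj n)
      rwa [(c.zpow_right k).eq, mul_inv_cancel_right]).2
    simpa [mul_assoc] using mul_mem (mul_mem (inv_mem hn) this) hn
  have fin : ∀ g ∈ B, Commute g b → Commute g t → Commute g z → g ∈ zpowers b := fun g gB gb gt gz => by
    have gF : g ∈ F := hB.cen g gB fun x hx => by
      refine (mem_centralizer_singleton_iff.1 ((closure_le (centralizer {g})).2 ?_ (cl2.ge hx))).symm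
      rintro y (rfl | rfl)
      exacts [mem_centralizer_singleton_iff.2 gb.symm.eq, mem_centralizer_singleton_iff.2 gz.inv_right.symm.eq]
    rcases c5_nine (H := zpowers b) (K := F ⊓ centralizer {t}) (zpowers_le.2 ⟨hb, mem_centralizer_singleton_iff.2 tb.symm⟩)
      inf_le_left (by
        rw [Nat.card_zpowers, orderOf_eq_prime (p := 3) (by rw [← hB.e3 b hb]; simp [pow_succ])
          (fun e => hb' (by rw [e]; exact one_mem _))]) hB.cE with k | k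
    · exact k.le ⟨gF, mem_centralizer_singleton_iff.2 gt.eq⟩
    · refine (z1 (c5_one (hA.e3 z hz.1) ?_)).elim
      rw [← ti z hz.1, ← mem_centralizer_singleton_iff.1 (k.ge hz.2).2, mul_inv_cancel_right]
  have gz : g * z * g⁻¹ ∈ zpowers z := by
    have m := hB.nor g gB z hz.2
    by_contra hc
    refine (c5_key hB hA FA EB c3' tB tt ti m fun h => hc (zp.ge ⟨h, m⟩)).2 ?_
    have : t * (g * z * g⁻¹) * t⁻¹ = (g * z * g⁻¹)⁻¹ := by
      calc _ = (t * g) * z * (t * g)⁻¹ := by group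
        _ = g * (t * z * t⁻¹) * g⁻¹ := by rw [← gt.eq]; group
        _ = _ := by rw [ti z hz.1]; group
    rw [this, mul_inv_cancel]; exact one_mem _
  have z3 : z ^ 3 = 1 := by rw [← hA.e3 z hz.1]; simp [pow_succ]
  obtain ⟨k, hk⟩ := (mem_powers_iff_mem_zpowers.2 gz)
  have hk' : z ^ (k % 3) = g * z * g⁻¹ := by rw [← pow_eq_pow_mod _ z3]; exact hk
  have lt := Nat.mod_lt k (show 3 > 0 by norm_num)
  generalize k % 3 = j at hk' lt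
  interval_cases j
  · exact (z1 (by simpa using hk'.symm)).elim
  · exact mem_sup_left (fin g gB gb gt (by rw [Commute, SemiconjBy, ← mul_inv_eq_iff_eq_mul, ← hk', pow_one]))
  · have := fin (g * t) (mul_mem gB tB) (gb.mul_left tb) (gt.mul_left (Commute.refl t)) (by
      rw [Commute, SemiconjBy, ← mul_inv_eq_iff_eq_mul]
      calc g * t * z * (g * t)⁻¹ = g * (t * z * t⁻¹) * g⁻¹ := by group
        _ = (g * z * g⁻¹)⁻¹ := by rw [ti z hz.1]; group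
        _ = z := by rw [← hk']; exact inv_eq_of_mul_eq_one_right (by rw [← pow_succ, z3]))
    simpa using mul_mem (mem_sup_left this : g * t ∈ zpowers b ⊔ zpowers t) (inv_mem (mem_sup_right (mem_zpowers t)))

end Cfsg.Agent.H10.Am
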