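import Cfsg.Agent.FT.BG01

/-! Elementary abelian groups of order eight acting on odd `p`-groups with few noncyclic centralisers. -/

set_option autoImplicit false
set_option linter.unusedSectionVars false

namespace Cfsg.Agent.H5g

open Cfsg Subgroup Cfsg.Agent.FT
open scoped commutatorElement

variable {G : Type*} [Group G] [Finite G] {A A₀ B B' C K V : Subgroup G} {t u x y : G} {p : ℕ}

theorem inv_of_fpf (hz : x * x = 1) (hn : x ∈ N(V)) (h : V ⊓ C[x] = ⊥) (hv : y ∈ V) : x * y * x⁻¹ = y⁻¹ := by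
  have h1 : MonoidHom.FixedPointFree ⇑(pfun (autHom V) x : MulAut V) := fun v e => Subtype.ext (eq_one_of_mem_inf h v.2 (by
    have := congrArg Subtype.val e
    rw [pfun_autHom hn] at this
    exact mem_cen1.2 (mul_inv_eq_iff_eq_mul.1 this).symm))
  have h2 : Function.Involutive ⇑(pfun (autHom V) x : MulAut V) := fun v => by
    rw [← MulAut.mul_apply, ← pfun_mul _ hn hn, hz, pfun_one, MulAut.one_apply]
  have := congrArg Subtype.val (congrFun (h1.coe_eq_inv_of_involutive h2) ⟨y, hv⟩)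
  rwa [pfun_autHom hn] at this

theorem ab_of_inv (h : ∀ v ∈ V, x * v * x⁻¹ = v⁻¹) : Ab V := ab_iff_forall.2 fun a ha b hb => by
  have := h _ (mul_mem ha hb)
  rw [show x * (a * b) * x⁻¹ = (x * a * x⁻¹) * (x * b * x⁻¹) by group, h a ha, h b hb, ← mul_inv_rev, inv_inj] at this
  exact this.symm

theorem cyc_cent (hC : Cyc C) (hp : PGrp p C) (hn : B ≤ N(C)) (hc : Cop C B) (h : C ⊓ C(B) ≠ ⊥) : C ≤ C(B) := by
  have d := coprime_abelian_cent_dprod hn hc hC.ab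
  rcases hC.eq_of_sup hp d.sup with e | e
  · exact absurd (by have := d.inf; rwa [e, ← inf_assoc, inf_idem] at this) h
  · exact inf_eq_left.1 e

/-- the hypotheses -/
structure Hy (p : ℕ) (K A : Subgroup G) : Prop where
  odd : p ≠ 2
  pK : PGrp p K
  ab : Abelem 2 A
  card : #A = 8
  nrm : A ≤ N(K)
  ff : A ⊓ C(K) = ⊥

/-- good hyperplanes -/
structure Gd (K A B : Subgroup G) : Prop where
  le : B ≤ A
  idx : B.relIndex A = 2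
  not : ¬ K ⊓ C(B) ≤ C(A)

namespace Hy

theorem cop (h : Hy p K A) : Cop K A := h.pK.cop_of_ne (h.ab.pGrp Nat.prime_two) h.odd

theorem sq (h : Hy p K A) (ht : t ∈ A) : t * t = 1 := by rw [← pow_two]; exact h.ab.pow ht

theorem ex (h : Hy p K A) (ht : t ∈ A) (t1 : t ≠ 1) : ∃ B, Gd K A B ∧ t ∉ B := by
  by_contra! hn
  refine t1 (eq_one_of_mem_inf h.ff ht (le_cen1.1 (coprime_abelem_gen_cent Nat.prime_two h.ab (ne_bot_of_mem ht t1)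
    h.nrm h.cop fun B h1 h2 => ?_)))
  by_cases e : K ⊓ C(B) ≤ C(A)
  exacts [e.trans (cen_le_cen1 ht), inf_le_right.trans (cen_le_cen1 (hn B ⟨h1, h2, e⟩))]

theorem card4 (h : Hy p K A) (g : Gd K A B) : #B = 4 := by
  have := card_mul_relIndex g.le
  rw [g.idx, h.card] at this; omega

theorem sup (g : Gd K A B) (h1 : V ≤ A) (h2 : ¬ V ≤ B) : B ⊔ V = A :=
  (maxIn_of_prime_relIndex (g.idx ▸ Nat.prime_two) g.le).sup_eq h1 h2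

theorem pair (h : Hy p K A) (g : Gd K A B) (g' : Gd K A B') (hn : ¬ B ≤ B') :
    ∃ t, t ≠ 1 ∧ t ∈ B ∧ t ∈ B' ∧ ∀ u ∈ B, u ∈ B' → u = 1 ∨ u = t := by
  have a := card_mul_le g.le g'.le
  have b := card_dvd (inf_le_left : B ⊓ B' ≤ B)
  have c := card_lt (lt_of_le_of_ne (inf_le_left : B ⊓ B' ≤ B) fun e => hn (inf_eq_left.1 e))
  rw [h.card4 g] at a b c
  rw [h.card4 g', h.card] at a
  have d : #(B ⊓ B') = 2 := by
    generalize #(B ⊓ B') = m at *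
    interval_cases m <;> omega
  obtain ⟨t, ht, t1⟩ := exists_ne_one (ne_bot_of_prime_card (d ▸ Nat.prime_two))
  refine ⟨t, t1, ht.1, ht.2, fun u h1 h2 => ?_⟩
  have e : u ∈ ⟪t⟫ := eq_zpowers_of_prime (d ▸ Nat.prime_two) ht t1 ▸ (⟨h1, h2⟩ : u ∈ B ⊓ B')
  obtain ⟨k, rfl⟩ := mem_zpowers_iff.1 e
  have t2 : t ^ (2 : ℤ) = 1 := by rw [zpow_two, h.sq (g.le ht.1)]
  rcases Int.even_or_odd' k with ⟨m, rfl | rfl⟩
  · left; rw [zpow_mul, t2, one_zpow]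
  · right; rw [zpow_add, zpow_mul, t2, one_zpow, one_mul, zpow_one]

theorem nC (h : Hy p K A) (hu : u ∈ A) : A ≤ N(K ⊓ C[u]) := normsI h.nrm (norms_cen1 (h.ab.ab.le_cen1 hu))

theorem cent (h : Hy p K A) (g : Gd K A B) (hu : u ∈ B) (hc : Cyc (K ⊓ C[u])) : K ⊓ C[u] ≤ C(B) :=
  cyc_cent hc (h.pK.inf_left _) (g.le.trans (h.nC (g.le hu))) (h.cop.mono inf_le_left g.le) fun e => g.not
    ((eq_bot_of_le (le_inf (inf_le_inf_left _ (cen_le_cen1 hu)) inf_le_right) e).le.trans bot_le)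

theorem broad (h : Hy p K A) (g : Gd K A B) (g' : Gd K A B') (hn : ¬ B' ≤ B) (h1 : t ∈ B) (h2 : t ∈ B') :
    ¬ Cyc (K ⊓ C[t]) := fun hc => g.not ((inf_le_inf_left _ (cen_le_cen1 h1)).trans
  (sup g g'.le hn ▸ centsY (h.cent g h1 hc) (h.cent g' h2 hc)))

theorem fpf (h : Hy p K A) (g : Gd K A B) (hu : u ∈ B) (hc : Cyc (K ⊓ C[u])) (ht : t ∈ A) (hn : t ∉ B) :
    K ⊓ C[u] ⊓ C[t] = ⊥ := by
  by_contra e
  rw [← cen_zpowers t] at e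
  exact g.not ((inf_le_inf_left _ (cen_le_cen1 hu)).trans (sup g (zpowers_le.2 ht) (fun a => hn (zpowers_le.1 a)) ▸
    centsY (h.cent g hu hc) (cyc_cent hc (h.pK.inf_left _) ((zpowers_le.2 ht).trans (h.nC (g.le hu)))
      (h.cop.mono inf_le_left (zpowers_le.2 ht)) e)))

theorem ne_bot (g : Gd K A B) (hu : u ∈ B) : K ⊓ C[u] ≠ ⊥ := fun e =>
  g.not (((inf_le_inf_left _ (cen_le_cen1 hu)).trans e.le).trans bot_le)

end Hy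

theorem mem_two {X Y : Subgroup G} (h : X.relIndex Y = 2) (hx : x ∈ Y) (hy : y ∈ Y) : x * y ∈ X ↔ (x ∈ X ↔ y ∈ X) :=
  mul_mem_iff_of_index_two (H := X.subgroupOf Y) h (a := ⟨x, hx⟩) (b := ⟨y, hy⟩)

theorem main (hp : p.Prime) (h : Hy p K A) (h0 : A₀ < A) (h1 : ∀ t ∈ A₀, t ≠ 1 → Cyc (K ⊓ C[t]))
    (h2 : ∀ t ∈ A, ∀ u ∈ A, t ≠ 1 → u ≠ 1 → ¬ Cyc (K ⊓ C[t]) → ¬ Cyc (K ⊓ C[u]) → t * u ∈ A₀) :
    Ab K ∧ (∃ a b c, ⟪a⟫ ⊔ ⟪b⟫ ⊔ ⟪c⟫ = K) ∧ (¬ ∃ a b, ⟪a⟫ ⊔ ⟪b⟫ = K) ∧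
      ∃ t₁ t₂ t₃ : G, t₁ ≠ t₂ ∧ t₁ ≠ t₃ ∧ t₂ ≠ t₃ ∧
        (∀ t, (t ∈ A ∧ t ≠ 1 ∧ ¬ Cyc (K ⊓ C[t])) ↔ t = t₁ ∨ t = t₂ ∨ t = t₃) ∧
        (∀ t ∈ A, t ∈ ⟪t₁⟫ ⊔ ⟪t₂⟫ ⊔ ⟪t₃⟫) ∧ ∀ t ∈ A₀, t = 1 ∨ t = t₁ * t₂ ∨ t = t₁ * t₃ ∨ t = t₂ * t₃ := by
  obtain ⟨a₀, ha₀, a1⟩ := exists_ne_one (ne_bot_of_one_lt_card (by rw [h.card]; norm_num) : A ≠ ⊥)
  obtain ⟨B₁, g₁, -⟩ := h.ex ha₀ a1
  obtain ⟨a, ha, a1⟩ := exists_ne_one (ne_bot_of_one_lt_card (by rw [h.card4 g₁]; norm_num) : B₁ ≠ ⊥)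
  obtain ⟨B₂, g₂, a2⟩ := h.ex (g₁.le ha) a1
  obtain ⟨t₃, n₃, m31, m32, u₃⟩ := h.pair g₁ g₂ fun e => a2 (e ha)
  obtain ⟨B₃, g₃, m33⟩ := h.ex (g₁.le m31) n₃
  obtain ⟨t₂, n₂, m21, m23, u₂⟩ := h.pair g₁ g₃ fun e => m33 (e m31)
  obtain ⟨t₁, n₁, m12, m13, u₁⟩ := h.pair g₂ g₃ fun e => m33 (e m32)
  have m22 : t₂ ∉ B₂ := fun e => (u₃ _ m21 e).elim n₂ fun e => m33 (e ▸ m23)
  have m11 : t₁ ∉ B₁ := fun e => (u₃ _ e m12).elim n₁ fun e => m33 (e ▸ m13)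
  have A1 := g₂.le m12
  have A2 := g₁.le m21
  have A3 := g₁.le m31
  have b₁ := h.broad g₂ g₃ (fun e => m22 (e m23)) m12 m13
  have b₂ := h.broad g₁ g₃ (fun e => m11 (e m13)) m21 m23
  have b₃ := h.broad g₁ g₂ (fun e => m11 (e m12)) m31 m32
  have s := fun {t} => h.sq (t := t)
  have cm := fun {t u} => h.ab.ab.comm (x := t) (y := u)
  have iv : ∀ {t}, t ∈ A → t⁻¹ = t := fun ht => inv_eq_of_mul_eq_one_right (s ht)
  have triv : ∀ t ∈ A, t ∈ B₁ → t ∈ B₂ → t ∈ B₃ → t = 1 := fun t _ k1 k2 k3 =>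
    (u₃ t k1 k2).resolve_right fun e => m33 (e ▸ k3)
  have eqv : ∀ t ∈ A, ∀ u ∈ A, (t ∈ B₁ ↔ u ∈ B₁) → (t ∈ B₂ ↔ u ∈ B₂) → (t ∈ B₃ ↔ u ∈ B₃) → t = u :=
    fun t ht u hu k1 k2 k3 => by
      have := triv _ (mul_mem ht hu) ((mem_two g₁.idx ht hu).2 k1) ((mem_two g₂.idx ht hu).2 k2)
        ((mem_two g₃.idx ht hu).2 k3)
      rw [eq_inv_of_mul_eq_one_left this, iv hu]
  have A12 := mul_mem A1 A2
  have A13 := mul_mem A1 A3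
  have A23 := mul_mem A2 A3
  have A123 := mul_mem A12 A3
  have all : ∀ t ∈ A, t = 1 ∨ t = t₁ ∨ t = t₂ ∨ t = t₃ ∨ t = t₁ * t₂ ∨ t = t₁ * t₃ ∨ t = t₂ * t₃ ∨ t = t₁ * t₂ * t₃ := by
    intro t ht
    have e1 := eqv t ht 1 (one_mem _)
    have e2 := eqv t ht _ A1
    have e3 := eqv t ht _ A2
    have e4 := eqv t ht _ A3
    have e5 := eqv t ht _ A12
    have e6 := eqv t ht _ A13
    have e7 := eqv t ht _ A23
    have e8 := eqv t ht _ A123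
    simp only [mem_two g₁.idx A12 A3, mem_two g₂.idx A12 A3, mem_two g₃.idx A12 A3, mem_two g₁.idx A1 A2,
      mem_two g₂.idx A1 A2, mem_two g₃.idx A1 A2, mem_two g₁.idx A1 A3, mem_two g₂.idx A1 A3, mem_two g₃.idx A1 A3,
      mem_two g₁.idx A2 A3, mem_two g₂.idx A2 A3, mem_two g₃.idx A2 A3, one_mem, m11, m12, m13, m21, m22, m23, m31,
      m32, m33, iff_true, iff_false, true_iff, false_iff, not_true, not_false_iff] at e1 e2 e3 e4 e5 e6 e7 e8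
    by_cases k1 : t ∈ B₁ <;> by_cases k2 : t ∈ B₂ <;> by_cases k3 : t ∈ B₃
    · exact .inl (e1 k1 k2 k3)
    · exact .inr (.inr (.inr (.inl (e4 k1 k2 k3))))
    · exact .inr (.inr (.inl (e3 k1 k2 k3)))
    · exact .inr (.inr (.inr (.inr (.inr (.inr (.inl (e7 k1 k2 k3)))))))
    · exact .inr (.inl (e2 k1 k2 k3))
    · exact .inr (.inr (.inr (.inr (.inr (.inl (e6 k1 k2 k3))))))
    · exact .inr (.inr (.inr (.inr (.inl (e5 k1 k2 k3)))))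
    · exact .inr (.inr (.inr (.inr (.inr (.inr (.inr (e8 k1 k2 k3)))))))
  have d12 : t₁ ≠ t₂ := fun e => m11 (e ▸ m21)
  have d13 : t₁ ≠ t₃ := fun e => m11 (e ▸ m31)
  have d23 : t₂ ≠ t₃ := fun e => m22 (e ▸ m32)
  have ne : ∀ {t u}, u ∈ A → t ≠ u → t * u ≠ 1 := fun hu k e => k (by rw [eq_inv_of_mul_eq_one_left e, iv hu])
  have z12 := h2 _ A1 _ A2 n₁ n₂ b₁ b₂
  have z13 := h2 _ A1 _ A3 n₁ n₃ b₁ b₃
  have z23 := h2 _ A2 _ A3 n₂ n₃ b₂ b₃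
  have c₃ := h1 _ z12 (ne A2 d12)
  have c₂ := h1 _ z13 (ne A3 d13)
  have c₁ := h1 _ z23 (ne A3 d23)
  have y1 : t₁ ∉ A₀ := fun e => b₁ (h1 _ e n₁)
  have hA₀ : ∀ t ∈ A₀, t = 1 ∨ t = t₁ * t₂ ∨ t = t₁ * t₃ ∨ t = t₂ * t₃ := fun t ht => by
    rcases all t (h0.le ht) with e | e | e | e | e | e | e | e
    · exact .inl e
    · exact (y1 (e ▸ ht)).elim
    · exact (b₂ (h1 _ (e ▸ ht) n₂)).elim
    · exact (b₃ (h1 _ (e ▸ ht) n₃)).elim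
    · exact .inr (.inl e)
    · exact .inr (.inr (.inl e))
    · exact .inr (.inr (.inr e))
    · exact (y1 ((mul_mem_cancel_right z23).1 (by rw [← mul_assoc, ← e]; exact ht))).elim
  have w₁ := mul_mem m21 m31
  have w₂ := mul_mem m12 m32
  have w₃ := mul_mem m13 m23
  have f₁ := h.fpf g₁ w₁ c₁ A1 m11
  have f₂ := h.fpf g₂ w₂ c₂ A2 m22
  have f₃ := h.fpf g₃ w₃ c₃ A3 m33
  have k₁ := h.cent g₁ w₁ c₁
  have k₂ := h.cent g₂ w₂ c₂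
  have k₃ := h.cent g₃ w₃ c₃
  have gen : K ≤ (K ⊓ C[t₂ * t₃]) ⊔ (K ⊓ C[t₁ * t₃]) ⊔ (K ⊓ C[t₁ * t₂]) := by
    refine coprime_abelian_gen_cent1 (h.ab.ab.mono h0.le) (fun hc => ?_) (h0.le.trans h.nrm) (h.cop.mono_right h0.le)
      fun t ht t1 => ?_
    · have a := hc.card_dvd_of_pow (n := 2) fun x hx => h.ab.pow (h0.le hx)
      have o : ∀ {t}, t ∈ A₀ → t ≠ 1 → A₀ = ⟪t⟫ := fun ht t1 => cyc_of_card_le_orderOf ht
        (h.ab.orderOf Nat.prime_two (h0.le ht) t1 ▸ Nat.le_of_dvd (by norm_num) a)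
      have : t₁ * t₃ ∈ B₃ := zpowers_le.2 w₃ (o z12 (ne A2 d12) ▸ z13)
      exact m33 ((mul_mem_cancel_left m13).1 this)
    · rcases hA₀ t ht with e | rfl | rfl | rfl
      exacts [absurd e t1, le_sup_right, le_sup_right.trans le_sup_left, le_sup_left.trans le_sup_left]
  have cmt : ∀ {r u} {X Y : Subgroup G}, r ∈ A → u ∈ A → K ⊓ C[u] ⊓ C[r] = ⊥ → X ≤ K ⊓ C[r] → Y ≤ K ⊓ C[r] → X ≤ C(Y) :=
    fun {r u X Y} hr hu hf hX hY => (ab_of_inv fun v hv => inv_of_fpf (V := K ⊓ C[r]) (h.sq hu) (h.nC hr hu)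
      (by rwa [inf_right_comm]) hv).cents hY hX
  have x12 : K ⊓ C[t₁ * t₃] ≤ C(K ⊓ C[t₂ * t₃]) := cmt A3 A12 f₃ (le_inf inf_le_left (k₂.trans (cen_le_cen1 m32)))
    (le_inf inf_le_left (k₁.trans (cen_le_cen1 m31)))
  have x13 : K ⊓ C[t₁ * t₂] ≤ C(K ⊓ C[t₂ * t₃]) := cmt A2 A13 f₂ (le_inf inf_le_left (k₃.trans (cen_le_cen1 m23)))
    (le_inf inf_le_left (k₁.trans (cen_le_cen1 m21)))
  have x23 : K ⊓ C[t₁ * t₂] ≤ C(K ⊓ C[t₁ * t₃]) := cmt A1 A23 f₁ (le_inf inf_le_left (k₃.trans (cen_le_cen1 m13)))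
    (le_inf inf_le_left (k₂.trans (cen_le_cen1 m12)))
  have eK := le_antisymm (sup_le (sup_le inf_le_left inf_le_left) inf_le_left) gen
  have D1 : DP (K ⊓ C[t₂ * t₃]) (K ⊓ C[t₁ * t₃]) _ := ⟨x12, rfl, inf_eq_bot_mono f₁ le_rfl (k₂.trans (cen_le_cen1 m12))⟩
  have D2 : DP _ (K ⊓ C[t₁ * t₂]) K := ⟨centsY x13 x23, eK, by
    rw [inf_comm]
    exact inf_eq_bot_mono f₃ le_rfl (sup_le (k₁.trans (cen_le_cen1 m31)) (k₂.trans (cen_le_cen1 m32)))⟩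
  have abK : Ab K := D2.cp.ab (D1.cp.ab c₁.ab c₂.ab) c₃.ab
  refine ⟨abK, ?_, ?_, t₁, t₂, t₃, d12, d13, d23, fun t => ⟨fun ⟨ht, t1, hb⟩ => ?_, ?_⟩, fun t ht => ?_, hA₀⟩
  · obtain ⟨a, ea⟩ := cyc_iff.1 c₁
    obtain ⟨b, eb⟩ := cyc_iff.1 c₂
    obtain ⟨c, ec⟩ := cyc_iff.1 c₃
    exact ⟨a, b, c, by rw [← ea, ← eb, ← ec, eK]⟩
  · rintro ⟨a, b, e⟩
    have r : ∀ {X : Subgroup G}, K ⊓ X ≠ ⊥ → 0 < prank p (K ⊓ X) := fun k => prank_pos hp ((h.pK.inf_left _).dvd k)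
    have r1 := r (Hy.ne_bot g₁ w₁)
    have r2 := r (Hy.ne_bot g₂ w₂)
    have r3 := r (Hy.ne_bot g₃ w₃)
    have r4 := D1.prank_eq (p := p)
    have r5 := D2.prank_eq (p := p)
    have r6 := prank_sup_le (p := p) ((le_sup_right.trans e.le).trans (abK.norms (le_sup_left.trans e.le)))
    have r7 := (cyc_zpowers a).prank_le p
    have r8 := ((cyc_zpowers b).quo ⟪a⟫).prank_le p
    rw [e] at r6
    omega
  · rcases all t ht with e | e | e | e | e | e | e | e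
    · exact absurd e t1
    · exact .inl e
    · exact .inr (.inl e)
    · exact .inr (.inr e)
    · exact (hb (e ▸ c₃)).elim
    · exact (hb (e ▸ c₂)).elim
    · exact (hb (e ▸ c₁)).elim
    · have z := h2 _ ht _ A3 t1 n₃ hb b₃
      refine (hb ?_).elim
      have i : ∀ {r u}, r ∈ A → u ∈ A → t = r * u → K ⊓ C[u] ⊓ C[r] = ⊥ → ∀ v ∈ K ⊓ C[u], t * v * t⁻¹ = v⁻¹ :=
        fun {r u} hr hu e hf v hv => by
          rw [e, ← inv_of_fpf (h.sq hr) (h.nC hu hr) hf hv, mul_assoc r, ← mem_cen1.1 hv.2]; group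
      have i1 := i A1 A23 (by rw [e, mul_assoc]) f₁
      have i2 := i A2 A13 (by rw [e, cm A1 A2, mul_assoc]) f₂
      have i3 := i A3 A12 (by rw [e, cm A12 A3]) f₃
      have : K ⊓ C[t] = ⊥ := eq_bot_iff.2 fun v hv => by
        obtain ⟨w, hw, c, hc, rfl⟩ := D2.mulEq.mul _ hv.1
        obtain ⟨a, ha, b, hb, rfl⟩ := D1.mulEq.mul _ hw
        have q : t * (a * b * c) * t⁻¹ = (a * b * c)⁻¹ := by
          rw [show t * (a * b * c) * t⁻¹ = (t * a * t⁻¹) * (t * b * t⁻¹) * (t * c * t⁻¹) by group, i1 a ha, i2 b hb,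
            i3 c hc, abK.comm (mul_mem ha.1 hb.1) hc.1, abK.comm ha.1 hb.1]; group
        rw [← mem_cen1.1 hv.2, mul_inv_cancel_right] at q
        refine mem_bot.2 ((pElt_of_pow_eq_one Nat.prime_two ?_).eq_one_of_mem (h.pK.p' h.odd) hv.1)
        rw [pow_two]; nth_rw 2 [q]; exact mul_inv_cancel _
      exact this ▸ cyc_bot
  · rintro (rfl | rfl | rfl)
    exacts [⟨A1, n₁, b₁⟩, ⟨A2, n₂, b₂⟩, ⟨A3, n₃, b₃⟩]
  · have q1 : t₁ ∈ ⟪t₁⟫ ⊔ ⟪t₂⟫ ⊔ ⟪t₃⟫ := mem_sup_left (mem_sup_left (mem_zpowers _))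
    have q2 : t₂ ∈ ⟪t₁⟫ ⊔ ⟪t₂⟫ ⊔ ⟪t₃⟫ := mem_sup_left (mem_sup_right (mem_zpowers _))
    have q3 : t₃ ∈ ⟪t₁⟫ ⊔ ⟪t₂⟫ ⊔ ⟪t₃⟫ := mem_sup_right (mem_zpowers _)
    rcases all t ht with rfl | rfl | rfl | rfl | rfl | rfl | rfl | rfl
    exacts [one_mem _, q1, q2, q3, mul_mem q1 q2, mul_mem q1 q3, mul_mem q2 q3, mul_mem (mul_mem q1 q2) q3]

end Cfsg.Agent.H5g
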