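import Mathlib
import Cfsg.Agent.H5.StabQ

/-! Control of strong fusion by `ZJ` in `p`-stable groups. -/

set_option autoImplicit false

namespace Cfsg.Agent.H5b

open Subgroup Cfsg.Agent.H22
open Cfsg.Agent.H18 hiding cj mem_cj conj_mem_cj conj_mem_cj_iff cj_le_iff cj_cj cj_one cj_inv_cj
  cj_cj_inv cj_mono cj_inf cj_sup cj_eq_iff cj_eq_of_mem cj_eq_of_normal cj_top card_cj isPGroup_cj
open scoped commutatorElement

universe u

variable {p : ℕ} [Fact p.Prime]

section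
open Cfsg.Agent.H21
variable {G : Type u} [Group G] [Finite G] {𝓦 : Set CFun.{u}}

theorem fusMin_chp' (h𝓦 : ∀ W ∈ 𝓦, IsCharPFunctor.{u} p W) {S : Subgroup G} (hS : SylIn p S ⊤)
    (hsub : ∀ H : Subgroup G, H ≠ ⊤ → FusT p 𝓦 H)
    (hq1 : [(pPrimeCore p G).Normal] → pPrimeCore p G ≠ ⊥ → FusT p 𝓦 (G ⧸ pPrimeCore p G))
    (hq2 : [(pCore p G).Normal] → pCore p G ≠ ⊥ → S ⊔ C[pCore p G] = ⊤ → FusT p 𝓦 (G ⧸ pCore p G))
    (hG : ¬ FusAt (CAdm 𝓦) ⊤ S) : C[pCore p G] ≤ pCore p G := by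
  have hO : pPrimeCore p G = ⊥ := by
    by_contra h0
    have := H2.pPrimeCore_characteristic (p := p) (G := G)
    exact hG (fusAt_of_quot_coprime h𝓦 hS H2.pPrimeCore_coprime
      (hq1 h0 _
        (sylIn_map_top hS _ (QuotientGroup.mk'_surjective _))))
  refine chp_of_inf_C_le hS hO ?_
  by_contra hc
  have hover : ∀ H, S ≤ H → H ≠ ⊤ → ∀ {A : Set G} {g : G}, g ∈ H → A ⊆ S → Into A g S →
      Reach (FStep (CAdm 𝓦) ⊤ S) S A g := fun H h1 h2 A g hg hA hI =>
    ((hsub H h2).at h𝓦 (hS.mono h1 le_top) A g hg hA hI).imp le_rfl (FStep.mono le_top)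
  have := normal_pCore (p := p) (G := G)
  set Q := pCore p G with hQ
  have := normal_C Q
  have hQS : Q ≤ S := pCore_le_syl hS
  have hQ0 : Q ≠ ⊥ := by
    intro h0
    refine hG (fusAt_of_local_fn (cf_IW h𝓦) hS fun U h1 h2 h3 => ?_)
    refine (hsub _ fun h => h2 ?_).at h𝓦 h3
    exact le_bot_iff.1 (h0 ▸ le_pCore (normal_of_top_le_N h.ge) (hS.isP.to_le h1))
  have hSQ : ¬ S ≤ Q := fun h => hc (inf_le_left.trans h)
  have hSt : S ≠ ⊤ := fun h => hSQ (le_pCore (h ▸ inferInstance) hS.isP)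
  refine hG fun A g _ => reach_of_centric hS FStep.inv (fun B hB hsyl _ IH x hx => ?_) A g
  by_cases hQB : Q ≤ B
  swap
  · exact reach_of_N_lt IH hB hQS hQB hx (mem_N_of_normal _ _)
  have hinto : ∀ y ∈ N[B], Into B y S := fun y hy =>
    into_iff_cj.2 (by rw [cj_eq_of_mem_N hy]; exact hB)
  by_cases hH : S ⊔ C[Q] = ⊤
  · -- pass to the quotient by `Q`
    have hs := QuotientGroup.mk'_surjective Q
    have hS' := sylIn_map_top hS _ hs
    have hS0 : S.map (QuotientGroup.mk' Q) ≠ ⊥ := by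
      rwa [Ne, Subgroup.map_eq_bot_iff, QuotientGroup.ker_mk']
    have hcm : ∀ D : Subgroup G, Q ≤ D → ∀ z, QuotientGroup.mk' Q z ∈ D.map (QuotientGroup.mk' Q) →
        z ∈ D := fun D hD z hz => by
      rwa [← mem_comap, comap_map_eq, QuotientGroup.ker_mk', sup_eq_left.2 hD] at hz
    obtain ⟨c, rc, ec⟩ := (hq2 hQ0 hH _ hS'
      (QuotientGroup.mk' Q '' B) (QuotientGroup.mk' Q x) trivial
      (by rintro _ ⟨a, ha, rfl⟩; exact mem_map_of_mem _ (hB ha)) (by
        rintro _ ⟨a, ha, rfl⟩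
        simpa using mem_map_of_mem (QuotientGroup.mk' Q) (hinto x hx a ha))).lift
      (M := FStep (CAdm 𝓦) ⊤ S) (QuotientGroup.mk' Q) hB (by
        rintro x' ⟨M, hM, -, hx'⟩ D hD hI
        obtain ⟨W, hW, rfl⟩ := cAdm_iff.1 hM
        obtain ⟨y, rfl⟩ := hs x'
        have hcf := cf_induced (G := G ⧸ Q) (h𝓦 W hW)
        refine ⟨y, hover _ (map_le_iff_le_comap.1 (le_normalizer.trans (cf_N_le hcf hS'.isP)))
          (comap_N_ne_top (hS'.isP.to_le (inducedFunctor_le _ _)) ((hcf _ hS'.isP).2.1 hS0)) hx' hD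
          (fun a ha => hcm S hQS _ (by simpa using hI _ ⟨a, ha, rfl⟩)), Agree.refl _ _⟩)
    have hy : c⁻¹ * x ∈ cmod B Q := by
      refine mem_cmod.2 ⟨mem_N_of_normal _ _, fun b hb => ?_⟩
      have := agree_iff_mem_C.1 ec.symm _ ⟨b, hb, rfl⟩
      rw [← QuotientGroup.eq_one_iff, ← QuotientGroup.mk'_apply, map_commutatorElement,
        commutatorElement_eq_one_iff_mul_comm, map_mul, map_inv]
      exact this
    have hL : cmod B Q ≤ N[B] := le_N_of_comm_le ((le_cmod_normal.1 le_rfl).trans hQB)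
    have hsyl' := syl_inf' hsyl (le_N_cmod le_rfl (le_N_of_normal _ _)) hL
    have h1 : cmod B Q ≤ C[B] ⊔ S ⊓ N[B] ⊓ cmod B Q := by
      refine le_sup_syl hsyl' (hL.trans (N_le_N_C B)) fun z hz => ?_
      obtain ⟨k, hk⟩ := exists_pow_coprime (p := p) (isOfFinOrder_of_finite z)
      refine ⟨k, mem_C_of_chain (hS.isP.to_le hB) (hL (pow_mem hz _)) hk
        (le_cmod_normal.1 (zpowers_le.2 (pow_mem hz _))) ?_⟩
      exact pResidualOf_le_of_le_sup hS.isP (le_N_of_normal _ _) (H := ⊤)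
        (by rw [sup_comm, hH]) (mem_pResidualOf trivial hk)
    rw [sup_comm] at h1
    obtain ⟨s, hs', z, hz, e⟩ := (mem_sup_of_le_N
      (inf_le_left.trans (inf_le_right.trans (N_le_N_C B)))).1 (h1 hy)
    have r1 : Reach (FStep (CAdm 𝓦) ⊤ S) S B s := hover S le_rfl hSt hs'.1.1 hB (hinto s hs'.1.2)
    have r2 := r1.trans (h := c) (by rwa [cs_coe, cj_eq_of_mem_N hs'.1.2])
    have e' : x = c * s * z := by rw [mul_assoc, e]; group
    rw [e']
    exact r2.congr (agree_mul_C hz).symm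
  · have hK : N[B] ≤ N[Q ⊔ C[Q]] := le_N_of_normal _ _
    have h1 := syl_inf hsyl hK
    obtain ⟨n, hn, k, hk, rfl⟩ := syl_frattini' h1 (mem_N_inf (le_normalizer hx) (hK hx))
    have hn' : n ∈ N[B] := by simpa using mul_mem hx (inv_mem hk.1)
    have r1 : Reach (FStep (CAdm 𝓦) ⊤ S) S B k :=
      hover _ le_sup_left hH (sup_le_sup_right hQS _ hk.2) hB (hinto k hk.1)
    refine r1.trans ?_
    rw [cs_coe, cj_eq_of_mem_N hk.1]
    by_cases hP : S ⊓ N[B] ⊓ (Q ⊔ C[Q]) ≤ B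
    swap
    · exact reach_of_N_lt IH hB (inf_le_left.trans inf_le_left) hP hn' hn
    have h2 : S ⊓ (Q ⊔ C[Q]) ≤ B := by
      have h3 : B ⊔ S ⊓ (Q ⊔ C[Q]) ≤ S := sup_le hB inf_le_left
      have h4 : B ≤ N[S ⊓ (Q ⊔ C[Q])] := le_N_inf (hB.trans le_normalizer) (le_N_of_normal _ _)
      have := pgrp_eq_of_inf_N_le (hS.isP.to_le h3) le_sup_left (by
        rw [dedekind_N h4 le_normalizer]
        exact sup_le le_rfl (le_trans (by
          exact le_inf (le_inf (inf_le_left.trans inf_le_left) inf_le_right)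
            (inf_le_left.trans inf_le_right)) hP))
      exact le_sup_right.trans this.ge
    have e : S ⊓ (Q ⊔ C[Q]) = B ⊓ (Q ⊔ C[Q]) :=
      le_antisymm (le_inf h2 inf_le_right) (inf_le_inf_right _ hB)
    refine hover N[S ⊓ (Q ⊔ C[Q])] (le_N_inf le_normalizer (le_N_of_normal _ _)) (fun h => hc ?_)
      (by rw [e]; exact mem_N_inf hn' (mem_N_of_normal _ _)) hB (hinto n hn')
    exact (inf_le_inf_left _ le_sup_right).trans
      (le_pCore (normal_of_top_le_N h.ge) hS.isP.to_inf_left)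

/-- Control of fusion in a class of groups closed under subgroups, `p'`-quotients and
hypercentral `p`-quotients. -/
theorem fusT_of_class (h𝓦 : ∀ W ∈ 𝓦, IsCharPFunctor.{u} p W) (𝒞 : ∀ (X : Type u) [Group X], Prop)
    (hsub : ∀ (X : Type u) [Group X] [Finite X] (H : Subgroup X), 𝒞 X → 𝒞 H)
    (hq1 : ∀ (X : Type u) [Group X] [Finite X] (K : Subgroup X) [K.Normal],
      (Nat.card K).Coprime p → 𝒞 X → 𝒞 (X ⧸ K))
    (hq2 : ∀ (X : Type u) [Group X] [Finite X] (K : Subgroup X) [K.Normal], IsPGroup p K →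
      pResidualOf p ⊤ ≤ C[K] → 𝒞 X → 𝒞 (X ⧸ K))
    (h : ∀ (X : Type u) [Group X] [Finite X], 𝒞 X → C[pCore p X] ≤ pCore p X → FusT p 𝓦 X)
    (hG : 𝒞 G) : FusT p 𝓦 G := by
  generalize hn : Nat.card G = n
  induction n using Nat.strong_induction_on generalizing G with
  | _ n ih =>
  subst hn
  intro S hS
  by_contra hc
  refine hc (h G hG (fusMin_chp' h𝓦 hS
    (fun H hH => ih _ (card_lt_of_ne_top' hH) (hsub G H hG) rfl)
    (fun h0 => ih _ (H2.card_quotient_lt_of_ne_bot h0) (hq1 G _ H2.pPrimeCore_coprime hG) rfl)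
    (fun h0 h1 => ih _ (H2.card_quotient_lt_of_ne_bot h0) (hq2 G _ pgrp_pCore ?_ hG) rfl) hc) S hS)
  exact pResidualOf_le_of_le_sup hS.isP (hS.le.trans (le_N_C (le_N_of_normal _ _)))
    (by rw [sup_comm, h1])

end

variable {G : Type u} [Group G] [Finite G] {n : ℕ} {S : Subgroup G}

/-- Glauberman: in a `p`-stable group `N(ZJ(S))` controls strong fusion. -/
theorem ctl_ZJn_of_stable (hp2 : p ≠ 2) (hn : n = 0 ∨ n = p) (hst : IsNormalizerPStable p G)
    (hS : SylIn p S ⊤) : Ctl ⊤ S N[ZJn n S] := by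
  have := fusT_of_class (𝓦 := {toC fun _ _ S => ZJn n S}) (G := G)
    (fun W hW => hW ▸ isCharP_ZJn hn) (fun X _ => IsNormalizerPStable p X)
    (fun X _ _ H h => stable_subgroup h H) (fun X _ _ K _ hK h => stable_quotient_coprime h K hK)
    (fun X _ _ K _ hK hc h => stable_quotient_central hp2 h K hK hc)
    (fun X _ _ h hc T hT => H21.fusAt_of_normal rfl (by
      obtain ⟨T, rfl⟩ := hT.exists_sylow_top
      rw [(isFn_ZJn n).induced_toC]
      exact ZJn_sylow_normal hp2 hn hc (stab_of_normalizerPStable h) T)) hst S hS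
  rw [H21.cAdm_single, fusAt_iff_ctl, (isFn_ZJn n).induced_toC] at this
  exact this.mono inf_le_right

end Cfsg.Agent.H5b
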