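import Mathlib

/-! Numerical part of Hayden's theorem on groups with `3`-local subgroup `3² : D₈`. -/

set_option autoImplicit false
set_option linter.unusedSectionVars false
set_option linter.unusedVariables false

namespace Cfsg.Agent.H5.Hy

open Finset

theorem tri {δ0 δ1 δ2 δ3 x0 x1 x2 x3 y0 y1 y2 y3 α β γ : ℚ} (h3 : δ3 ≠ 0)
    (s0 : δ0 + δ1 + δ2 + δ3 = 0) (sx : δ0 * x0 + δ1 * x1 + δ2 * x2 + δ3 * x3 = 0)
    (sy : δ0 * y0 + δ1 * y1 + δ2 * y2 + δ3 * y3 = 0)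
    (qa : δ0 * (x0 * x0) + δ1 * (x1 * x1) + δ2 * (x2 * x2) + δ3 * (x3 * x3) = α)
    (qb : δ0 * (x0 * y0) + δ1 * (x1 * y1) + δ2 * (x2 * y2) + δ3 * (x3 * y3) = β)
    (qc : δ0 * (y0 * y0) + δ1 * (y1 * y1) + δ2 * (y2 * y2) + δ3 * (y3 * y3) = γ) :
    δ0 * (γ * (x1 - x0) * (x2 - x0) - β * ((x1 - x0) * (y2 - y0) + (x2 - x0) * (y1 - y0)) +
      α * (y1 - y0) * (y2 - y0)) = α * γ - β ^ 2 ∧
    δ0 * δ1 * (γ * (x1 - x0) ^ 2 - 2 * β * (x1 - x0) * (y1 - y0) + α * (y1 - y0) ^ 2) =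
      (α * γ - β ^ 2) * (δ0 + δ1) ∧
    δ0 * δ2 * (γ * (x2 - x0) ^ 2 - 2 * β * (x2 - x0) * (y2 - y0) + α * (y2 - y0) ^ 2) =
      (α * γ - β ^ 2) * (δ0 + δ2) := by
  obtain ⟨a, rfl⟩ : ∃ a, x1 = x0 + a := ⟨x1 - x0, by ring⟩
  obtain ⟨b, rfl⟩ : ∃ a, x2 = x0 + a := ⟨x2 - x0, by ring⟩
  obtain ⟨c, rfl⟩ : ∃ a, y1 = y0 + a := ⟨y1 - y0, by ring⟩
  obtain ⟨d, rfl⟩ : ∃ a, y2 = y0 + a := ⟨y2 - y0, by ring⟩
  obtain rfl : x3 = x0 - (δ1 * a + δ2 * b) / δ3 := by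
    field_simp; linear_combination sx - x0 * s0
  obtain rfl : y3 = y0 - (δ1 * c + δ2 * d) / δ3 := by
    field_simp; linear_combination sy - y0 * s0
  obtain rfl : δ0 = -δ1 - δ2 - δ3 := by linear_combination s0
  have ea : α = δ1 * a * a + δ2 * b * b + (δ1 * a + δ2 * b) ^ 2 / δ3 := by
    rw [← qa]; field_simp; ring
  have eb : β = δ1 * a * c + δ2 * b * d + (δ1 * a + δ2 * b) * (δ1 * c + δ2 * d) / δ3 := by
    rw [← qb]; field_simp; ring
  have ec : γ = δ1 * c * c + δ2 * d * d + (δ1 * c + δ2 * d) ^ 2 / δ3 := by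
    rw [← qc]; field_simp; ring
  clear qa qb qc sx sy s0
  subst ea eb ec
  refine ⟨?_, ?_, ?_⟩ <;> field_simp <;> ring

theorem final {r b d k l m : ℤ} (hr : r = 9 * k + 2) (hb : b = 9 * l + 1) (hd : d = 9 * m + 1)
    {g o1 o2 b1 b2 d1 d2 : ℚ} (hg : g ≠ 0)
    (e1 : r * (o1 ^ 2 + 8 * o2 ^ 2) = 8 * g * (r + 1))
    (e2 : r * (o1 ^ 2 - 6 * o1 * o2 + 11 * o2 ^ 2) = g * (r + 1))
    (e3 : r * b * (b1 ^ 2 - 6 * b1 * b2 + 11 * b2 ^ 2) = g * (r + b))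
    (e4 : r * (o1 * b1 - 3 * (o1 * b2 + b1 * o2) + 11 * o2 * b2) = g)
    (e5 : r * b * (b1 ^ 2 + 2 * b2 ^ 2) = 2 * g * (r + b))
    (e6 : r * d * (d1 ^ 2 + 2 * d2 ^ 2) = 2 * g * (r + d))
    (e7 : r * (b1 * d1 + 2 * b2 * d2) = 2 * g)
    (e8 : r * d * (d1 ^ 2 + 6 * d1 * d2 + 11 * d2 ^ 2) = g * (r + d)) : d = 1 := by
  have r0 : (r : ℚ) ≠ 0 := by exact_mod_cast (by omega : r ≠ 0)
  have b0 : (b : ℚ) ≠ 0 := by exact_mod_cast (by omega : b ≠ 0)
  have d0 : (d : ℚ) ≠ 0 := by exact_mod_cast (by omega : d ≠ 0)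
  have ho : (o1 - 4 * o2) * (7 * o1 - 20 * o2) = 0 :=
    mul_left_cancel₀ r0 (by linear_combination 8 * e2 - e1)
  have hb' : (b1 - 2 * b2) * (b1 - 10 * b2) = 0 :=
    mul_left_cancel₀ (mul_ne_zero r0 b0) (by linear_combination 2 * e3 - e5)
  have hd' : (d1 + 2 * d2) * (d1 + 10 * d2) = 0 :=
    mul_left_cancel₀ (mul_ne_zero r0 d0) (by linear_combination 2 * e8 - e6)
  have k1 : b * (o1 ^ 2 - 6 * o1 * o2 + 11 * o2 ^ 2) * (b1 ^ 2 - 6 * b1 * b2 + 11 * b2 ^ 2) =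
      (r + 1) * (r + b) * (o1 * b1 - 3 * (o1 * b2 + b1 * o2) + 11 * o2 * b2) ^ 2 := by
    refine mul_left_cancel₀ (pow_ne_zero 2 r0) ?_
    calc _ = (r * (o1 ^ 2 - 6 * o1 * o2 + 11 * o2 ^ 2)) *
          (r * b * (b1 ^ 2 - 6 * b1 * b2 + 11 * b2 ^ 2)) := by ring
      _ = (r + 1) * (r + b) * (r * (o1 * b1 - 3 * (o1 * b2 + b1 * o2) + 11 * o2 * b2)) ^ 2 := by
          rw [e2, e3, e4]; ring
      _ = _ := by ring
  have k2 : b * d * (b1 ^ 2 + 2 * b2 ^ 2) * (d1 ^ 2 + 2 * d2 ^ 2) =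
      (r + b) * (r + d) * (b1 * d1 + 2 * b2 * d2) ^ 2 := by
    refine mul_left_cancel₀ (pow_ne_zero 2 r0) ?_
    calc _ = (r * b * (b1 ^ 2 + 2 * b2 ^ 2)) * (r * d * (d1 ^ 2 + 2 * d2 ^ 2)) := by ring
      _ = (r + b) * (r + d) * (r * (b1 * d1 + 2 * b2 * d2)) ^ 2 := by rw [e5, e6, e7]; ring
      _ = _ := by ring
  obtain ⟨j, hj⟩ : ∃ j : ℤ, (r + 1) * (r + b) = 9 * (3 * j + 1) :=
    ⟨k + (k + l) + 3 * k * (k + l), by rw [hr, hb]; ring⟩
  have hj' : ((r : ℚ) + 1) * (r + b) = 9 * (3 * j + 1) := by exact_mod_cast hj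
  have n1 : o1 * b1 - 3 * (o1 * b2 + b1 * o2) + 11 * o2 * b2 ≠ 0 := fun e => hg (by rw [← e4, e, mul_zero])
  have n2 : b1 * d1 + 2 * b2 * d2 ≠ 0 := fun e => hg (by
    rw [e, mul_zero] at e7; linarith)
  rw [hj'] at k1
  have key : b1 = 2 * b2 ∧ b = 3 * j + 1 := by
    rcases mul_eq_zero.1 ho with h | h <;> rcases mul_eq_zero.1 hb' with h' | h'
    · obtain rfl : o1 = 4 * o2 := by linarith
      obtain rfl : b1 = 2 * b2 := by linarith
      have n : (o2 * b2) ^ 2 ≠ 0 := pow_ne_zero 2 fun e => n1 (by linear_combination e)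
      have : (b : ℚ) = 3 * j + 1 := mul_left_cancel₀ n (by linear_combination k1 / 9)
      exact ⟨rfl, by exact_mod_cast this⟩
    · obtain rfl : o1 = 4 * o2 := by linarith
      obtain rfl : b1 = 10 * b2 := by linarith
      have n : (o2 * b2) ^ 2 ≠ 0 := pow_ne_zero 2 fun e => n1 (by linear_combination 9 * e)
      have : 17 * (b : ℚ) = 81 * (3 * j + 1) := mul_left_cancel₀ n (by linear_combination k1 / 9)
      have : 17 * b = 81 * (3 * j + 1) := by exact_mod_cast this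
      omega
    · obtain rfl : o1 = 20 / 7 * o2 := by linarith
      obtain rfl : b1 = 2 * b2 := by linarith
      have n : (o2 * b2) ^ 2 ≠ 0 := pow_ne_zero 2 fun e => n1 (by linear_combination 15 / 7 * e)
      have : 11 * (b : ℚ) = 75 * (3 * j + 1) := mul_left_cancel₀ n (by linear_combination 49 / 27 * k1)
      have : 11 * b = 75 * (3 * j + 1) := by exact_mod_cast this
      omega
    · obtain rfl : o1 = 20 / 7 * o2 := by linarith
      obtain rfl : b1 = 10 * b2 := by linarith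
      have n : (o2 * b2) ^ 2 ≠ 0 := pow_ne_zero 2 fun e => n1 (by linear_combination e)
      have : 561 * (b : ℚ) = 49 * (3 * j + 1) := mul_left_cancel₀ n (by linear_combination 49 / 9 * k1)
      have : 561 * b = 49 * (3 * j + 1) := by exact_mod_cast this
      omega
  obtain ⟨rfl, hbj⟩ := key
  rcases mul_eq_zero.1 hd' with h | h
  · obtain rfl : d1 = -2 * d2 := by linarith
    have n : (b2 * d2) ^ 2 ≠ 0 := pow_ne_zero 2 fun e => n2 (by linear_combination -2 * e)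
    have : 9 * (b : ℚ) * d = (r + b) * (r + d) := mul_left_cancel₀ n (by linear_combination k2 / 4)
    have h1 : 9 * b * d = (r + b) * (r + d) := by exact_mod_cast this
    have h2 : (r + b) * (r * (d - 1)) = 0 := by rw [← hbj] at hj; linear_combination d * hj + h1
    rcases mul_eq_zero.1 h2 with h3 | h3
    · omega
    · rcases mul_eq_zero.1 h3 with h4 | h4 <;> omega
  · obtain rfl : d1 = -10 * d2 := by linarith
    have n : (b2 * d2) ^ 2 ≠ 0 := pow_ne_zero 2 fun e => n2 (by linear_combination -18 * e)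
    have : 17 * ((b : ℚ) * d) = 9 * ((r + b) * (r + d)) :=
      mul_left_cancel₀ n (by linear_combination k2 / 36)
    have h1 : 17 * (b * d) = 9 * ((r + b) * (r + d)) := by exact_mod_cast this
    obtain ⟨n', hn⟩ : ∃ n' : ℤ, b * d = 9 * n' + 1 := ⟨l + m + 9 * l * m, by rw [hb, hd]; ring⟩
    rw [hn] at h1
    omega

/-- the possible multiplicity vectors -/
def VV (a b c e : ℤ) : Prop := (a, b, c, e) ∈ [(0, 0, 0, 0), (1, 0, 1, 0), (-1, 0, -1, 0), (1, 0, 0, 1),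
  (-1, 0, 0, -1), (0, 1, 1, 0), (0, -1, -1, 0), (0, 1, 0, 1), (0, -1, 0, -1), (1, 1, 1, 1),
  (-1, -1, -1, -1), (1, 0, 0, 0), (-1, 0, 0, 0), (0, 1, 0, 0), (0, -1, 0, 0), (0, 0, 1, 0),
  (0, 0, -1, 0), (0, 0, 0, 1), ((0 : ℤ), (0 : ℤ), (0 : ℤ), (-1 : ℤ))]

theorem exists_vv {p q u v : ℤ} (hN : p ^ 2 + q ^ 2 + 3 * u ^ 2 + 3 * v ^ 2 ≤ 18) (h1 : 3 ∣ p - q)
    (h2 : 2 ∣ u - p) (h3 : 2 ∣ v - q) (h4 : q = 0 → 3 ∣ u) (h5 : p = 0 → 3 ∣ v) :
    ∃ a b c e : ℤ, VV a b c e ∧ p = 2 * (c + e) - (a + b) ∧ q = 2 * (a + b) - (c + e) ∧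
      u = a - b ∧ v = c - e := by
  have p1 : p ≤ 4 := by nlinarith
  have p2 : -4 ≤ p := by nlinarith
  have q1 : q ≤ 4 := by nlinarith
  have q2 : -4 ≤ q := by nlinarith
  have u1 : u ≤ 2 := by nlinarith
  have u2 : -2 ≤ u := by nlinarith
  have v1 : v ≤ 2 := by nlinarith
  have v2 : -2 ≤ v := by nlinarith
  refine ⟨(p + 2 * q + 3 * u) / 6, (p + 2 * q - 3 * u) / 6, (2 * p + q + 3 * v) / 6,
    (2 * p + q - 3 * v) / 6, ?_, by omega, by omega, by omega, by omega⟩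
  unfold VV
  interval_cases p <;> interval_cases q <;> (try omega) <;> interval_cases u <;> (try omega) <;>
    interval_cases v <;> first | omega | decide

theorem VV.facts {a b c e : ℤ} (h : VV a b c e) :
    ((a * b = 0 ∨ a * b = 1) ∧ (a * c - a * b = 0 ∨ a * c - a * b = 1) ∧
    (a * e - a * b = 0 ∨ a * e - a * b = 1) ∧ (b * c - a * b = 0 ∨ b * c - a * b = 1) ∧
    (b * e - a * b = 0 ∨ b * e - a * b = 1) ∧
    (a * a - a * c - a * e + a * b = 0 ∨ a * a - a * c - a * e + a * b = 1) ∧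
    (b * b - b * c - b * e + a * b = 0 ∨ b * b - b * c - b * e + a * b = 1) ∧
    (c * c - a * c - b * c + a * b = 0 ∨ c * c - a * c - b * c + a * b = 1) ∧
    (e * e - a * e - b * e + a * b = 0 ∨ e * e - a * e - b * e + a * b = 1)) ∧
    (a * (a * a) = a ∧ b * (b * b) = b ∧ c * (c * c) = c ∧ e * (e * e) = e) ∧
    (a * b = 1 → b = a ∧ c = a ∧ e = a ∧ (a = 1 ∨ a = -1)) ∧
    (a * e - a * b = 1 → e = a) ∧
    (b * c - a * b = 1 → c = b ∧ a = 0 ∧ e = 0 ∧ (b = 1 ∨ b = -1)) ∧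
    (b * e - a * b = 1 → e = b ∧ a = 0 ∧ c = 0 ∧ (b = 1 ∨ b = -1)) ∧
    (a * a - a * c - a * e + a * b = 1 → a ≠ 0) ∧ (b * b - b * c - b * e + a * b = 1 → b ≠ 0) ∧
    (c * c - a * c - b * c + a * b = 1 → c ≠ 0) ∧ (e * e - a * e - b * e + a * b = 1 → e ≠ 0) := by
  unfold VV at h
  simp only [List.mem_cons, Prod.mk.injEq, List.not_mem_nil, or_false] at h
  rcases h with h | h | h | h | h | h | h | h | h | h | h | h | h | h | h | h | h | h | h <;>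
    obtain ⟨rfl, rfl, rfl, rfl⟩ := h <;> norm_num

variable {ι : Type*} [Fintype ι]

theorem uniq {f : ι → ℤ} (h : ∀ i, f i = 0 ∨ f i = 1) (hs : ∑ i, f i = 1) :
    ∃ i, f i = 1 ∧ ∀ W : ι → ℚ, ∑ j, f j * W j = W i := by
  classical
  obtain ⟨i, -, hi⟩ := exists_ne_zero_of_sum_ne_zero (hs.trans_ne one_ne_zero)
  have h1 := (h i).resolve_left hi
  rw [← add_sum_erase _ _ (mem_univ i), h1, add_eq_left] at hs
  have h2 := (sum_eq_zero_iff_of_nonneg fun j _ => by rcases h j with e | e <;> omega).1 hs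
  refine ⟨i, h1, fun W => ?_⟩
  rw [sum_eq_single i (fun j _ hj => by rw [h2 j (mem_erase.2 ⟨hj, mem_univ _⟩)]; simp) (by simp), h1]
  simp

theorem split4 {a f0 f1 f2 f3 : ι → ℤ} {i0 i1 i2 i3 : ι} (h : ∀ i, a i * (f0 i + f1 i + f2 i + f3 i) = a i)
    (h0 : ∀ W : ι → ℚ, ∑ j, f0 j * W j = W i0) (h1 : ∀ W : ι → ℚ, ∑ j, f1 j * W j = W i1)
    (h2 : ∀ W : ι → ℚ, ∑ j, f2 j * W j = W i2) (h3 : ∀ W : ι → ℚ, ∑ j, f3 j * W j = W i3)
    (W : ι → ℚ) : ∑ j, a j * W j = a i0 * W i0 + a i1 * W i1 + a i2 * W i2 + a i3 * W i3 := by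
  rw [← h0 fun j => a j * W j, ← h1 fun j => a j * W j, ← h2 fun j => a j * W j,
    ← h3 fun j => a j * W j, ← sum_add_distrib, ← sum_add_distrib, ← sum_add_distrib]
  refine sum_congr rfl fun j _ => ?_
  have : ((a j : ℤ) : ℚ) * (f0 j + f1 j + f2 j + f3 j) = a j := by exact_mod_cast h j
  linear_combination (-W j) * this

theorem theta {a d E F : ι → ℤ} {i0 i1 i2 i3 : ι} (d0 : ∀ i, 0 < d i) (h3 : a i3 ≠ 0)
    (hs : ∀ W : ι → ℚ, ∑ j, a j * W j = a i0 * W i0 + a i1 * W i1 + a i2 * W i2 + a i3 * W i3)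
    (s0 : ∑ j, (a j * d j : ℚ) = 0) (sx : ∑ j, (a j * E j : ℚ) = 0) (sy : ∑ j, (a j * F j : ℚ) = 0)
    {α β γ : ℚ} (qa : ∑ j, (a j * (E j * E j / d j) : ℚ) = α)
    (qb : ∑ j, (a j * (E j * F j / d j) : ℚ) = β) (qc : ∑ j, (a j * (F j * F j / d j) : ℚ) = γ)
    {x y : ι → ℚ} (hx : ∀ i, x i = E i / d i) (hy : ∀ i, y i = F i / d i) :
    (a i0 * d i0 : ℤ) * (γ * (x i1 - x i0) * (x i2 - x i0) - β * ((x i1 - x i0) * (y i2 - y i0) +
      (x i2 - x i0) * (y i1 - y i0)) + α * (y i1 - y i0) * (y i2 - y i0)) = α * γ - β ^ 2 ∧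
    (a i0 * d i0 : ℤ) * (a i1 * d i1 : ℤ) * (γ * (x i1 - x i0) ^ 2 -
      2 * β * (x i1 - x i0) * (y i1 - y i0) + α * (y i1 - y i0) ^ 2) =
      (α * γ - β ^ 2) * ((a i0 * d i0 : ℤ) + (a i1 * d i1 : ℤ)) ∧
    (a i0 * d i0 : ℤ) * (a i2 * d i2 : ℤ) * (γ * (x i2 - x i0) ^ 2 -
      2 * β * (x i2 - x i0) * (y i2 - y i0) + α * (y i2 - y i0) ^ 2) =
      (α * γ - β ^ 2) * ((a i0 * d i0 : ℤ) + (a i2 * d i2 : ℤ)) := by
  have d1 : ∀ i, (d i : ℚ) ≠ 0 := fun i => by exact_mod_cast (d0 i).ne'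
  have hE : ∀ i, (E i : ℚ) = x i * d i := fun i => by rw [hx, div_mul_cancel₀ _ (d1 i)]
  have hF : ∀ i, (F i : ℚ) = y i * d i := fun i => by rw [hy, div_mul_cancel₀ _ (d1 i)]
  have hq : ∀ i (s t : ℚ), s * d i * (t * d i) / d i = d i * (s * t) := fun i s t => by
    have := d1 i; field_simp
  rw [hs] at s0 sx sy qa qb qc
  simp only [hE, hF, hq] at sx sy qa qb qc
  push_cast
  refine tri (δ3 := a i3 * d i3) (x3 := x i3) (y3 := y i3)
    (mul_ne_zero (by exact_mod_cast h3) (d1 i3)) s0 (by linear_combination sx)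
    (by linear_combination sy) (by linear_combination qa) (by linear_combination qb)
    (by linear_combination qc)

theorem lin4 (p q u v W : ι → ℚ) (x y z w : ℚ) :
    ∑ i, (x * p i + y * q i + z * u i + w * v i) * W i =
      x * ∑ i, p i * W i + y * ∑ i, q i * W i + z * ∑ i, u i * W i + w * ∑ i, v i * W i := by
  simp only [mul_sum, ← sum_add_distrib]
  exact sum_congr rfl fun i _ => by ring

theorem main {d p q u v E F : ι → ℤ} {o : ι} {g : ℚ} (hg : g ≠ 0) (d0 : ∀ i, 0 < d i)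
    (od : d o = 1) (op : p o = 1) (oq : q o = 1) (ou : u o = 1) (ov : v o = 1)
    (pp : ∑ i, p i * p i = 18) (qq : ∑ i, q i * q i = 18) (uu : ∑ i, u i * u i = 6)
    (vv : ∑ i, v i * v i = 6) (pq : ∑ i, p i * q i = 0) (pu : ∑ i, p i * u i = 0)
    (pv : ∑ i, p i * v i = 0) (qu : ∑ i, q i * u i = 0) (qv : ∑ i, q i * v i = 0)
    (uv : ∑ i, u i * v i = 0)
    (hd : ∑ i, p i * d i = 0 ∧ ∑ i, q i * d i = 0 ∧ ∑ i, u i * d i = 0 ∧ ∑ i, v i * d i = 0)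
    (hE : ∑ i, p i * E i = 0 ∧ ∑ i, q i * E i = 0 ∧ ∑ i, u i * E i = 0 ∧ ∑ i, v i * E i = 0)
    (hF : ∑ i, p i * F i = 0 ∧ ∑ i, q i * F i = 0 ∧ ∑ i, u i * F i = 0 ∧ ∑ i, v i * F i = 0)
    (c1 : ∀ i, 3 ∣ p i - q i) (c2 : ∀ i, 9 ∣ d i + 4 * p i + 4 * q i) (c3 : ∀ i, 2 ∣ u i - p i)
    (c4 : ∀ i, 2 ∣ v i - q i) (c5 : ∀ i, q i = 0 → 3 ∣ u i) (c6 : ∀ i, p i = 0 → 3 ∣ v i)
    (EE : ∑ i, (p i * (E i * E i / d i) : ℚ) = 12 * g ∧ ∑ i, (q i * (E i * E i / d i) : ℚ) = 9 * g ∧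
      ∑ i, (u i * (E i * E i / d i) : ℚ) = 6 * g ∧ ∑ i, (v i * (E i * E i / d i) : ℚ) = 0)
    (EF : ∑ i, (p i * (E i * F i / d i) : ℚ) = 0 ∧ ∑ i, (q i * (E i * F i / d i) : ℚ) = 0 ∧
      ∑ i, (u i * (E i * F i / d i) : ℚ) = 0 ∧ ∑ i, (v i * (E i * F i / d i) : ℚ) = 3 * g)
    (FF : ∑ i, (p i * (F i * F i / d i) : ℚ) = 0 ∧ ∑ i, (q i * (F i * F i / d i) : ℚ) = 3 * g ∧
      ∑ i, (u i * (F i * F i / d i) : ℚ) = 0 ∧ ∑ i, (v i * (F i * F i / d i) : ℚ) = 0) :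
    ∃ i, d i = 1 ∧ p i = 1 ∧ q i = 1 ∧ u i = -1 ∧ v i = -1 := by
  classical
  have bil : ∀ x y z w x' y' z' w' : ℤ, ∑ i, (x * p i + y * q i + z * u i + w * v i) *
      (x' * p i + y' * q i + z' * u i + w' * v i) = 18 * x * x' + 18 * y * y' + 6 * z * z' + 6 * w * w' := by
    intro x y z w x' y' z' w'
    have : ∑ i, (x * p i + y * q i + z * u i + w * v i) * (x' * p i + y' * q i + z' * u i + w' * v i) =
        x * x' * ∑ i, p i * p i + y * y' * ∑ i, q i * q i + z * z' * ∑ i, u i * u i +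
        w * w' * ∑ i, v i * v i + (x * y' + y * x') * ∑ i, p i * q i +
        (x * z' + z * x') * ∑ i, p i * u i + (x * w' + w * x') * ∑ i, p i * v i +
        (y * z' + z * y') * ∑ i, q i * u i + (y * w' + w * y') * ∑ i, q i * v i +
        (z * w' + w * z') * ∑ i, u i * v i := by
      simp only [mul_sum, ← sum_add_distrib]
      exact sum_congr rfl fun i _ => by ring
    rw [this, pp, qq, uu, vv, pq, pu, pv, qu, qv, uv]; ring
  have hN : ∀ i, p i ^ 2 + q i ^ 2 + 3 * u i ^ 2 + 3 * v i ^ 2 ≤ 18 := fun i => by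
    have h1 := bil (p i) (q i) (3 * u i) (3 * v i) (p i) (q i) (3 * u i) (3 * v i)
    have h2 := single_le_sum (f := fun j => (p i * p j + q i * q j + 3 * u i * u j + 3 * v i * v j) *
      (p i * p j + q i * q j + 3 * u i * u j + 3 * v i * v j)) (fun j _ => mul_self_nonneg _) (mem_univ i)
    rw [h1] at h2
    by_contra hc
    generalize hn : p i ^ 2 + q i ^ 2 + 3 * u i ^ 2 + 3 * v i ^ 2 = n at hc
    have : n * n ≤ 18 * n := by rw [← hn]; linarith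
    nlinarith
  choose a b c e hV hp hq hu hv using fun i => exists_vv (hN i) (c1 i) (c3 i) (c4 i) (c5 i) (c6 i)
  have ha : ∀ i, 6 * a i = 1 * p i + 2 * q i + 3 * u i + 0 * v i := fun i => by
    rw [hp, hq, hu]; ring
  have hb : ∀ i, 6 * b i = 1 * p i + 2 * q i + -3 * u i + 0 * v i := fun i => by
    rw [hp, hq, hu]; ring
  have hc : ∀ i, 6 * c i = 2 * p i + 1 * q i + 0 * u i + 3 * v i := fun i => by
    rw [hp, hq, hv]; ring
  have he : ∀ i, 6 * e i = 2 * p i + 1 * q i + 0 * u i + -3 * v i := fun i => by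
    rw [hp, hq, hv]; ring
  have gr : ∀ {s t : ι → ℤ} {x y z w x' y' z' w' : ℤ},
      (∀ i, 6 * s i = x * p i + y * q i + z * u i + w * v i) →
      (∀ i, 6 * t i = x' * p i + y' * q i + z' * u i + w' * v i) →
      36 * ∑ i, s i * t i = 18 * x * x' + 18 * y * y' + 6 * z * z' + 6 * w * w' := by
    intro s t x y z w x' y' z' w' h1 h2
    rw [← bil, mul_sum]
    exact sum_congr rfl fun i _ => by rw [← h1, ← h2]; ring
  have aa := gr ha ha
  have ab := gr ha hb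
  have ac := gr ha hc
  have ae := gr ha he
  have bb := gr hb hb
  have bc := gr hb hc
  have be := gr hb he
  have cc := gr hc hc
  have ee := gr he he
  have fa := fun i => (hV i).facts
  obtain ⟨R, R1, R2⟩ := uniq (fun i => (fa i).1.1) (by omega)
  obtain ⟨O, O1, O2⟩ := uniq (fun i => (fa i).1.2.1) (by rw [sum_sub_distrib]; omega)
  obtain ⟨A, A1, A2⟩ := uniq (fun i => (fa i).1.2.2.1) (by rw [sum_sub_distrib]; omega)
  obtain ⟨B, B1, B2⟩ := uniq (fun i => (fa i).1.2.2.2.1) (by rw [sum_sub_distrib]; omega)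
  obtain ⟨D, D1, D2⟩ := uniq (fun i => (fa i).1.2.2.2.2.1) (by rw [sum_sub_distrib]; omega)
  obtain ⟨X, X1, X2⟩ := uniq (fun i => (fa i).1.2.2.2.2.2.1)
    (by rw [sum_add_distrib, sum_sub_distrib, sum_sub_distrib]; omega)
  obtain ⟨X', X1', X2'⟩ := uniq (fun i => (fa i).1.2.2.2.2.2.2.1)
    (by rw [sum_add_distrib, sum_sub_distrib, sum_sub_distrib]; omega)
  obtain ⟨Y, Y1, Y2⟩ := uniq (fun i => (fa i).1.2.2.2.2.2.2.2.1)
    (by rw [sum_add_distrib, sum_sub_distrib, sum_sub_distrib]; omega)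
  obtain ⟨Y', Y1', Y2'⟩ := uniq (fun i => (fa i).1.2.2.2.2.2.2.2.2)
    (by rw [sum_add_distrib, sum_sub_distrib, sum_sub_distrib]; omega)
  have ao : a o = 1 ∧ b o = 0 ∧ c o = 1 := by
    have := ha o; have := hb o; have := hc o
    omega
  obtain rfl : o = O := by
    by_contra hne
    have h1 := O2 (fun j => if j = o then 1 else 0)
    rw [sum_eq_single o (fun j _ hj => by simp [hj]) (by simp), ao.1, ao.2.1, ao.2.2, if_pos rfl,
      if_neg (Ne.symm hne)] at h1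
    norm_num at h1
  have sa := split4 (a := a) (fun i => by linear_combination (fa i).2.1.1) R2 O2 A2 X2
  have sb := split4 (a := b) (fun i => by linear_combination (fa i).2.1.2.1) R2 B2 D2 X2'
  have sc := split4 (a := c) (fun i => by linear_combination (fa i).2.1.2.2.1) R2 O2 B2 Y2
  have se := split4 (a := e) (fun i => by linear_combination (fa i).2.1.2.2.2) R2 A2 D2 Y2'
  have comb : ∀ {s : ι → ℤ} {x y z w : ℤ}, (∀ i, 6 * s i = x * p i + y * q i + z * u i + w * v i) →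
      ∀ {W : ι → ℚ} {k1 k2 k3 k4 : ℚ}, (∑ i, p i * W i = k1 ∧ ∑ i, q i * W i = k2 ∧ ∑ i, u i * W i = k3 ∧
        ∑ i, v i * W i = k4) → ∑ i, s i * W i = (x * k1 + y * k2 + z * k3 + w * k4) / 6 := by
    intro s x y z w h W k1 k2 k3 k4 hk
    rw [← hk.1, ← hk.2.1, ← hk.2.2.1, ← hk.2.2.2, ← lin4, eq_div_iff (by norm_num), sum_mul]
    refine sum_congr rfl fun i _ => ?_
    have : (6 * s i : ℚ) = x * p i + y * q i + z * u i + w * v i := by exact_mod_cast h i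
    rw [← this]; ring
  have cast : ∀ {W : ι → ℤ}, (∑ i, p i * W i = 0 ∧ ∑ i, q i * W i = 0 ∧ ∑ i, u i * W i = 0 ∧
      ∑ i, v i * W i = 0) → (∑ i, (p i * W i : ℚ) = 0 ∧ ∑ i, (q i * W i : ℚ) = 0 ∧
      ∑ i, (u i * W i : ℚ) = 0 ∧ ∑ i, (v i * W i : ℚ) = 0) := fun h =>
    ⟨by exact_mod_cast h.1, by exact_mod_cast h.2.1, by exact_mod_cast h.2.2.1,
      by exact_mod_cast h.2.2.2⟩
  have th : ∀ {s : ι → ℤ} {x y z w : ℤ} (h : ∀ i, 6 * s i = x * p i + y * q i + z * u i + w * v i)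
      {i0 i1 i2 i3 : ι} (h3 : s i3 ≠ 0)
      (hs : ∀ W : ι → ℚ, ∑ j, s j * W j = s i0 * W i0 + s i1 * W i1 + s i2 * W i2 + s i3 * W i3), _ :=
    fun h _ _ _ _ h3 hs => theta d0 h3 hs (by simpa using comb h (cast hd))
      (by simpa using comb h (cast hE)) (by simpa using comb h (cast hF)) (comb h EE) (comb h EF)
      (comb h FF) (x := fun i => E i / d i) (y := fun i => F i / d i) (fun _ => rfl) (fun _ => rfl)
  obtain ⟨-, t1, -⟩ := th ha ((fa X).2.2.2.2.2.2.1 X1) sa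
  obtain ⟨t2, t3, t4⟩ := th hb ((fa X').2.2.2.2.2.2.2.1 X1') sb
  obtain ⟨t5, t6, t7⟩ := th hc ((fa Y).2.2.2.2.2.2.2.2.1 Y1) sc
  obtain ⟨-, -, t8⟩ := th he ((fa Y').2.2.2.2.2.2.2.2.2 Y1') se
  obtain ⟨r1, r2, r3, r4⟩ := (fa R).2.2.1 R1
  obtain ⟨b1, b2, b3, b4⟩ := (fa B).2.2.2.2.1 B1
  obtain ⟨d1, d2, d3, d4⟩ := (fa D).2.2.2.2.2.1 D1
  rw [show a o * d o = 1 by rw [ao.1, od, one_mul]] at t1
  rw [r1] at t2 t3 t4
  rw [r2] at t5 t6 t7
  rw [show c o * d o = 1 by rw [ao.2.2, od, one_mul]] at t6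
  rw [b1] at t7
  rw [r3, d1] at t8
  obtain ⟨k, hk⟩ : ∃ k, a R * d R = 9 * k + 2 := by
    have := c2 R; have := hp R; have := hq R
    rcases r4 with h | h <;> rw [h] <;> exact ⟨(a R * d R - 2) / 9, by rw [h]; omega⟩
  obtain ⟨l, hl⟩ : ∃ k, b B * d B = 9 * k + 1 := by
    have := c2 B; have := hp B; have := hq B
    rcases b4 with h | h <;> rw [h] <;> exact ⟨(b B * d B - 1) / 9, by rw [h]; omega⟩
  obtain ⟨m, hm⟩ : ∃ k, b D * d D = 9 * k + 1 := by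
    have := c2 D; have := hp D; have := hq D
    rcases d4 with h | h <;> rw [h] <;> exact ⟨(b D * d D - 1) / 9, by rw [h]; omega⟩
  generalize (E o : ℚ) / d o - E R / d R = o1 at *
  generalize (F o : ℚ) / d o - F R / d R = o2 at *
  generalize (E B : ℚ) / d B - E R / d R = β1 at *
  generalize (F B : ℚ) / d B - F R / d R = β2 at *
  generalize (E D : ℚ) / d D - E R / d R = δ1 at *
  generalize (F D : ℚ) / d D - F R / d R = δ2 at *
  have hD := final (o1 := o1) (o2 := o2) (b1 := β1) (b2 := β2) (d1 := δ1) (d2 := δ2) hk hl hm hg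
    (mul_left_cancel₀ hg (by push_cast at t1 ⊢; linear_combination t1))
    (mul_left_cancel₀ hg (by push_cast at t6 ⊢; linear_combination 2 * t6))
    (mul_left_cancel₀ hg (by push_cast at t7 ⊢; linear_combination 2 * t7))
    (mul_left_cancel₀ hg (by push_cast at t5 ⊢; linear_combination 2 * t5))
    (mul_left_cancel₀ hg (by push_cast at t3 ⊢; linear_combination t3))
    (mul_left_cancel₀ hg (by push_cast at t4 ⊢; linear_combination t4))
    (mul_left_cancel₀ hg (by push_cast at t2 ⊢; linear_combination t2))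
    (mul_left_cancel₀ hg (by push_cast at t8 ⊢; linear_combination 2 * t8))
  have := d0 D
  have := hp D; have := hq D; have := hu D; have := hv D
  refine ⟨D, ?_⟩
  rcases d4 with h | h <;> rw [h] at hD <;> omega

end Cfsg.Agent.H5.Hy
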