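import Cfsg.Agent.H21.Nine4
import Cfsg.Agent.H23.Pk
import Cfsg.Agent.H5.Hy1

/-! The group `3² : D₈` and general counting lemmas. -/

set_option autoImplicit false
set_option linter.unusedSectionVars false
set_option linter.unusedVariables false

namespace Cfsg.Agent.H5.Hy

open Finset Cfsg.Agent.H6 Cfsg.Agent.H21 DihedralGroup SemidirectProduct
open scoped ComplexConjugate

theorem sum_free {Γ X : Type*} [Group Γ] [Fintype Γ] [MulAction Γ X] (F : X → ℂ)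
    (hF : ∀ x, IsIntegral ℤ (F x)) (inv : ∀ (γ : Γ) x, F (γ • x) = F x) (Y : Finset X)
    (hY : ∀ (γ : Γ), ∀ x ∈ Y, γ • x ∈ Y) (free : ∀ x ∈ Y, ∀ γ : Γ, γ • x = x → γ = 1) :
    ∃ w, IsIntegral ℤ w ∧ ∑ x ∈ Y, F x = Fintype.card Γ * w := by
  classical
  induction Y using Finset.strongInduction with
  | H Y ih =>
    rcases Y.eq_empty_or_nonempty with rfl | ⟨x, hx⟩
    · exact ⟨0, isIntegral_zero, by simp⟩
    have hO : image (fun γ : Γ => γ • x) univ ⊆ Y := fun y hy => by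
      obtain ⟨γ, -, rfl⟩ := mem_image.1 hy
      exact hY γ x hx
    obtain ⟨w, h1, h2⟩ := ih (Y \ image (fun γ : Γ => γ • x) univ)
      (sdiff_ssubset hO ⟨x, mem_image.2 ⟨1, mem_univ _, one_smul _ _⟩⟩)
      (fun γ y hy => mem_sdiff.2 ⟨hY γ y (mem_sdiff.1 hy).1, fun h => (mem_sdiff.1 hy).2 (by
        obtain ⟨δ, -, e⟩ := mem_image.1 h
        exact mem_image.2 ⟨γ⁻¹ * δ, mem_univ _, by rw [mul_smul, e, inv_smul_smul]⟩)⟩)
      (fun y hy => free y (mem_sdiff.1 hy).1)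
    refine ⟨w + F x, h1.add (hF x), ?_⟩
    rw [← sum_sdiff hO, h2, sum_image fun γ _ δ _ e => ?_]
    · simp only [inv, sum_const, card_univ, nsmul_eq_mul]; ring
    · have := free x hx (δ⁻¹ * γ) (by rw [mul_smul, e, inv_smul_smul])
      exact (inv_mul_eq_one.1 this).symm

variable {G : Type*} [Group G] [Finite G]

theorem sum_inv_mul {χ : G → ℂ} (hχ : IsIrrCharacter G χ) (K : Finset G)
    (hK : ∀ g, ∀ k ∈ K, g * k * g⁻¹ ∈ K) (l : G) :
    ∑ k ∈ K, χ (k * l) = (∑ k ∈ K, χ k) * χ l / χ 1 := by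
  have := Fintype.ofFinite G
  have h1 : ∀ x : G, ∑ k ∈ K, χ (x * k * x⁻¹ * l) = ∑ k ∈ K, χ (k * l) := fun x =>
    sum_bij' (fun k _ => x * k * x⁻¹) (fun k _ => x⁻¹ * k * x⁻¹⁻¹) (fun k hk => hK x k hk)
      (fun k hk => hK x⁻¹ k hk) (fun k _ => by group) (fun k _ => by group) (fun k _ => rfl)
  have h2 : ∑ x : G, ∑ k ∈ K, χ (x * k * x⁻¹ * l) = Nat.card G * ∑ k ∈ K, χ (k * l) := by
    simp only [h1, sum_const, card_univ, nsmul_eq_mul, Nat.card_eq_fintype_card]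
  rw [sum_comm] at h2
  simp only [sum_irr_conj_mul hχ] at h2
  refine mul_left_cancel₀ (card_ne_zero_complex G) ?_
  rw [← h2, sum_mul, sum_div, mul_sum]
  exact sum_congr rfl fun k _ => by ring

/-- the sum of a character over a set of involutions -/
noncomputable def sv (K : Finset G) (χ : IrrCharacter G) : ℤ := ∑ k ∈ K, zv k χ

theorem cnt_formula (K L : Finset G) (hK : ∀ g, ∀ k ∈ K, g * k * g⁻¹ ∈ K)
    (hL : ∀ g, ∀ k ∈ L, g * k * g⁻¹ ∈ L) (K2 : ∀ k ∈ K, k * k = 1) (L2 : ∀ k ∈ L, k * k = 1)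
    {c : G} (hc : Zc c) :
    ∑ χ, (zv c χ * (sv K χ * sv L χ / zv 1 χ) : ℚ) =
      Nat.card {q : K × L // (q.1 : G) * q.2 = c} * Nat.card G := by
  have e : ∀ (K : Finset G) (hK : ∀ g, ∀ k ∈ K, g * k * g⁻¹ ∈ K) (h : G),
      ∃ e : K ≃ K, ∀ k, (e k : G) = h * k * h⁻¹ := fun K hK h =>
    ⟨⟨fun k => ⟨h * k * h⁻¹, hK h k k.2⟩, fun k => ⟨h⁻¹ * k * h⁻¹⁻¹, hK h⁻¹ k k.2⟩,
      fun k => Subtype.ext (by group), fun k => Subtype.ext (by group)⟩, fun _ => rfl⟩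
  have h1 := card_fiber_eq_sum_irr (fun q : K × L => (q.1 : G) * q.2) (fun h => by
    obtain ⟨e1, h1⟩ := e K hK h
    obtain ⟨e2, h2⟩ := e L hL h
    exact ⟨e1.prodCongr e2, fun x => by
      simp only [Equiv.prodCongr_apply, Prod.map_fst, Prod.map_snd, h1, h2]; group⟩) c
  have h2 : ∀ χ : IrrCharacter G, ∑ x : K × L, χ.1 ((x.1 : G) * x.2) = sv K χ * sv L χ / zv 1 χ := by
    intro χ
    rw [Fintype.sum_prod_type_right]
    have : ∀ l : L, ∑ k : K, χ.1 ((k : G) * l) = (∑ k ∈ K, χ.1 k) * χ.1 l / χ.1 1 := fun l => by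
      rw [← sum_inv_mul χ.2 K hK, sum_coe_sort K fun k => χ.1 (k * l)]
    simp only [this]
    rw [sum_coe_sort L fun l => (∑ k ∈ K, χ.1 k) * χ.1 l / χ.1 1, ← sum_div, ← mul_sum, zc_one χ,
      sum_congr rfl fun k hk => zc_sq (K2 k hk) χ, sum_congr rfl fun k hk => zc_sq (L2 k hk) χ]
    simp [sv]
  simp only [h2, hc _, map_intCast] at h1
  have h3 : ∑ χ : IrrCharacter G, (zv c χ * (sv K χ * sv L χ / zv 1 χ) : ℂ) =
      Nat.card {q : K × L // (q.1 : G) * q.2 = c} * Nat.card G := by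
    rw [h1, mul_comm, ← mul_assoc, mul_inv_cancel₀ (card_ne_zero_complex G), one_mul]
    exact sum_congr rfl fun χ _ => mul_comm _ _
  exact_mod_cast h3

theorem sv_orth (K : Finset G) (K2 : ∀ k ∈ K, k * k = 1) {c : G} (hc : Zc c) (h2 : c * c ≠ 1) :
    ∑ χ, zv c χ * sv K χ = 0 := by
  simp only [sv, mul_sum]
  rw [sum_comm]
  refine sum_eq_zero fun k hk => hc.col0 (zc_sq (K2 k hk)) fun e => h2 ?_
  obtain ⟨g, rfl⟩ := isConj_iff.1 e
  have := K2 _ hk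
  rwa [conj_mul, conj_eq_one_iff] at this

theorem sum_lab {H X : Type*} [Group H] [Fintype X] {n : ℕ} (Φ : H → ℂ)
    (hΦ : ∀ k x, Φ (k * x * k⁻¹) = Φ x) (lab : X → Fin n) (rep : Fin n → H) (w : X → H)
    (h : ∀ x, ∃ k, k * rep (lab x) * k⁻¹ = w x) :
    ∑ x, Φ (w x) = ∑ j, (filter (fun x => lab x = j) univ).card * Φ (rep j) := by
  rw [← sum_fiberwise univ lab]
  refine sum_congr rfl fun j _ => ?_
  rw [← nsmul_eq_mul, ← sum_const]
  refine sum_congr rfl fun x hx => ?_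
  obtain ⟨k, hk⟩ := h x
  rw [← hk, hΦ, (mem_filter.1 hx).2]

/-- the elementary abelian group of order nine -/
abbrev N0 := Multiplicative (ZMod 3 × ZMod 3)

/-- the action of the dihedral group -/
def act (d : DihedralGroup 4) (n : ZMod 3 × ZMod 3) : ZMod 3 × ZMod 3 :=
  if d = r 0 then n else if d = r 1 then (n.2, -n.1) else if d = r 2 then (-n.1, -n.2)
  else if d = r 3 then (-n.2, n.1) else if d = sr 0 then (-n.1, n.2)
  else if d = sr 1 then (-n.2, -n.1) else if d = sr 2 then (n.1, -n.2) else (n.2, n.1)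

/-- the action as automorphisms -/
def φ0 : DihedralGroup 4 →* MulAut N0 where
  toFun d :=
    { toFun := fun n => Multiplicative.ofAdd (act d n.toAdd)
      invFun := fun n => Multiplicative.ofAdd (act d⁻¹ n.toAdd)
      left_inv := by revert d; decide +kernel
      right_inv := by revert d; decide +kernel
      map_mul' := by revert d; decide +kernel }
  map_one' := MulEquiv.ext (by decide +kernel)
  map_mul' a b := MulEquiv.ext (by revert a b; decide +kernel)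

/-- the group `3² : D₈` -/
abbrev H0 := N0 ⋊[φ0] DihedralGroup 4

instance instDecEqH0 : DecidableEq H0 := fun a b =>
  decidable_of_iff (a.left = b.left ∧ a.right = b.right) SemidirectProduct.ext_iff.symm

instance instFintypeH0 : Fintype H0 := Fintype.ofEquiv _ SemidirectProduct.equivProd.symm

/-- generators -/
def n1 : N0 := Multiplicative.ofAdd (1, 0)
/-- generators -/
def n2 : N0 := Multiplicative.ofAdd (0, 1)
/-- an element of order three of the first kind -/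
def t0 : H0 := inl n2
/-- an element of order three of the second kind -/
def t0' : H0 := inl (n1 * n2)
/-- a reflection -/
def s0 : H0 := inr (sr 0)
/-- another reflection -/
def σ0 : H0 := inr (sr 3)
/-- the central involution of the complement -/
def z0 : H0 := inr (r 2)
/-- order six -/
def u0 : H0 := s0 * t0
/-- order six -/
def v0 : H0 := σ0 * t0'

/-- involutions not conjugate to `σ0` -/
abbrev K0 (k : H0) : Prop := k * k = 1 ∧ (k.right = sr 0 ∨ k.right = sr 2 ∨ k.right = r 2)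
/-- conjugates of `σ0` -/
abbrev L0 (k : H0) : Prop := k * k = 1 ∧ (k.right = sr 1 ∨ k.right = sr 3)
/-- three-singular elements -/
abbrev S6 (x : H0) : Prop := (x * x) ^ 3 = 1 ∧ x * x ≠ 1

theorem card_H0 : Nat.card H0 = 72 := by rw [Nat.card_eq_fintype_card]; decide +kernel
theorem d_cube : ∀ x : H0, x ^ 3 = 1 ↔ x.right = 1 := by decide +kernel
theorem d_comm : ∀ x y : H0, x ^ 3 = 1 → y ^ 3 = 1 → x * y = y * x := by decide +kernel
theorem d_K : ∀ k, K0 k → ∃ h, h * s0 * h⁻¹ = k ∨ h * z0 * h⁻¹ = k := by decide +kernel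
theorem d_L : ∀ k, L0 k → ∃ h, h * σ0 * h⁻¹ = k := by decide +kernel
theorem d_KL : ∀ k : H0, k * k = 1 → k ≠ 1 → K0 k ∨ L0 k := by decide +kernel
theorem d_K1 : ∀ k : H0, K0 k → k ≠ 1 := by decide +kernel
theorem d_s6 : S6 t0 ∧ S6 t0' ∧ S6 u0 ∧ S6 v0 := by decide +kernel
theorem d_rat : ∀ x, S6 x → ∀ m : Fin 6, (x ^ m.1) ^ 2 ≠ 1 → (x ^ m.1) ^ 3 ≠ 1 ∨ x ^ 3 = 1 →
    ∃ h, h * x * h⁻¹ = x ^ m.1 := by decide +kernel
theorem d_nc : ∀ h : H0, h * t0 * h⁻¹ ≠ t0' ∧ h * t0 * h⁻¹ ≠ t0'⁻¹ ∧ h * t0 * h⁻¹ ≠ u0 ∧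
    h * t0 * h⁻¹ ≠ v0 ∧ h * t0' * h⁻¹ ≠ u0 ∧ h * t0' * h⁻¹ ≠ v0 ∧ h * u0 * h⁻¹ ≠ v0 := by decide +kernel
theorem d_cen : (filter (fun h => h * t0 = t0 * h) univ).card = 18 ∧
    (filter (fun h => h * t0' = t0' * h) univ).card = 18 ∧
    (filter (fun h => h * u0 = u0 * h) univ).card = 6 ∧
    (filter (fun h => h * v0 = v0 * h) univ).card = 6 := by decide +kernel
theorem d_KK : (filter (fun k => K0 k ∧ K0 (k⁻¹ * t0)) univ).card = 12 ∧
    (filter (fun k => K0 k ∧ K0 (k⁻¹ * t0')) univ).card = 9 ∧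
    (filter (fun k => K0 k ∧ K0 (k⁻¹ * u0)) univ).card = 6 ∧
    (filter (fun k => K0 k ∧ K0 (k⁻¹ * v0)) univ).card = 0 := by decide +kernel
theorem d_KL' : (filter (fun k => K0 k ∧ L0 (k⁻¹ * t0)) univ).card = 0 ∧
    (filter (fun k => K0 k ∧ L0 (k⁻¹ * t0')) univ).card = 0 ∧
    (filter (fun k => K0 k ∧ L0 (k⁻¹ * u0)) univ).card = 0 ∧
    (filter (fun k => K0 k ∧ L0 (k⁻¹ * v0)) univ).card = 3 := by decide +kernel
theorem d_LL : (filter (fun k => L0 k ∧ L0 (k⁻¹ * t0)) univ).card = 0 ∧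
    (filter (fun k => L0 k ∧ L0 (k⁻¹ * t0')) univ).card = 3 ∧
    (filter (fun k => L0 k ∧ L0 (k⁻¹ * u0)) univ).card = 0 ∧
    (filter (fun k => L0 k ∧ L0 (k⁻¹ * v0)) univ).card = 0 := by decide +kernel
theorem d_irr : ∀ n : N0, n ≠ 1 → ∀ m : N0, ∃ a b : DihedralGroup 4,
    φ0 a n * φ0 b n = m := by decide +kernel
theorem d_loc : ∀ x : H0, x * σ0 = σ0 * x → x * t0' = t0' * x → (x ^ 3) ^ 2 = 1 ∧
    (x ^ 3 = 1 → x = 1 ∨ x = t0' ∨ x = t0'⁻¹) := by decide +kernel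
theorem d_cm : ∀ m x : H0, m ^ 3 = 1 → m ≠ 1 → x * m = m * x → x ^ 3 = 1 ∨
    ∃ h, h * x ^ 3 * h⁻¹ = s0 ∨ h * x ^ 3 * h⁻¹ = σ0 := by decide +kernel

/-- labels of the elements of `N0` -/
def lab1 (n : N0) : Fin 3 := if n = 1 then 0 else if n.toAdd.1 = 0 ∨ n.toAdd.2 = 0 then 1 else 2
theorem d_lab1 : ∀ n : N0, ∃ k : H0, k * ![1, t0, t0'] (lab1 n) * k⁻¹ = inl n := by decide +kernel
/-- labels -/
def lab2 (x : H0) : Fin 2 := if x * x = 1 then 0 else 1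
theorem d_lab2 : ∀ h : H0, ∃ k : H0,
    k * ![s0, u0] (lab2 (h * u0 * h⁻¹ * t0')) * k⁻¹ = h * u0 * h⁻¹ * t0' := by decide +kernel
theorem d_lab3 : ∀ h : H0, ∃ k : H0,
    k * ![σ0, v0] (lab2 (h * v0 * h⁻¹ * t0)) * k⁻¹ = h * v0 * h⁻¹ * t0 := by decide +kernel
theorem d_c1 : ∀ j, (filter (fun x => lab1 x = j) univ).card = ![1, 4, 4] j := by decide +kernel
theorem d_c2 : ∀ j, (filter (fun h => lab2 (h * u0 * h⁻¹ * t0') = j) univ).card = 36 := by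
  decide +kernel
theorem d_c3 : ∀ j, (filter (fun h => lab2 (h * v0 * h⁻¹ * t0) = j) univ).card = 36 := by
  decide +kernel
theorem d_pow : u0 ^ 3 = s0 ∧ v0 ^ 3 = σ0 ∧ u0 ^ 2 = t0⁻¹ ∧ v0 ^ 2 = t0'⁻¹ ∧ t0 ^ 3 = 1 ∧ t0' ^ 3 = 1 ∧
    z0 * t0 * z0⁻¹ = t0⁻¹ ∧ z0 * t0' * z0⁻¹ = t0'⁻¹ ∧ s0 * s0 = 1 ∧ σ0 * σ0 = 1 ∧ t0 ≠ 1 ∧ t0' ≠ 1 ∧
    t0 * s0 = s0 * t0 ∧ t0' * σ0 = σ0 * t0' ∧ σ0 ≠ 1 ∧ t0 * u0 = u0 * t0 ∧ t0' * v0 = v0 * t0' := by
  decide +kernel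

end Cfsg.Agent.H5.Hy
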