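import Cfsg.Agent.H5.Hy2

/-! Hayden's theorem: the linear character. -/

set_option autoImplicit false
set_option linter.unusedSectionVars false
set_option linter.unusedVariables false
set_option linter.dupNamespace false

namespace Cfsg.Agent.H5.Hy

open Subgroup Finset Cfsg.Agent.H6 Cfsg.Agent.H21 Cfsg.Agent.FT DihedralGroup SemidirectProduct
open scoped ComplexConjugate

variable {G : Type*} [Group G] [Finite G] {f : H0 →* G}

/-- a strongly `3`-embedded copy of `3² : D₈` -/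
structure Hy (f : H0 →* G) : Prop where
  inj : Function.Injective f
  cen : ∀ m : H0, m ^ 3 = 1 → m ≠ 1 → C[f m] ≤ f.range
  nrm : ∀ g : G, (∀ m : H0, m ^ 3 = 1 → g * f m * g⁻¹ ∈ f.range) → g ∈ f.range

theorem conj_f (f : H0 →* G) {x y h : H0} (e : h * x * h⁻¹ = y) : IsConj (f x) (f y) :=
  isConj_iff.2 ⟨f h, by rw [← e, map_mul, map_mul, map_inv]⟩

namespace Hy

variable (h : Hy f)
include h

theorem se {m : H0} (h3 : m ^ 3 = 1) (h1 : m ≠ 1) {g : G} (hg : g * f m * g⁻¹ ∈ f.range) :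
    g ∈ f.range := by
  obtain ⟨n, hn⟩ := hg
  have n3 : n ^ 3 = 1 := h.inj (by rw [map_pow, hn, conj_pow, ← map_pow, h3]; simp)
  have n1 : n ≠ 1 := fun e => h1 (h.inj (by
    rw [e, map_one, eq_comm, conj_eq_one_iff] at hn; rw [hn, map_one]))
  refine h.nrm g fun m' hm' => h.cen n n3 n1 (mem_cen1.2 ?_)
  rw [hn, conj_mul, conj_mul, ← map_mul, ← map_mul, d_comm m m' h3 hm']

theorem se' {x : H0} (hx : S6 x) {g : G} (hg : g * f x * g⁻¹ ∈ f.range) : g ∈ f.range :=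
  h.se hx.1 hx.2 (by rw [map_mul, ← conj_mul]; exact mul_mem hg hg)

theorem conj_of {x y : H0} (hx : S6 x) (e : IsConj (f x) (f y)) : ∃ k, k * x * k⁻¹ = y := by
  obtain ⟨g, hg⟩ := isConj_iff.1 e
  obtain ⟨k, rfl⟩ := h.se' hx (g := g) ⟨y, hg.symm⟩
  exact ⟨k, h.inj (by rw [map_mul, map_mul, map_inv, hg])⟩

theorem card_cen {x : H0} (hx : S6 x) :
    #C[f x] = (filter (fun k => k * x = x * k) univ).card := by
  rw [← Fintype.card_subtype, ← Nat.card_eq_fintype_card]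
  symm
  refine Nat.card_congr (Equiv.ofBijective (fun k => ⟨f k.1, mem_cen1.2 (by
    rw [← map_mul, k.2, map_mul])⟩) ⟨fun a b e => Subtype.ext (h.inj (congrArg Subtype.val e)), ?_⟩)
  rintro ⟨g, hg⟩
  have hg' := mem_cen1.1 hg
  obtain ⟨k, rfl⟩ := h.se' hx (g := g) ⟨x, by rw [hg', mul_inv_cancel_right]⟩
  exact ⟨⟨k, h.inj (by rw [map_mul, map_mul, hg'])⟩, rfl⟩

theorem zc {x : H0} (hx : S6 x) : Zc (f x) :=
  zc_of fun χ => exists_int_of_isConj_pow (isGen_of_irr χ.2) _ fun m hm => by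
    rw [orderOf_injective f h.inj] at hm
    have h6 : x ^ 6 = 1 := by rw [← hx.1, ← sq, ← pow_mul]
    have ho : ∀ k, (x ^ m) ^ k = 1 ↔ x ^ k = 1 := fun k => by
      rw [← orderOf_dvd_iff_pow_eq_one, ← orderOf_dvd_iff_pow_eq_one, hm.symm.orderOf_pow]
    have e : x ^ m = x ^ (⟨m % 6, Nat.mod_lt _ (by norm_num)⟩ : Fin 6).1 := pow_eq_pow_mod m h6
    obtain ⟨k, hk⟩ := d_rat x hx ⟨m % 6, Nat.mod_lt _ (by norm_num)⟩
      (by rw [← e, Ne, ho, sq]; exact hx.2) (by rw [← e, Ne, ho]; exact (em _).symm)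
    rw [← map_pow, e]
    exact conj_f f hk

theorem cnt {K L : Finset G} {P Q : H0 → Prop} [DecidablePred P] [DecidablePred Q]
    (hP : ∀ k, f k ∈ K ↔ P k) (hQ : ∀ k, f k ∈ L ↔ Q k) (K2 : ∀ k ∈ K, k * k = 1)
    (L2 : ∀ k ∈ L, k * k = 1) {c : H0} (hc : S6 c) :
    Nat.card {q : K × L // (q.1 : G) * q.2 = f c} =
      (filter (fun k => P k ∧ Q (k⁻¹ * c)) univ).card := by
  rw [← Fintype.card_subtype, ← Nat.card_eq_fintype_card]
  symm
  refine Nat.card_congr (Equiv.ofBijective (fun k => ⟨(⟨f k.1, (hP _).2 k.2.1⟩,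
    ⟨f (k.1⁻¹ * c), (hQ _).2 k.2.2⟩), by simp⟩)
    ⟨fun a b e => Subtype.ext (h.inj (congrArg (fun q => (q.1.1 : G)) e)), ?_⟩)
  rintro ⟨⟨⟨k, hk⟩, ⟨l, hl⟩⟩, e⟩
  dsimp only at e
  have k1 : k⁻¹ = k := inv_eq_of_mul_eq_one_left (K2 k hk)
  have l1 : l⁻¹ = l := inv_eq_of_mul_eq_one_left (L2 l hl)
  obtain ⟨a, rfl⟩ := h.se' hc (g := k) ⟨c⁻¹, by
    rw [map_inv, ← e, _root_.mul_inv_rev, l1, k1, ← mul_assoc, K2 k hk, one_mul]⟩
  have e' : f (a⁻¹ * c) = l := by rw [map_mul, map_inv, ← e, inv_mul_cancel_left]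
  exact ⟨⟨a, (hP _).1 hk, (hQ _).1 (e' ▸ hl)⟩, Subtype.ext (Prod.ext rfl (Subtype.ext e'))⟩

theorem syl_cen : Syl 3 ⟪f t0'⟫ C[f σ0] := by
  obtain ⟨-, -, -, -, -, c3, -, -, -, -, -, c1, -, cc, -⟩ := d_pow
  have hx3 : f t0' ^ 3 = 1 := by rw [← map_pow, c3, map_one]
  have hx1 : f t0' ≠ 1 := fun e => c1 (h.inj (e.trans (map_one f).symm))
  have ho : orderOf (f t0') = 3 := haveI := Fact.mk Nat.prime_three; orderOf_eq_prime hx3 hx1
  have hc : #⟪f t0'⟫ = 3 := by rw [card_zpowers', ho]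
  have key : ∀ y, PiElt {3} y → y ∈ C[f σ0] → y ∈ C[f t0'] → y ∈ ⟪f t0'⟫ := by
    intro y hy h1 h2
    obtain ⟨x, rfl⟩ := h.cen _ c3 c1 h2
    obtain ⟨h3, h4⟩ := d_loc x (h.inj (by rw [map_mul, map_mul, mem_cen1.1 h1]))
      (h.inj (by rw [map_mul, map_mul, mem_cen1.1 h2]))
    have h5 : f x ^ 3 = 1 := (hy.pow 3).eq_one ((pElt_of_pow_eq_one Nat.prime_two
      (by rw [← map_pow, ← map_pow, h3, map_one])).sub (by simp))
    rcases h4 (h.inj (by rw [map_pow, h5, map_one])) with rfl | rfl | rfl <;> simp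
  have hp : PGrp 3 ⟪f t0'⟫ := (pElt_of_pow_eq_one Nat.prime_three hx3).zpowers
  refine syl_of_max hp (zpowers_le.2 (mem_cen1.2 (by rw [← map_mul, cc, map_mul]))) fun Q hQ hle hQC => ?_
  obtain ⟨z, ⟨z1, z2⟩, z3⟩ := exists_ne_one
    (hQ.nil.center_ne_bot fun e => zpowers_ne_bot' hx1 (eq_bot_iff.2 (e ▸ hle)))
  have hz : z ∈ ⟪f t0'⟫ := key z (hQ.piElt z1) (hQC z1) (mem_cen1.2 (z2 _ (hle (mem_zpowers _))).symm)
  refine le_antisymm (fun q hq => key q (hQ.piElt hq) (hQC hq) ?_) hle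
  have hpr : (#⟪f t0'⟫).Prime := by rw [hc]; exact Nat.prime_three
  rw [cen1_eq_of_prime hpr (mem_zpowers _) hx1, ← cen1_eq_of_prime hpr hz z3]
  exact mem_cen1.2 (z2 q hq)

theorem not_conj : ¬ IsConj (f s0) (f σ0) := fun e => by
  obtain ⟨g, hg⟩ := isConj_iff.1 e
  obtain ⟨-, -, -, -, c3, c3', -, -, -, -, c1, -, cc, -⟩ := d_pow
  have h1 : g * f t0 * g⁻¹ ∈ C[f σ0] := mem_cen1.2 (by
    rw [← hg, conj_mul, conj_mul, ← map_mul, cc, map_mul])
  obtain ⟨k, -, hk⟩ := h.syl_cen.syl_elt h1 (pElt_of_pow_eq_one Nat.prime_three (by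
    rw [conj_pow, ← map_pow, c3]; simp))
  have h2 : IsConj (f t0) (k * (g * f t0 * g⁻¹) * k⁻¹) := isConj_iff.2 ⟨k * g, by group⟩
  rcases cube_mem (by rw [← map_pow, c3', map_one]) hk with e' | e' | e' <;> rw [e'] at h2
  · exact c1 (h.inj ((isConj_one_left.1 h2).trans (map_one f).symm))
  · obtain ⟨a, ha⟩ := h.conj_of d_s6.1 h2
    exact (d_nc a).1 ha
  · obtain ⟨a, ha⟩ := h.conj_of d_s6.1 (map_inv f t0' ▸ h2)
    exact (d_nc a).2.1 ha

theorem blk (χ : IrrCharacter G) {x y w : H0} (hx : S6 x) (y3 : y ^ 3 = 1) (w3 : w ^ 3 = 1)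
    (w1 : w ≠ 1) (wx : w * x = x * w) (h0 : χ.1 (f y) = 0) {a : ℤ}
    (ha : ∑ k : H0, χ.1 (f (k * x * k⁻¹ * y)) = a) : 27 ∣ a := by
  classical
  have := Fintype.ofFinite G
  have hcl := isClassFunction_of_irr χ.2
  let M := (f.comp inl).range
  let B := ⟪f w⟫
  have := Fintype.ofFinite (M × B)
  let _ : MulAction (M × B) G :=
    { smul := fun γ g => γ.1 * g * (γ.2 : G)⁻¹
      one_smul := fun g => by change ((1 : M) : G) * g * ((1 : B) : G)⁻¹ = g; simp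
      mul_smul := fun γ δ g => by
        change ((γ.1 * δ.1 : M) : G) * g * ((γ.2 * δ.2 : B) : G)⁻¹ =
          γ.1 * (δ.1 * g * (δ.2 : G)⁻¹) * (γ.2 : G)⁻¹
        simp [mul_assoc] }
  have hs : ∀ (γ : M × B) (g : G), γ • g = γ.1 * g * (γ.2 : G)⁻¹ := fun _ _ => rfl
  have hM : M ≤ f.range := by rintro _ ⟨n, rfl⟩; exact ⟨_, rfl⟩
  have hB : B ≤ f.range := zpowers_le.2 ⟨_, rfl⟩
  have hBx : B ≤ C[f x] := zpowers_le.2 (mem_cen1.2 (by rw [← map_mul, wx, map_mul]))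
  have hMy : M ≤ C[f y] := by
    rintro _ ⟨n, rfl⟩
    exact mem_cen1.2 (by
      rw [MonoidHom.comp_apply, ← map_mul, d_comm _ _ ((d_cube _).2 rfl) y3, map_mul])
  obtain ⟨ω, h1, h2⟩ := sum_free (Γ := M × B) (fun g => χ.1 (g * f x * g⁻¹ * f y))
    (fun g => isCharacter_isIntegral (isCharacter_of_irr χ.2) _) (fun γ g => by
      have e1 := mem_cen1.1 (hBx γ.2.2)
      have e2 := mem_cen1.1 (hMy γ.1.2)
      rw [hs, ← hcl (g * f x * g⁻¹ * f y) (γ.1 : G)]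
      refine congrArg χ.1 ?_
      calc (γ.1 : G) * g * (γ.2 : G)⁻¹ * f x * ((γ.1 : G) * g * (γ.2 : G)⁻¹)⁻¹ * f y =
          γ.1 * g * ((γ.2 : G)⁻¹ * (f x * γ.2)) * g⁻¹ * ((γ.1 : G)⁻¹ * (f y * γ.1) * (γ.1 : G)⁻¹) := by
            group
        _ = _ := by rw [← e1, ← e2]; group)
    (filter (· ∉ f.range) univ) (fun γ g hg => by
      rw [mem_filter] at hg ⊢
      refine ⟨mem_univ _, fun e => hg.2 ?_⟩
      rw [hs, mul_mem_cancel_right (inv_mem (hB γ.2.2)), mul_mem_cancel_left (hM γ.1.2)] at e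
      exact e)
    (fun g hg γ e => by
      rw [hs, mul_inv_eq_iff_eq_mul] at e
      obtain ⟨⟨_, n, rfl⟩, b⟩ := γ
      dsimp only at e
      have e1 : (inl n : H0) = 1 := by
        by_contra e1
        refine (mem_filter.1 hg).2 (inv_mem_iff.1 (h.se ((d_cube _).2 rfl) e1 (g := g⁻¹) ?_))
        rw [inv_inv, mul_assoc, ← MonoidHom.comp_apply, e, inv_mul_cancel_left]
        exact hB b.2
      rw [MonoidHom.comp_apply, e1, map_one, one_mul, left_eq_mul] at e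
      exact Prod.ext (Subtype.ext (show f (inl n) = 1 by rw [e1, map_one])) (Subtype.ext e))
  have hc : Fintype.card (M × B) = 27 := by
    have hw : orderOf (f w) = 3 := haveI := Fact.mk Nat.prime_three
      orderOf_eq_prime (by rw [← map_pow, w3, map_one]) fun e => w1 (h.inj (e.trans (map_one f).symm))
    rw [← Nat.card_eq_fintype_card, Nat.card_prod, Nat.card_zpowers, hw,
      ← Nat.card_congr (MonoidHom.ofInjective (f := f.comp inl) fun a b e => inl_injective (h.inj e)).toEquiv]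
    simp
  have h3 := sum_irr_conj_mul χ.2 (f x) (f y)
  rw [h0, mul_zero, zero_div, ← sum_filter_add_sum_filter_not univ (· ∈ f.range), h2, hc] at h3
  have h4 : ∑ g ∈ filter (· ∈ f.range) univ, χ.1 (g * f x * g⁻¹ * f y) = a := by
    rw [← ha]
    symm
    refine sum_bij (fun k _ => f k) (fun k _ => mem_filter.2 ⟨mem_univ _, k, rfl⟩)
      (fun a _ b _ e => h.inj e) (fun g hg => ?_) (fun k _ => by simp)
    obtain ⟨k, rfl⟩ := (mem_filter.1 hg).2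
    exact ⟨k, mem_univ _, rfl⟩
  rw [h4] at h3
  refine int_dvd_of_isIntegral_div (by norm_num) ?_
  have : (a : ℂ) / ((27 : ℤ) : ℂ) = -ω := by
    push_cast at h3 ⊢
    linear_combination h3 / 27
  rw [this]
  exact h1.neg

theorem lin (hz : ¬ IsConj (f z0) (f σ0)) : ∃ χ : IrrCharacter G, χ.1 1 = 1 ∧ χ.1 (f t0) = 1 ∧
    χ.1 (f t0') = 1 ∧ χ.1 (f u0) = -1 ∧ χ.1 (f v0) = -1 := by
  classical
  have := Fintype.ofFinite G
  obtain ⟨s1, s2, s3, s4⟩ := d_s6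
  obtain ⟨p1, p2, p3, p4, p5, p6, p7, p8, p9, p10, p11, p12, p13, p14, p15, p16, p17⟩ := d_pow
  let K : Finset G := filter (fun k => k * k = 1 ∧ k ≠ 1 ∧ ¬ IsConj (f σ0) k) univ
  let L : Finset G := filter (fun k => IsConj (f σ0) k) univ
  have mK : ∀ k, k ∈ K ↔ k * k = 1 ∧ k ≠ 1 ∧ ¬ IsConj (f σ0) k := fun k => by simp [K]
  have mL : ∀ k, k ∈ L ↔ IsConj (f σ0) k := fun k => by simp [L]
  have cj : ∀ g k : G, IsConj k (g * k * g⁻¹) := fun g k => isConj_iff.2 ⟨g, rfl⟩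
  have hK : ∀ g, ∀ k ∈ K, g * k * g⁻¹ ∈ K := fun g k hk => by
    obtain ⟨a, b, c⟩ := (mK k).1 hk
    exact (mK _).2 ⟨by rw [conj_mul, a]; simp, by simpa using b, fun e => c (e.trans (cj g k).symm)⟩
  have hL : ∀ g, ∀ k ∈ L, g * k * g⁻¹ ∈ L := fun g k hk => (mL _).2 (((mL _).1 hk).trans (cj g k))
  have K2 : ∀ k ∈ K, k * k = 1 := fun k hk => ((mK k).1 hk).1
  have L2 : ∀ k ∈ L, k * k = 1 := fun k hk => by
    obtain ⟨g, rfl⟩ := isConj_iff.1 ((mL k).1 hk)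
    rw [conj_mul, ← map_mul, p10]; simp
  have nK : ∀ k, K0 k → ¬ IsConj (f σ0) (f k) := fun k hk e => by
    obtain ⟨a, ha | ha⟩ := d_K k hk
    · exact h.not_conj ((conj_f f ha).trans e.symm)
    · exact hz ((conj_f f ha).trans e.symm)
  have hQ : ∀ k, f k ∈ L ↔ L0 k := fun k => by
    refine ⟨fun hk => (d_KL k (h.inj (by rw [map_mul, L2 _ hk, map_one])) ?_).resolve_left
      fun e => nK k e ((mL _).1 hk), fun hk => ?_⟩
    · rintro rfl
      rw [mL, map_one, isConj_one_left] at hk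
      exact p15 (h.inj (hk.trans (map_one f).symm))
    · obtain ⟨a, ha⟩ := d_L k hk
      exact (mL _).2 (conj_f f ha)
  have hP : ∀ k, f k ∈ K ↔ K0 k := fun k => by
    rw [mK]
    refine ⟨fun ⟨a, b, c⟩ => (d_KL k (h.inj (by rw [map_mul, a, map_one]))
      (fun e => b (by rw [e, map_one]))).resolve_right fun e => c ((mL _).1 ((hQ k).2 e)), fun hk =>
      ⟨by rw [← map_mul, hk.1, map_one], fun e => d_K1 k hk (h.inj (e.trans (map_one f).symm)), nK k hk⟩⟩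
  have col : ∀ {x}, S6 x → ∑ χ, zv (f x) χ * zv (f x) χ = (filter (fun k => k * x = x * k) univ).card :=
    fun hx => by rw [(h.zc hx).col (h.zc hx) (IsConj.refl _), h.card_cen hx]
  have col0 : ∀ {x y}, S6 x → S6 y → (∀ k, k * x * k⁻¹ ≠ y) → ∑ χ, zv (f x) χ * zv (f y) χ = 0 :=
    fun hx hy e => (h.zc hx).col0 (h.zc hy) fun e' => (h.conj_of hx e').elim e
  have ne2 : ∀ {x}, S6 x → f x * f x ≠ 1 := fun hx e =>
    hx.2 (h.inj (by rw [map_mul, e, map_one]))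
  have col1 : ∀ {x}, S6 x → ∑ χ, zv (f x) χ * zv 1 χ = 0 := fun hx =>
    (h.zc hx).col0 zc_one fun e => ne2 hx (by rw [isConj_one_left.1 e, one_mul])
  have cn : ∀ {K L : Finset G} {P Q : H0 → Prop} [DecidablePred P] [DecidablePred Q]
      (hP : ∀ k, f k ∈ K ↔ P k) (hQ : ∀ k, f k ∈ L ↔ Q k) (hK : ∀ g, ∀ k ∈ K, g * k * g⁻¹ ∈ K)
      (hL : ∀ g, ∀ k ∈ L, g * k * g⁻¹ ∈ L) (K2 : ∀ k ∈ K, k * k = 1) (L2 : ∀ k ∈ L, k * k = 1) {c : H0}
      (hc : S6 c) {n : ℕ} (hn : (filter (fun k => P k ∧ Q (k⁻¹ * c)) univ).card = n),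
      ∑ χ, (zv (f c) χ * (sv K χ * sv L χ / zv 1 χ) : ℚ) = n * Nat.card G := by
    intro K L P Q _ _ hP hQ hK hL K2 L2 c hc n hn
    rw [cnt_formula K L hK hL K2 L2 (h.zc hc), h.cnt hP hQ K2 L2 hc, hn]
  have o3 : ∀ {x : H0}, x ^ 3 = 1 → x ≠ 1 → orderOf (f x) = 3 := fun h3 h1 =>
    haveI := Fact.mk Nat.prime_three
    orderOf_eq_prime (by rw [← map_pow, h3, map_one]) fun e => h1 (h.inj (e.trans (map_one f).symm))
  have r1 : IsConj (f t0) (f t0)⁻¹ := map_inv f t0 ▸ conj_f f p7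
  have r2 : IsConj (f t0') (f t0')⁻¹ := map_inv f t0' ▸ conj_f f p8
  have hΦ : ∀ (χ : IrrCharacter G) (k x : H0), χ.1 (f (k * x * k⁻¹)) = χ.1 (f x) := fun χ k x => by
    rw [map_mul, map_mul, map_inv, isClassFunction_of_irr χ.2]
  have zs : Zc (f s0) := zc_sq (by rw [← map_mul, p9, map_one])
  have zσ : Zc (f σ0) := zc_sq (by rw [← map_mul, p10, map_one])
  obtain ⟨χ, e1, e2, e3, e4, e5⟩ := main (d := zv 1) (p := zv (f t0)) (q := zv (f t0')) (u := zv (f u0))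
    (v := zv (f v0)) (E := sv K) (F := sv L) (o := trivIrr G) (g := Nat.card G)
    (by exact_mod_cast Nat.card_pos.ne') zv_pos (zv_triv _) (zv_triv _) (zv_triv _) (zv_triv _)
    (zv_triv _) (by rw [col s1, d_cen.1]; rfl) (by rw [col s2, d_cen.2.1]; rfl)
    (by rw [col s3, d_cen.2.2.1]; rfl) (by rw [col s4, d_cen.2.2.2]; rfl)
    (col0 s1 s2 fun k => (d_nc k).1) (col0 s1 s3 fun k => (d_nc k).2.2.1)
    (col0 s1 s4 fun k => (d_nc k).2.2.2.1) (col0 s2 s3 fun k => (d_nc k).2.2.2.2.1)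
    (col0 s2 s4 fun k => (d_nc k).2.2.2.2.2.1) (col0 s3 s4 fun k => (d_nc k).2.2.2.2.2.2)
    ⟨col1 s1, col1 s2, col1 s3, col1 s4⟩
    ⟨sv_orth K K2 (h.zc s1) (ne2 s1), sv_orth K K2 (h.zc s2) (ne2 s2),
      sv_orth K K2 (h.zc s3) (ne2 s3), sv_orth K K2 (h.zc s4) (ne2 s4)⟩
    ⟨sv_orth L L2 (h.zc s1) (ne2 s1), sv_orth L L2 (h.zc s2) (ne2 s2),
      sv_orth L L2 (h.zc s3) (ne2 s3), sv_orth L L2 (h.zc s4) (ne2 s4)⟩
    (fun χ => by
      have := zv_mod3 (o3 p5 p11) r1 χ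
      have := zv_mod3 (o3 p6 p12) r2 χ
      omega)
    (fun χ => by
      obtain ⟨k, hk⟩ := classInner_nat (isCharacter_comp (f.comp inl) (isCharacter_of_irr χ.2))
        isCharacter_one
      have e := sum_lab (fun x => χ.1 (f x)) (hΦ χ) lab1 ![1, t0, t0'] inl d_lab1
      simp only [d_c1, Fin.sum_univ_three] at e
      simp only [Matrix.cons_val_zero, Matrix.cons_val_one, Matrix.cons_val, map_one, zc_one χ,
        h.zc s1 χ, h.zc s2 χ] at e
      rw [classInner_one_right, show Nat.card N0 = 9 by simp] at hk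
      simp only [MonoidHom.comp_apply, e] at hk
      refine ⟨k, ?_⟩
      have : ((zv 1 χ + 4 * zv (f t0) χ + 4 * zv (f t0') χ : ℤ) : ℂ) = (9 * k : ℤ) := by
        push_cast at hk ⊢
        linear_combination 9 * hk
      exact_mod_cast this)
    (fun χ => H23.pow_modEq Nat.prime_two (isCharacter_of_irr χ.2) (h.zc s3 χ) (by
      rw [← map_pow, p3, map_inv, ← isClassFunction_eq_of_isConj (isClassFunction_of_irr χ.2) r1,
        h.zc s1 χ]))
    (fun χ => H23.pow_modEq Nat.prime_two (isCharacter_of_irr χ.2) (h.zc s4 χ) (by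
      rw [← map_pow, p4, map_inv, ← isClassFunction_eq_of_isConj (isClassFunction_of_irr χ.2) r2,
        h.zc s2 χ]))
    (fun χ h0 => by
      have e := sum_lab (fun x => χ.1 (f x)) (hΦ χ) (fun k => lab2 (k * u0 * k⁻¹ * t0')) ![s0, u0]
        (fun k => k * u0 * k⁻¹ * t0') d_lab2
      simp only [d_c2, Fin.sum_univ_two] at e
      simp only [Matrix.cons_val_zero, Matrix.cons_val_one, zs χ, h.zc s3 χ] at e
      have h1 := h.blk χ s3 p6 p5 p11 p16 (by rw [h.zc s2 χ, h0, Int.cast_zero])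
        (a := 36 * zv (f s0) χ + 36 * zv (f u0) χ) (by rw [e]; push_cast; rfl)
      have h2 := H23.pow_modEq Nat.prime_three (isCharacter_of_irr χ.2) (h.zc s3 χ)
        (by rw [← map_pow, p1, zs χ])
      omega)
    (fun χ h0 => by
      have e := sum_lab (fun x => χ.1 (f x)) (hΦ χ) (fun k => lab2 (k * v0 * k⁻¹ * t0)) ![σ0, v0]
        (fun k => k * v0 * k⁻¹ * t0) d_lab3
      simp only [d_c3, Fin.sum_univ_two] at e
      simp only [Matrix.cons_val_zero, Matrix.cons_val_one, zσ χ, h.zc s4 χ] at e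
      have h1 := h.blk χ s4 p5 p6 p12 p17 (by rw [h.zc s1 χ, h0, Int.cast_zero])
        (a := 36 * zv (f σ0) χ + 36 * zv (f v0) χ) (by rw [e]; push_cast; rfl)
      have h2 := H23.pow_modEq Nat.prime_three (isCharacter_of_irr χ.2) (h.zc s4 χ)
        (by rw [← map_pow, p2, zσ χ])
      omega)
    ⟨by simpa using cn hP hP hK hK K2 K2 s1 d_KK.1, by simpa using cn hP hP hK hK K2 K2 s2 d_KK.2.1,
      by simpa using cn hP hP hK hK K2 K2 s3 d_KK.2.2.1,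
      by simpa using cn hP hP hK hK K2 K2 s4 d_KK.2.2.2⟩
    ⟨by simpa using cn hP hQ hK hL K2 L2 s1 d_KL'.1, by simpa using cn hP hQ hK hL K2 L2 s2 d_KL'.2.1,
      by simpa using cn hP hQ hK hL K2 L2 s3 d_KL'.2.2.1,
      by simpa using cn hP hQ hK hL K2 L2 s4 d_KL'.2.2.2⟩
    ⟨by simpa using cn hQ hQ hL hL L2 L2 s1 d_LL.1, by simpa using cn hQ hQ hL hL L2 L2 s2 d_LL.2.1,
      by simpa using cn hQ hQ hL hL L2 L2 s3 d_LL.2.2.1,
      by simpa using cn hQ hQ hL hL L2 L2 s4 d_LL.2.2.2⟩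
  refine ⟨χ, ?_, ?_, ?_, ?_, ?_⟩
  · rw [zc_one χ, e1, Int.cast_one]
  · rw [h.zc s1 χ, e2, Int.cast_one]
  · rw [h.zc s2 χ, e3, Int.cast_one]
  · rw [h.zc s3 χ, e4]; simp
  · rw [h.zc s4 χ, e5]; simp

end Hy

end Cfsg.Agent.H5.Hy
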