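import Cfsg.Agent.H5.Hy3
import Cfsg.Agent.H28.AutP

/-! Hayden's theorem: construction of the model. -/

set_option autoImplicit false
set_option linter.unusedSectionVars false
set_option linter.unusedVariables false

namespace Cfsg.Agent.H5.Hy

open Subgroup Cfsg.Agent.H6 Cfsg.Agent.H21 Cfsg.Agent.FT DihedralGroup SemidirectProduct

variable {G : Type*} [Group G] [Finite G] {M : Subgroup G} {ψ : DihedralGroup 4 →* G}

theorem not_mem (h3 : ∀ m ∈ M, m ^ 3 = 1) (hi : Function.Injective ψ) {d : DihedralGroup 4}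
    (hd : ψ d ∈ M) : d = 1 := by
  have h1 : d ^ 3 = 1 := hi (by rw [map_pow, h3 _ hd, map_one])
  exact (by decide : ∀ d : DihedralGroup 4, d ^ 3 = 1 → d = 1) d h1

theorem z_inverts (h9 : #M = 9) (h3 : ∀ m ∈ M, m ^ 3 = 1) (hC : C(M) = M)
    (hi : Function.Injective ψ) (hψ : ∀ d, ψ d ∈ N(M)) {m : G} (hm : m ∈ M) :
    ψ (r 2) * m * (ψ (r 2))⁻¹ = m⁻¹ := by
  have ab : ∀ a ∈ M, ∀ b ∈ M, a * b = b * a := fun a ha b hb => (hC.ge hb) a ha
  set z := ψ (r 2) with hz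
  have z2 : z * z = 1 := by rw [hz, ← map_mul, show (r 2 * r 2 : DihedralGroup 4) = 1 by decide, map_one]
  let B : Subgroup G :=
    { carrier := {m | m ∈ M ∧ z * m * z⁻¹ = m⁻¹}
      mul_mem' := fun {a b} ha hb => ⟨mul_mem ha.1 hb.1, by
        rw [← conj_mul, ha.2, hb.2, ← _root_.mul_inv_rev, ab b hb.1 a ha.1]⟩
      one_mem' := ⟨one_mem _, by simp⟩
      inv_mem' := fun {a} ha => ⟨inv_mem ha.1, by rw [← conj_inv, ha.2]⟩ }
  have hBM : B ≤ M := fun a ha => ha.1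
  by_contra hne
  obtain ⟨c, hc, hc'⟩ : ∃ c ∈ M, z * c * z⁻¹ ≠ c := by
    by_contra hn
    have : z ∈ C(M) := fun c hc => by
      by_contra e
      exact hn ⟨c, hc, fun e' => e (mul_inv_eq_iff_eq_mul.1 e').symm⟩
    exact absurd (not_mem h3 hi (hC.le this)) (by decide)
  have hzc : z * c * z⁻¹ ∈ M := conj_mem (hψ _) hc
  have hb : c * (z * c * z⁻¹)⁻¹ ∈ B := ⟨mul_mem hc (inv_mem hzc), by
    calc _ = z * c * z⁻¹ * ((z * z) * c⁻¹ * (z * z)⁻¹) := by group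
      _ = _ := by rw [z2]; group⟩
  have b1 : c * (z * c * z⁻¹)⁻¹ ≠ 1 := fun e => hc' (mul_inv_eq_one.1 e).symm
  generalize c * (z * c * z⁻¹)⁻¹ = b at hb b1
  have b3 := h3 b hb.1
  have ho : orderOf b = 3 := haveI := Fact.mk Nat.prime_three; orderOf_eq_prime b3 b1
  have h1 := card_mul_relIndex (zpowers_le.2 hb.1)
  rw [card_zpowers', ho, h9] at h1
  have h2 : (⟪b⟫.relIndex M).Prime := by
    rw [show ⟪b⟫.relIndex M = 3 by omega]; exact Nat.prime_three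
  rcases eq_or_eq_of_prime_relIndex h2 (zpowers_le.2 hb) hBM with e | e
  · set ρ := ψ (r 1) with hρ
    have hρz : ρ * ρ = z := by rw [hρ, hz, ← map_mul]; rfl
    have h4 : ρ * b * ρ⁻¹ ∈ B := ⟨conj_mem (hψ _) hb.1, by
      rw [conj_inv, ← hb.2, ← hρz]; group⟩
    have h5 : z * b * z⁻¹ = ρ * (ρ * b * ρ⁻¹) * ρ⁻¹ := by rw [← hρz]; group
    have h6 : b⁻¹ ≠ b := fun e' => b1 (by
      rw [pow_three, ← inv_eq_iff_mul_eq_one, e', left_eq_mul] at b3; exact b3)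
    rw [hb.2] at h5
    rcases cube_mem b3 (e ▸ h4) with e' | e' | e'
    · exact b1 (by simpa using e')
    · rw [e', e'] at h5; exact h6 h5
    · rw [e', ← conj_inv, e', inv_inv] at h5; exact h6 h5
  · exact hne (e.ge hm).2

theorem exists_f (h9 : #M = 9) (h3 : ∀ m ∈ M, m ^ 3 = 1) (hC : C(M) = M)
    (hN : Nat.card N(M) = 72) (hc : ∀ g ∈ M, g ≠ 1 → C[g] ≤ N(M))
    (hi : Function.Injective ψ) (hψ : ∀ d, ψ d ∈ N(M)) :
    ∃ f : H0 →* G, Hy f ∧ (∀ d, f (inr d) = ψ d) ∧ (f.comp inl).range = M ∧ f.range = N(M) := by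
  have ab : ∀ a ∈ M, ∀ b ∈ M, a * b = b * a := fun a ha b hb => (hC.ge hb) a ha
  have hz := fun m (hm : m ∈ M) => z_inverts h9 h3 hC hi hψ hm
  set s := ψ (sr 0) with hs
  set ρ := ψ (r 1) with hρ
  have s2 : s * s = 1 := by rw [hs, ← map_mul, show (sr 0 * sr 0 : DihedralGroup 4) = 1 by decide, map_one]
  have hρz : ψ (r 2) = ρ * ρ := by rw [hρ, ← map_mul]; rfl
  have hsρ : s * ρ = ρ⁻¹ * s := by rw [hs, hρ, ← map_inv, ← map_mul, ← map_mul]; rfl
  obtain ⟨c, hc1, hc2⟩ : ∃ c ∈ M, s * c * s⁻¹ ≠ c⁻¹ := by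
    by_contra hn
    have : ψ (sr 0 * r 2) ∈ C(M) := fun c hc => by
      have h1 : s * c⁻¹ * s⁻¹ = c⁻¹⁻¹ := by
        by_contra e
        exact hn ⟨c⁻¹, inv_mem hc, e⟩
      rw [map_mul, ← hs, eq_comm, ← mul_inv_eq_iff_eq_mul]
      calc _ = s * (ψ (r 2) * c * (ψ (r 2))⁻¹) * s⁻¹ := by group
        _ = _ := by rw [hz c hc, h1, inv_inv]
    exact absurd (not_mem h3 hi (hC.le this)) (by decide)
  have hsc : s * c * s⁻¹ ∈ M := conj_mem (hψ _) hc1
  have a1 : c * (s * c * s⁻¹) ∈ M := mul_mem hc1 hsc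
  have a2 : c * (s * c * s⁻¹) ≠ 1 := fun e => hc2 (eq_inv_of_mul_eq_one_right e)
  have a3 : s * (c * (s * c * s⁻¹)) * s⁻¹ = c * (s * c * s⁻¹) := by
    rw [← conj_mul, show s * (s * c * s⁻¹) * s⁻¹ = (s * s) * c * (s * s)⁻¹ by group, s2, ab _ hc1 _ hsc]
    simp
  generalize c * (s * c * s⁻¹) = t2 at a1 a2 a3
  obtain ⟨t1, b0⟩ : ∃ t1, ρ * t2 * ρ⁻¹ = t1 := ⟨_, rfl⟩
  have b1 : t1 ∈ M := b0 ▸ conj_mem (hψ _) a1
  have b2 : ρ * t1 * ρ⁻¹ = t2⁻¹ := by rw [← hz t2 a1, hρz, ← b0]; group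
  have b3 : s * t1 * s⁻¹ = t1⁻¹ := by
    calc s * t1 * s⁻¹ = (s * ρ) * t2 * (s * ρ)⁻¹ := by rw [← b0]; group
      _ = ρ⁻¹ * (s * t2 * s⁻¹) * ρ := by rw [hsρ]; group
      _ = ρ⁻¹ * (ρ * t1 * ρ⁻¹)⁻¹ * ρ := by rw [a3, b2, inv_inv]
      _ = _ := by group
  have c12 : Commute t1 t2 := ab _ b1 _ a1
  let f1 : N0 →* G := MonoidHom.mk' (fun n => t1 ^ n.toAdd.1.val * t2 ^ n.toAdd.2.val) fun a b => by
    simp only [toAdd_mul, Prod.fst_add, Prod.snd_add, ZMod.val_add]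
    rw [← pow_eq_pow_mod _ (h3 _ b1), ← pow_eq_pow_mod _ (h3 _ a1), pow_add, pow_add,
      ((c12.symm.pow_pow _ _).mul_mul_mul_comm _ _)]
  have e1 : f1 n1 = t1 := by change t1 ^ 1 * t2 ^ 0 = _; simp
  have e2 : f1 n2 = t2 := by change t1 ^ 0 * t2 ^ 1 = _; simp
  have f1M : ∀ n, f1 n ∈ M := fun n => mul_mem (pow_mem b1 _) (pow_mem a1 _)
  have gen : ∀ d, f1 (φ0 d n1) = ψ d * t1 * (ψ d)⁻¹ → f1 (φ0 d n2) = ψ d * t2 * (ψ d)⁻¹ →
      ∀ n, f1 (φ0 d n) = ψ d * f1 n * (ψ d)⁻¹ := fun d h1 h2 n => by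
    have : ∀ n : N0, n = n1 ^ n.toAdd.1.val * n2 ^ n.toAdd.2.val := by decide
    rw [this n]
    simp only [map_mul, map_pow, h1, h2, e1, e2, conj_pow, conj_mul]
  have gr := gen (r 1) (by rw [show φ0 (r 1) n1 = n2⁻¹ by decide, map_inv, e2, b2])
    (by rw [show φ0 (r 1) n2 = n1 by decide, e1, b0])
  have gs := gen (sr 0) (by rw [show φ0 (sr 0) n1 = n1⁻¹ by decide, map_inv, e1, b3])
    (by rw [show φ0 (sr 0) n2 = n2 by decide, e2, a3])
  have gm : ∀ d e, (∀ n, f1 (φ0 d n) = ψ d * f1 n * (ψ d)⁻¹) →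
      (∀ n, f1 (φ0 e n) = ψ e * f1 n * (ψ e)⁻¹) →
      ∀ n, f1 (φ0 (d * e) n) = ψ (d * e) * f1 n * (ψ (d * e))⁻¹ := fun d e h1 h2 n => by
    rw [map_mul, MulAut.mul_apply, h1, h2, map_mul]; group
  have gp : ∀ i : ℕ, ∀ n, f1 (φ0 (r 1 ^ i) n) = ψ (r 1 ^ i) * f1 n * (ψ (r 1 ^ i))⁻¹ := fun i => by
    induction i with
    | zero => simp
    | succ i ih => rw [pow_succ]; exact gm _ _ ih gr
  have ga : ∀ d n, f1 (φ0 d n) = ψ d * f1 n * (ψ d)⁻¹ := fun d => by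
    obtain ⟨i, e | e⟩ := (by decide : ∀ d : DihedralGroup 4, ∃ i : Fin 4,
      d = r 1 ^ i.1 ∨ d = sr 0 * r 1 ^ i.1) d <;> rw [e]
    · exact gp i
    · exact gm _ _ gs (gp i)
  let f : H0 →* G := lift f1 ψ fun d => MonoidHom.ext (ga d)
  have i1 : Function.Injective f1 := (injective_iff_map_eq_one _).2 fun n hn => by
    by_contra n1
    obtain ⟨a, b, e⟩ := d_irr n n1 n2
    exact a2 (by rw [← e2, ← e, map_mul, ga, ga, hn]; simp)
  have inj : Function.Injective f := (injective_iff_map_eq_one _).2 fun x hx => by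
    change f1 x.left * ψ x.right = 1 at hx
    have h1 : x.right = 1 := not_mem h3 hi (by
      rw [eq_inv_of_mul_eq_one_right hx]; exact inv_mem (f1M _))
    rw [h1, map_one, mul_one] at hx
    exact SemidirectProduct.ext (i1 (hx.trans (map_one f1).symm)) h1
  have r1 : (f.comp inl).range = M := by
    refine eq_of_le_of_card_ge (by rintro _ ⟨n, rfl⟩; simpa [f] using f1M n) ?_
    rw [h9, ← Nat.card_congr (MonoidHom.ofInjective (f := f.comp inl)
      fun a b e => inl_injective (inj e)).toEquiv]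
    simp
  have r2 : f.range = N(M) := by
    refine eq_of_le_of_card_ge ?_ ?_
    · rintro _ ⟨x, rfl⟩
      exact mul_mem (le_nrm _ (f1M _)) (hψ _)
    · rw [hN, ← Nat.card_congr (MonoidHom.ofInjective inj).toEquiv, card_H0]
  have hM : ∀ m : H0, m ^ 3 = 1 → f m ∈ M := fun m hm => by
    change f1 m.left * ψ m.right ∈ M
    rw [(d_cube m).1 hm, map_one, mul_one]; exact f1M _
  refine ⟨f, ⟨inj, fun m hm m1 => r2 ▸ hc _ (hM m hm) fun e => m1 (inj (e.trans (map_one f).symm)),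
    fun g hg => ?_⟩, fun d => lift_inr _ _ _ d, r1, r2⟩
  rw [r2]
  refine mem_nrm.2 fun m hm => ?_
  obtain ⟨n, rfl⟩ := r1.ge hm
  obtain ⟨x, hx⟩ := hg (inl n) ((d_cube _).2 rfl)
  rw [MonoidHom.comp_apply, ← hx]
  refine hM x (inj ?_)
  rw [map_pow, hx, conj_pow, ← map_pow, (d_cube _).2 rfl]; simp

theorem exists_lin (h9 : #M = 9) (h3 : ∀ m ∈ M, m ^ 3 = 1) (hC : C(M) = M)
    (hN : Nat.card N(M) = 72) (hc : ∀ g ∈ M, g ≠ 1 → C[g] ≤ N(M))
    (hi : Function.Injective ψ) (hψ : ∀ d, ψ d ∈ N(M)) :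
    ∃ f : H0 →* G, Hy f ∧ (f.comp inl).range = M ∧ f.range = N(M) ∧
      ∃ χ : IrrCharacter G, χ.1 1 = 1 ∧ χ.1 (f t0) = 1 ∧
        χ.1 (f t0') = 1 ∧ χ.1 (f u0) = -1 ∧ χ.1 (f v0) = -1 := by
  obtain ⟨f, h, e, r1, r2⟩ := exists_f h9 h3 hC hN hc hi hψ
  by_cases hz : IsConj (f z0) (f σ0)
  · obtain ⟨α, α1, α2, α3⟩ : ∃ α : DihedralGroup 4 →* DihedralGroup 4, Function.Injective α ∧
        α (sr 3) = sr 0 ∧ α (r 2) = r 2 :=
      ⟨MonoidHom.mk' (fun d => if ∃ i, d = r i then d else d * r 1) (by decide), by decide, by decide,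
        by decide⟩
    obtain ⟨f', h', e', r1', r2'⟩ := exists_f (ψ := ψ.comp α) h9 h3 hC hN hc (fun a b e => α1 (hi e))
      fun d => hψ _
    refine ⟨f', h', r1', r2', h'.lin fun hz' => h.not_conj (IsConj.trans ?_ hz)⟩
    rw [z0, σ0, e', e', MonoidHom.comp_apply, MonoidHom.comp_apply, α2, α3, ← e, ← e] at hz'
    exact hz'.symm
  · exact ⟨f, h, r1, r2, h.lin hz⟩

theorem thm3716 (M : Sylow 3 G) (hM9 : Nat.card ↥(M : Subgroup G) = 9)
    (hMel : ∀ m ∈ (M : Subgroup G), m ^ 3 = 1)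
    (hCM : Subgroup.centralizer ((M : Subgroup G) : Set G) = (M : Subgroup G))
    (N : Subgroup G) (hN : N = Subgroup.normalizer ((M : Subgroup G) : Set G))
    (hCg : ∀ g ∈ (M : Subgroup G), g ≠ 1 → Subgroup.centralizer ({g} : Set G) ≤ N)
    (hS : ∀ S : Sylow 2 ↥N, Nonempty (↥(S : Subgroup ↥N) ≃* DihedralGroup 4)) :
    ¬ IsSimpleGroup G := by
  intro hs
  subst hN
  have := Fact.mk Nat.prime_two
  have := Fact.mk Nat.prime_three
  obtain ⟨S⟩ := (inferInstance : Nonempty (Sylow 2 N((M : Subgroup G))))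
  obtain ⟨e⟩ := hS S
  have h72 : Nat.card N((M : Subgroup G)) = 72 := by
    have h1 := relIndex_cen_dvd_card_aut (le_refl N((M : Subgroup G)))
    have h9 : Nat.card (M : Subgroup G) = 3 ^ 2 := hM9
    obtain ⟨k, hk, e'⟩ := (Nat.dvd_prime_pow Nat.prime_three).mp (h9 ▸ (frattini (M : Subgroup G)).index_dvd_card)
    have h2 : Nat.card (MulAut (M : Subgroup G)) ∣ 48 :=
      (H28.card_mulAut_dvd h9 e').trans (by interval_cases k <;> decide)
    rw [hCM] at h1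
    have h3 := card_mul_relIndex (le_nrm (M : Subgroup G))
    have h4 : ¬ 3 ∣ (M : Subgroup G).relIndex N((M : Subgroup G)) := fun h =>
      M.not_dvd_index (h.trans (relIndex_dvd_index_of_le (le_nrm _)))
    have h5 := S.card_eq_multiplicity
    rw [Nat.card_congr e.toEquiv, nat_card] at h5
    have h6 : (Nat.card N((M : Subgroup G))).factorization 2 = 3 :=
      Nat.pow_right_injective le_rfl h5.symm
    have h7 := (Nat.prime_two.pow_dvd_iff_le_factorization (k := 3) Nat.card_pos.ne').2 h6.ge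
    have h8 : ¬ 2 ^ 4 ∣ Nat.card N((M : Subgroup G)) := fun h => by
      have := (Nat.prime_two.pow_dvd_iff_le_factorization Nat.card_pos.ne').1 h
      omega
    have h10 := h1.trans h2
    have h11 := Nat.le_of_dvd (by norm_num) h10
    rw [hM9] at h3
    rw [← h3] at h7 h8 ⊢
    generalize (M : Subgroup G).relIndex N((M : Subgroup G)) = n at *
    interval_cases n <;> omega
  let ψ : DihedralGroup 4 →* G := (N((M : Subgroup G))).subtype.comp
    ((S : Subgroup _).subtype.comp e.symm.toMonoidHom)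
  have hi : Function.Injective ψ := fun a b h => e.symm.injective (Subtype.ext (Subtype.ext h))
  obtain ⟨f, h, -, -, χ, x1, -, -, x4, -⟩ := exists_lin hM9 hMel hCM h72 hCg hi
    fun d => (e.symm d).1.2
  have hn : ¬ IsMulCommutative G := fun hc =>
    absurd (h.inj (by rw [map_mul, map_mul, hc.1.1]) : z0 * t0 = t0 * z0) (by decide +kernel)
  have h1 := (zv_faithful hn (h.zc d_s6.1)
    (fun e => d_pow.2.2.2.2.2.2.2.2.2.2.1 (h.inj (e.trans (map_one f).symm))) χ fun e => by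
      rw [e, trivIrr_apply] at x4; norm_num at x4).1
  have h2 : zv 1 χ = 1 := by exact_mod_cast (zc_one χ).symm.trans x1
  omega

end Cfsg.Agent.H5.Hy
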