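import Cfsg.Agent.H22.Rk2
import Cfsg.Agent.H22.Red
import Cfsg.Agent.H22.S3A
import Cfsg.Agent.H13.SzPart
import Cfsg.Agent.H13.SzEasy
import Cfsg.Agent.H13.SzModels

/-! Groups `L` of characteristic `p` that are minimal over an elementary abelian subgroup `Y`, with `L / O_p(L)` of
rank one. -/

set_option autoImplicit false
set_option linter.unusedSectionVars false

namespace Cfsg.Agent.H5e

open Cfsg Subgroup Cfsg.Agent.FT Cfsg.Agent.P22
open scoped commutatorElement MatrixGroups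

variable {G K : Type*} [Group G] [Finite G] [Group K] [Finite K] {p : ℕ} {A B V W X Y : Subgroup G}
  {a b c g h u v w x y z : G}

/-- a product of two elements of conjugates of `Y` that does not have order dividing `p` -/
def FP (p : ℕ) (Y : Subgroup G) (g : G) : Prop := g ^ p ≠ 1 ∧ ∃ a b u v, u ∈ cj a Y ∧ v ∈ cj b Y ∧ g = u * v

/-- properties of root subgroups of rank one groups -/
structure Good (p : ℕ) (Y : Subgroup G) : Prop where
  q1 : ∀ V, V ≤ N(Y) → N(Y) ≤ N(V) → Abelem p V → V ≠ ⊥ → V = Y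
  q2 : ∀ x, x ^ p = 1 → x ∈ N(Y) → x ∈ Y
  q3 : ∀ h, ¬ PiElt {p} h → (∃ k ∈ ⟪h⟫, FP p Y k) ∨ (h ∈ center G ∧ ∃ y ∈ Y, FP p Y (h * y))

theorem Good.of_map (e : G ≃* K) (h : Good p (Y.map e.toMonoidHom)) : Good p Y := by
  have inj : Function.Injective e.toMonoidHom := e.injective
  have nr : N(Y.map e.toMonoidHom) = N(Y).map e.toMonoidHom := (map_equiv_normalizer_eq Y e).symm
  have fp : ∀ {g : G}, FP p (Y.map e.toMonoidHom) (e g) → FP p Y g := fun {g} ⟨h1, a, b, u, v, hu, hv, h2⟩ => by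
    obtain ⟨a, rfl⟩ := e.surjective a
    obtain ⟨b, rfl⟩ := e.surjective b
    obtain ⟨u, hu', rfl⟩ := (map_cj e.toMonoidHom a Y).ge hu
    obtain ⟨v, hv', rfl⟩ := (map_cj e.toMonoidHom b Y).ge hv
    exact ⟨fun z => h1 (by rw [← map_pow, z, map_one]), a, b, u, v, hu', hv', e.injective (h2.trans (map_mul e u v).symm)⟩
  refine ⟨fun V h1 h2 h3 h4 => map_injective inj (h.q1 _ (nr ▸ map_mono h1) (nr ▸ map_norms _ h2) (h3.map _)
    (mt (Subgroup.map_eq_bot_iff_of_injective _ inj).1 h4)), fun x h1 h2 => (mem_map_iff_mem inj).1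
      (h.q2 _ (by rw [← map_pow, h1, map_one]) (nr ▸ mem_map_of_mem _ h2)), fun g hg => ?_⟩
  rcases h.q3 (e g) (by rwa [PiElt, e.orderOf_eq]) with ⟨_, ⟨k, rfl⟩, h1⟩ | ⟨h1, _, ⟨y, hy, rfl⟩, h2⟩
  · exact .inl ⟨g ^ k, zpow_mem_zpowers g k, fp (by rwa [map_zpow])⟩
  · exact .inr ⟨mem_center_iff.2 fun x => e.injective (by rw [map_mul, map_mul, mem_center_iff.1 h1]), y, hy,
      fp (by rwa [map_mul])⟩

theorem odd_part (hh : ¬ PiElt {2} h) : ∃ k ∈ ⟪h⟫, k ≠ 1 ∧ Odd (orderOf k) :=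
  ⟨constt {2}ᶜ h, constt_mem _ (mem_zpowers h), fun e => hh (constt_compl_eq_one_iff.1 e),
    Nat.Coprime.odd_of_right ((p'elt_iff_coprime Nat.prime_two).1 (piElt_constt _ _))⟩

theorem sq_ne_one (h1 : x ≠ 1) (ho : Odd (orderOf x)) : x ^ 2 ≠ 1 := fun e =>
  h1 (orderOf_eq_one_iff.1 (Nat.Coprime.eq_one_of_dvd ho.coprime_two_right (orderOf_dvd_of_pow_eq_one e)))

theorem good_two (hc : #Y = 2) (hg : Y ⊔ cj g Y = ⊤) (hz : ∀ z ∈ center G, z ^ 2 = 1 → z = 1) : Good 2 Y := by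
  obtain ⟨y, hy, y1⟩ := exists_ne_one (ne_bot_of_prime_card (hc ▸ Nat.prime_two))
  have eY := eq_zpowers_of_prime (hc ▸ Nat.prime_two) hy y1
  have y2 : y * y = 1 := by rw [← pow_two, ← hc, pow_card hy]
  have yi := inv_eq_of_mul_eq_one_right y2
  have mY : ∀ s ∈ Y, s = 1 ∨ s = y := fun s hs => or_iff_not_imp_left.2 fun e => by
    have := mul_mem_two (A := ⊥) (T := Y) (by rw [relIndex_bot_left, hc]) hy hs (mt mem_bot.1 y1) (mt mem_bot.1 e)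
    rw [← yi, eq_inv_of_mul_eq_one_right (mem_bot.1 this)]
  set r := y * (g * y * g⁻¹) with hr
  have e1 : y * r * y⁻¹ = r⁻¹ := by rw [hr, ← mul_assoc, y2, mul_inv_rev, conj_inv, yi, one_mul]
  have n1 : Y ≤ N(⟪r⟫) := eY ▸ zpowers_le.2 (by rw [← cj_eq_self, cj_zpowers, e1, zpowers_inv])
  have e2 : ⟪r⟫ ⊔ Y = ⊤ := top_le_iff.1 (hg.ge.trans (sup_le le_sup_right (by
    rw [eY, cj_zpowers, ← eY, zpowers_le, show g * y * g⁻¹ = y⁻¹ * r by rw [hr, inv_mul_cancel_left]]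
    exact mul_mem (mem_sup_right (inv_mem hy)) (mem_sup_left (mem_zpowers r)))))
  have inv : ∀ s ∈ ⟪r⟫, y * s * y⁻¹ = s⁻¹ := by
    rintro _ ⟨k, rfl⟩
    simp only [← conj_zpow, e1, _root_.inv_zpow]
  have inv' : ∀ s ∈ ⟪r⟫, y * s * y = s⁻¹ := fun s hs => by rw [← inv s hs, yi]
  have form : ∀ x : G, ∃ s ∈ ⟪r⟫, x = s ∨ x = s * y := fun x => by
    obtain ⟨s, hs, t, ht, rfl⟩ := (mem_sup_norm n1).1 (e2.ge (mem_top x))
    rcases mY t ht with rfl | rfl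
    exacts [⟨s, hs, .inl (mul_one s)⟩, ⟨s, hs, .inr rfl⟩]
  have hN : N(Y) ≤ Y := fun x hx => by
    have key : ∀ s ∈ ⟪r⟫, s ∈ N(Y) → s = 1 := fun s hs hn => by
      have c1 := cents_two hc le_rfl hn
      refine hz s (mem_center_iff.2 fun k => mem_cen.1 ?_ k (e2.ge (mem_top k))) ?_
      · rw [cen_sup]
        exact ⟨(ab_zpowers r).le_cen hs, c1⟩
      · rw [pow_two, mul_eq_one_iff_eq_inv, ← inv s hs, mem_cen.1 c1 y hy, mul_inv_cancel_right]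
    obtain ⟨s, hs, rfl | rfl⟩ := form x
    · rw [key x hs hx]; exact one_mem _
    · rw [key s hs ((mul_mem_cancel_right (le_nrm Y hy)).1 hx), one_mul]; exact hy
  refine ⟨fun V h1 _ _ h2 => eq_of_le_prime (hc ▸ Nat.prime_two) (h1.trans hN) h2, fun x _ hx => hN hx, fun h hh => .inl ?_⟩
  obtain ⟨k, hk, k1, ho⟩ := odd_part hh
  refine ⟨k, hk, sq_ne_one k1 ho, ?_⟩
  obtain ⟨s, hs, rfl | rfl⟩ := form k
  · obtain ⟨n, hn⟩ := ho
    refine ⟨k ^ (n + 1), 1, _, y, conj_mem_cj.2 hy, (cj_one Y).ge hy, ?_⟩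
    rw [mul_assoc, mul_assoc, ← mul_assoc y, inv' _ (inv_mem (pow_mem hs _)), inv_inv, ← pow_add,
      show n + 1 + (n + 1) = orderOf k + 1 by omega, pow_succ, pow_orderOf_eq_one, one_mul]
  · refine absurd ?_ (sq_ne_one k1 ho)
    rw [pow_two, mul_assoc, ← mul_assoc y, inv' s hs, mul_inv_cancel]

theorem good_sz {F : Type*} [Field F] (S : H13.SzData G F) (hY : Abelem 2 Y) (hc : #Y = S.q) : Good 2 Y := by
  obtain ⟨k, hk⟩ := S.exists_conj_le_U (hY.pGrp Nat.prime_two).isPGroup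
  rw [← S.conj_q k] at hc
  generalize S.conj k = S at hk hc
  obtain rfl : Y = S.Z := eq_of_card_eq (fun y hy => S.mem_Z_of_sq_eq_one (hk hy) ((pow_two y).symm.trans (hY.pow hy)))
    (hc.trans S.card_Z.symm)
  have q2 : ∀ x, x ^ 2 = 1 → x ∈ N(S.Z) → x ∈ S.Z := fun x x2 hx => by
    refine S.mem_Z_of_sq_eq_one (S.UAt_inf ▸ S.mem_UAt_of_fix (n := 1) x2 ?_) ((pow_two x).symm.trans x2)
    have h1 := S.Z_le_U (conj_mem' hx (S.u_mem_Z 1))
    rw [← S.UAt_inf, ← S.conj_mem_UAt_iff x, ← mul_assoc, ← mul_assoc, mul_inv_cancel, one_mul, mul_inv_cancel_right] at h1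
    exact (S.eq_of_mem_UAt h1 S.u_one_ne_one (S.u_smul_inf 0 1)).symm
  have two : ∀ t : G, t * t = 1 → ∃ k, t ∈ cj k S.Z := fun t ht =>
    let ⟨k, hk⟩ := S.exists_conj_mem_Z ht
    ⟨k, mem_cj.2 (S.mem_conj_Z.1 hk)⟩
  refine ⟨fun V h1 h2 h3 h4 => ?_, q2, fun h hh => .inl ?_⟩
  · have h5 : V ≤ S.Z := fun x hx => q2 x (h3.pow hx) (h1 hx)
    refine h5.antisymm ?_
    obtain ⟨v, hv, v1⟩ := exists_ne_one h4
    obtain ⟨b, rfl⟩ := h5 hv
    have hb : b ≠ 0 := fun e => v1 (S.u_eq_one_iff.2 ⟨rfl, e⟩)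
    rintro _ ⟨d, rfl⟩
    by_cases hd : d = 0
    · rw [S.u_eq_one_iff.2 ⟨rfl, hd⟩]; exact one_mem _
    obtain ⟨l, hl⟩ := S.mul_θ_surjective (d / b)
    simp only at hl
    have l0 : l ≠ 0 := by
      rintro rfl
      rw [zero_mul] at hl
      exact div_ne_zero hd hb hl.symm
    have := conj_mem (h2 (mem_nrm.2 fun z hz => S.conj_mem_Z (S.h_smul_inf (Units.mk0 l l0)) hz)) hv
    rwa [S.h_conj_u, Units.val_mk0, hl, mul_zero, div_mul_cancel₀ _ hb] at this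
  obtain ⟨k, hk, k1, ho⟩ := odd_part hh
  have hT := S.isTorus_centralizer k1 ho (pow_orderOf_eq_one k)
  obtain ⟨t, ht, ot⟩ := exists_elt_of_prime_dvd (H := N(C[k])) Nat.prime_two (by
    rcases hT.card with ⟨-, e⟩ | ⟨-, e⟩ <;> rw [e] <;> omega)
  have t2 : t * t = 1 := by rw [← pow_two, ← ot, pow_orderOf_eq_one]
  have ti := inv_eq_of_mul_eq_one_right t2
  have h1 := conj_mem ht (self_mem_cen1 k)
  have h2 : k * (t * k * t⁻¹) = 1 := by
    by_contra e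
    have h3 : t ∈ C[k] := (hT.isCC.cent _ (mul_mem (self_mem_cen1 k) h1) e).le (mem_cen1.2 (by
      calc t * (k * (t * k * t⁻¹)) = t * k * t⁻¹ * (t * t) * k * t⁻¹ := by group
        _ = _ := by rw [t2, mul_one, mem_cen1.1 h1, ti]))
    have := orderOf_dvd_card' h3
    rw [ot] at this
    exact (Nat.not_even_iff_odd.2 hT.order.odd) (even_iff_two_dvd.2 this)
  obtain ⟨a, ha⟩ := two t t2
  obtain ⟨b, hb⟩ := two (k * t) (by rw [← h2, ti]; group)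
  exact ⟨k, hk, sq_ne_one k1 ho, b, a, _, _, hb, ha, by rw [mul_assoc, t2, mul_one]⟩

section SL
open H19.St
variable {F : Type*} [Field F] [Finite F] [hp : Fact p.Prime] [CharP F p]

theorem pow_char {u : SL(2, F)} (ht : u.1 0 0 + u.1 1 1 = 2) : u ^ p = 1 := by
  have hd := sl_det u
  have key : ∀ n : ℕ, (u ^ n).1 = 1 + (n : F) • (u.1 - 1) := fun n => by
    induction n with
    | zero => simp
    | succ n ih =>
      ext i j
      rw [pow_succ, H19.St.mul_apply, ih]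
      fin_cases i <;> fin_cases j <;> simp <;> grind
  ext i j
  rw [key, CharP.cast_eq_zero, zero_smul, add_zero]
  rfl

theorem sl_factor {h : SL(2, F)} (hh : h ∉ center SL(2, F)) : ∃ u : SL(2, F), u ^ p = 1 ∧ (u * h) ^ p = 1 := by
  have hd := sl_det h
  by_cases hc : h.1 1 0 = 0
  swap
  · refine ⟨xx ((2 - h.1 0 0 - h.1 1 1) / h.1 1 0), pow_char (by simp; norm_num), pow_char ?_⟩
    simp [H19.St.mul_apply]
    field_simp
    ring
  by_cases hb : h.1 0 1 = 0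
  swap
  · refine ⟨yy ((2 - h.1 0 0 - h.1 1 1) / h.1 0 1), pow_char (by simp [yy]; norm_num), pow_char ?_⟩
    rw [H19.St.mul_apply, H19.St.mul_apply]
    simp [yy]
    field_simp
    ring
  have ha : h.1 0 0 - h.1 1 1 ≠ 0 := fun e => hh (H19.St.mem_center_iff.2 (by
    have e1 : (h.1 0 0 - 1) * (h.1 0 0 + 1) = 0 := by grind
    rcases mul_eq_zero.1 e1 with e2 | e2
    · exact .inl (sl_ext (by simp; grind) (by simpa using hb) (by simpa using hc) (by simp; grind))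
    · exact .inr (sl_ext (by simp; grind) (by simpa using hb) (by simpa using hc) (by simp; grind))))
  obtain ⟨t, ht⟩ : ∃ t : F, t * (h.1 0 0 - h.1 1 1) = 2 - h.1 0 0 - h.1 1 1 := ⟨_, div_mul_cancel₀ _ ha⟩
  obtain ⟨n, hn⟩ : ∃ n : SL(2, F), n.1 = !![1 + t, -t; t, 1 - t] := ⟨⟨_, by simp [Matrix.det_fin_two]; ring⟩, rfl⟩
  refine ⟨n, pow_char (by simp [hn]; norm_num), pow_char ?_⟩
  rw [H19.St.mul_apply, H19.St.mul_apply]
  simp [hn, hb, hc]
  grind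

theorem good_sl {Y : Subgroup SL(2, F)} (hY : Abelem p Y) (hc : #Y = Nat.card F) : Good p Y := by
  have hS : Syl p Y ⊤ := syl_upper.of_card_eq le_top (hc.trans card_upper.symm)
  have sub : ∀ {V : Subgroup SL(2, F)}, PGrp p V → V ≤ N(Y) → V ≤ Y := fun h1 h2 =>
    le_sup_right.trans (hS.max (hS.pi.sup h1 h2) le_sup_left le_top).le
  have fp : ∀ {h : SL(2, F)}, h ∉ center SL(2, F) → h ^ p ≠ 1 → FP p Y h := fun {h} h1 h2 => by
    obtain ⟨u, u1, u2⟩ := sl_factor (p := p) h1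
    obtain ⟨a, -, ha⟩ := hS.syl_subJ (pElt_of_pow_eq_one hp.out u1).zpowers le_top
    obtain ⟨b, -, hb⟩ := hS.syl_subJ (pElt_of_pow_eq_one hp.out u2).zpowers le_top
    exact ⟨h2, a, b, _, _, inv_mem (zpowers_le.1 ha), zpowers_le.1 hb, (inv_mul_cancel_left u h).symm⟩
  refine ⟨fun V h1 h2 h3 h4 => ?_, fun x x1 hx => zpowers_le.1 (sub (pElt_of_pow_eq_one hp.out x1).zpowers (zpowers_le.2 hx)),
    fun h hh => ?_⟩
  · have h5 := sub (h3.pGrp hp.out) h1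
    refine h5.antisymm ?_
    obtain ⟨g, -, rfl⟩ := syl_upper.syl_trans hS
    rw [← cj_cj_inv g V] at h2 h4 h5 ⊢
    rw [← cj_nrm, cj_norms] at h2
    rw [cj_le_cj] at h5 ⊢
    rw [Ne, cj_eq_bot] at h4
    generalize cj g⁻¹ V = V at h2 h4 h5
    obtain ⟨v, hv, v1⟩ := exists_ne_one h4
    obtain ⟨t, rfl⟩ := mem_upper.1 (h5 hv)
    have t0 : t ≠ 0 := fun e => v1 (e ▸ rel_SL.x_zero)
    have sq : ∀ s : F, xx (s ^ 2 * t) ∈ V := fun s => by
      by_cases s0 : s = 0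
      · rw [s0, zero_pow two_ne_zero, zero_mul, rel_SL.x_zero]; exact one_mem _
      have k : ∀ r : F, hh xx yy s * xx r * (hh xx yy s)⁻¹ = xx (s ^ 2 * r) := fun r => by
        rw [rel_SL.h_x s0, mul_inv_cancel_right]
      rw [← k]
      refine conj_mem (h2 (mem_nrm.2 fun x hx => ?_)) hv
      obtain ⟨r, rfl⟩ := mem_upper.1 hx
      exact mem_upper.2 ⟨_, k r⟩
    intro x hx
    obtain ⟨r, rfl⟩ := mem_upper.1 hx
    by_cases h2 : (2 : F) = 0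
    · have := Fintype.ofFinite F
      obtain ⟨s, hs⟩ := FiniteField.isSquare_of_char_two (F := F) (by
        rw [ringChar.eq F p]
        exact (Nat.prime_dvd_prime_iff_eq hp.out Nat.prime_two).1 ((CharP.cast_eq_zero_iff F p 2).1 h2)) (r / t)
      rw [show r = s ^ 2 * t by rw [pow_two, ← hs, div_mul_cancel₀ _ t0]]
      exact sq s
    · rw [show r = ((r / t + 1) / 2) ^ 2 * t + -(((r / t - 1) / 2) ^ 2 * t) by field_simp; ring, rel_SL.x_add,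
        rel_SL.x_neg]
      exact mul_mem (sq _) (inv_mem (sq _))
  have h1 : h ^ p ≠ 1 := fun e => hh (pElt_of_pow_eq_one hp.out e)
  by_cases hz : h ∈ center SL(2, F)
  swap
  · exact .inl ⟨h, mem_zpowers h, fp hz h1⟩
  obtain ⟨y, hy, y1⟩ := exists_ne_one (ne_bot_of_one_lt_card (hc ▸ Finite.one_lt_card) : Y ≠ ⊥)
  refine .inr ⟨hz, y, hy, fp (fun e => y1 ((hS.pi.piElt hy).eq_one_of_mem p'_center_SL ((mul_mem_cancel_left hz).1 e))) ?_⟩
  rwa [Commute.mul_pow (Subgroup.mem_center_iff.1 hz y).symm, hY.pow hy, mul_one]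

end SL

/-- the hypotheses of the `L`-lemma -/
structure LL (p : ℕ) (Y A : Subgroup G) : Prop where
  hp : p.Prime
  ea : Abelem p Y
  core : A = O[{p}]((⊤ : Subgroup G))
  gen : ∀ X, ⊤ ≤ N(X) → Y ⊓ A ≤ X → A ≤ X
  nrm : A ≤ N(Y)
  ncl : ∀ X, ⊤ ≤ N(X) → Y ≤ X → X = ⊤
  ne : N(Y) ≠ ⊤
  max : ∀ X, Y ≤ X → X ≠ ⊤ → X ≤ N(Y)

namespace LL
variable (hL : LL p Y A)
include hL

theorem nA : ⊤ ≤ N(A) := hL.core ▸ pcore_nrm _ _
theorem pA : PGrp p A := hL.core ▸ pcore_pi _ _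
theorem le_A (hX : PGrp p X) (hn : ⊤ ≤ N(X)) : X ≤ A := hL.core ▸ pcore_max hX ⟨le_top, hn⟩
theorem cjA (g : G) : cj g A = A := cj_of_mem_nrm (hL.nA (mem_top g))

theorem cj (g : G) : LL p (cj g Y) A where
  hp := hL.hp
  ea := hL.ea.cj g
  core := hL.core
  gen X h1 h2 := hL.gen X h1 (by rwa [← hL.cjA g, ← cj_inf, ← cj_of_mem_nrm (h1 (mem_top g)), cj_le_cj] at h2)
  nrm := by rw [← hL.cjA g, cj_norms]; exact hL.nrm
  ncl X h1 h2 := hL.ncl X h1 (by rwa [← cj_of_mem_nrm (h1 (mem_top g)), cj_le_cj] at h2)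
  ne := by rw [← cj_nrm, Ne, cj_eq_top]; exact hL.ne
  max X h1 h2 := by
    rw [← cj_nrm, le_cj_iff]
    exact hL.max _ (by rwa [cj_le_iff] at h1) (by rwa [Ne, cj_eq_top])

theorem not_le (hg : g ∉ N(Y)) : ¬ FT.cj g Y ≤ N(Y) := fun e => by
  have h1 := (hL.cj g).max _ e hL.ne
  rw [← cj_nrm] at h1
  have h2 : g ∈ N(N(Y)) := cj_eq_self.1 (eq_of_card_eq h1 (card_cj _ _).symm).symm
  have h3 : N(N(Y)) = ⊤ := by_contra fun e => hg (hL.max _ ((le_nrm _).trans (le_nrm _)) e h2)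
  exact hL.ne (hL.ncl _ h3.ge (le_nrm _))

theorem sup_top (hX : ¬ X ≤ N(Y)) : Y ⊔ X = ⊤ := by_contra fun e => hX (le_sup_right.trans (hL.max _ le_sup_left e))

theorem sup_cj (hg : g ∉ N(Y)) : Y ⊔ FT.cj g Y = ⊤ := hL.sup_top (hL.not_le hg)

theorem exists_g : ∃ g, g ∉ N(Y) := by
  by_contra hn
  push Not at hn
  exact hL.ne (eq_top_iff.2 fun g _ => hn g)

theorem not_le_A : ¬ Y ≤ A := fun e => hL.ne (top_le_iff.1 ((hL.ncl A hL.nA e).ge.trans hL.nrm))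

theorem nrm_le (hK : N(Y ⊔ A) ≤ X) : N(Y) ≤ X := (normsY le_rfl (le_top.trans hL.nA)).trans hK

theorem nrm_sup : N(Y ⊔ A) ≤ N(Y) := hL.max _ (le_sup_left.trans (le_nrm _)) fun e =>
  hL.not_le_A (le_sup_left.trans (hL.le_A ((hL.ea.pGrp hL.hp).sup hL.pA hL.nrm) e.ge))

theorem C_le (g : G) : Y ⊓ C(⊤) ≤ FT.cj g Y := by
  rw [← cj_of_mem_cen (centsC inf_le_right (mem_top g) : g ∈ C(Y ⊓ C(⊤)))]
  exact cj_mono g inf_le_left

theorem C_eq (g : G) : FT.cj g Y ⊓ C(⊤) = Y ⊓ C(⊤) := by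
  refine le_antisymm (le_inf ?_ inf_le_right) (le_inf (hL.C_le g) inf_le_right)
  simpa only [cj_inv_cj] using (hL.cj g).C_le g⁻¹

theorem inf_le (hg : g ∉ N(Y)) : Y ⊓ FT.cj g Y ≤ Y ⊓ C(⊤) := le_inf inf_le_left (hL.sup_cj hg ▸
  centsY (hL.ea.ab.cents le_rfl inf_le_left) ((hL.ea.cj g).ab.cents le_rfl inf_le_right))

theorem nB : A ≤ N(Y ⊓ A) := normsI hL.nrm (le_nrm A)

theorem comm_B : ⁅A, Y⁆ ≤ Y ⊓ A := (comm_le_inf (le_top.trans hL.nA) hL.nrm).trans (inf_comm A Y).le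

theorem A_le (hg : g ∉ N(Y)) : A ≤ Y ⊓ A ⊔ FT.cj g Y ⊓ A := by
  have l : Y ⊓ A ⊔ FT.cj g Y ⊓ A ≤ A := sup_le inf_le_right inf_le_right
  exact hL.gen _ (hL.sup_cj hg ▸ sup_le (norms_of_comm_le_of_le (hL.comm_B.trans le_sup_left) l)
    (norms_of_comm_le_of_le ((hL.cj g).comm_B.trans le_sup_right) l)) le_sup_left

theorem der_A : ⁅A, A⁆ ≤ Y ⊓ C(⊤) := by
  obtain ⟨g, hg⟩ := hL.exists_g
  have n : ∀ X : Subgroup G, X ≤ N(Y ⊓ C(⊤)) := fun X => cents_norm (centsC (inf_le_right.trans (cen_anti le_top)))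
  have h1 : ⁅Y ⊓ A, FT.cj g Y ⊓ A⁆ ≤ Y ⊓ C(⊤) := ((comm_le_inf (inf_le_right.trans hL.nB)
    (inf_le_right.trans (hL.cj g).nB)).trans (inf_le_inf inf_le_left inf_le_left)).trans (hL.inf_le hg)
  refine (commSS (hL.A_le hg) (hL.A_le hg)).trans (comm_sup_le (n _) (comm_sup_le' (n _) ?_ h1)
    (comm_sup_le' (n _) ((commC _ _).le.trans h1) ?_))
  · exact (comm_eq_bot.2 (hL.ea.ab.cents inf_le_left inf_le_left)).le.trans bot_le
  · exact (comm_eq_bot.2 ((hL.ea.cj g).ab.cents inf_le_left inf_le_left)).le.trans bot_le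

variable {φ : G →* K} (hφ : Function.Surjective φ) (hk : φ.ker = A)
include hφ hk

theorem comap_Y : (Y.map φ).comap φ = Y ⊔ A := by rw [comap_map_eq, hk]

theorem nrm_map : x ∈ N(Y) ↔ φ x ∈ N(Y.map φ) := by
  refine ⟨fun hx => map_norms φ le_rfl (mem_map_of_mem φ hx), fun hx => hL.nrm_sup (mem_nrm.2 fun y hy => ?_)⟩
  rw [← hL.comap_Y hφ hk, mem_comap] at hy ⊢
  simpa only [map_mul, map_inv] using conj_mem hx hy

theorem cen_one {z : K} (hz : z ∈ center K) (h1 : z ^ p = 1) : z = 1 := by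
  have h2 := hL.le_A (X := ⟪z⟫.comap φ) ((pGrp_iff hL.hp).2 (IsPGroup.comap_of_ker_isPGroup
    (pElt_of_pow_eq_one hL.hp h1).zpowers.isPGroup φ (hk ▸ hL.pA.isPGroup))) fun g _ => mem_nrm.2 fun x hx => by
      rw [mem_comap, map_mul, map_mul, map_inv, mem_center_iff.1 (zpowers_le.2 hz hx), mul_inv_cancel_right]
      exact hx
  obtain ⟨x, rfl⟩ := hφ z
  exact (hk.ge (h2 (mem_zpowers (φ x))) :)

theorem card_map : #(Y.map φ) = (Y ⊓ A).relIndex Y := by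
  rw [card_map_eq, hk, inf_relIndex_left]

theorem good_of_two (h2 : p = 2) (hc : #(Y.map φ) = 2) : Good p (Y.map φ) := by
  subst h2
  obtain ⟨g, hg⟩ := hL.exists_g
  exact good_two (g := φ g) hc (by rw [← map_cj, ← Subgroup.map_sup, hL.sup_cj hg, map_top_of_surjective φ hφ])
    fun z => hL.cen_one hφ hk

variable (hG : Good p (Y.map φ))
include hG

theorem spread (g : G) (hy : y ∈ FT.cj g Y) (hn : y ∉ A) (ha : a ∈ A) (hc : ⁅y, a⁆ ∈ Y ⊓ C(⊤)) : a ∈ FT.cj g Y := by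
  obtain ⟨k, hk'⟩ := hL.exists_g
  obtain ⟨l, rfl⟩ : ∃ l, g = l * k := ⟨g * k⁻¹, by group⟩
  have hM := hL.cj l
  have h0 : l * k * l⁻¹ ∉ N(FT.cj l Y) := by rwa [← cj_nrm, conj_mem_cj]
  have e0 : FT.cj (l * k * l⁻¹) (FT.cj l Y) = FT.cj (l * k) Y := by rw [cj_cj, inv_mul_cancel_right]
  have y1 := (hL.ea.cj _).pow hy
  have h1 : y ∉ N(FT.cj l Y) := fun e => by
    rw [← cj_nrm, mem_cj, hL.nrm_map hφ hk] at e
    have e1 := hG.q2 _ (by rw [← map_pow, ← inv_inv l, inv_inv l⁻¹, conj_pow, y1]; simp) e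
    rw [← mem_comap, hL.comap_Y hφ hk, ← mem_cj, cj_sup, hL.cjA] at e1
    obtain ⟨x, hx, b, hb, e2⟩ := (mem_sup_norm hM.nrm).1 e1
    refine hn (hL.le_A (hL.pA.sup (pElt_of_pow_eq_one hL.hp y1).zpowers (le_top.trans hL.nA)) ?_
      (mem_sup_right (mem_zpowers y)))
    rw [← hM.sup_cj h0, e0]
    refine sup_le (fun s hs => mem_nrm_of_cj_le ?_) (normsY (le_top.trans hL.nA)
      (norms_zpowers_of_cen1 ((hL.ea.cj _).ab.le_cen1 hy)))
    rw [cj_sup, hL.cjA, cj_zpowers]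
    refine sup_le_sup_left (zpowers_le.2 ?_) _ |>.trans (sup_le le_sup_left le_rfl)
    rw [show s * y * s⁻¹ = y * (b⁻¹ * (s * b * s⁻¹)) by
      rw [e2, ← mul_assoc s, hM.ea.ab.comm hs hx]; group]
    exact mul_mem (mem_sup_right (mem_zpowers y))
      (mem_sup_left (mul_mem (inv_mem hb) (conj_mem (hL.nA (mem_top s)) hb)))
  obtain ⟨b, hb, c, hc', rfl⟩ := (mem_sup_norm' (inf_le_right.trans (hM.cj _).nB)).1 (hM.A_le h0 ha)
  rw [e0] at hc'
  refine mul_mem ?_ hc'.1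
  have h2 : ⁅y, b⁆ ∈ Y ⊓ C(⊤) := by
    rwa [show ⁅y, b * c⁆ = ⁅y, b⁆ * (b * (y * c) * y⁻¹ * c⁻¹ * b⁻¹) by simp only [commutatorElement_def]; group,
      (hL.ea.cj _).ab.comm hy hc'.1, mul_assoc b, mul_inv_cancel_right, mul_inv_cancel_right, mul_inv_cancel, mul_one] at hc
  have n : ∀ X : Subgroup G, X ≤ N(Y ⊓ C(⊤)) := fun X => cents_norm (centsC (inf_le_right.trans (cen_anti le_top)))
  have h3 : ⊤ ≤ N(Y ⊓ C(⊤) ⊔ ⟪b⟫) := by
    refine (hM.sup_top (mt zpowers_le.1 h1)).ge.trans <| sup_le (normsY (n _) (norms_zpowers_of_cen1 (hM.ea.ab.le_cen1 hb.1))) (zpowers_le.2 (mem_nrm_of_cj_le ?_))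
    rw [cj_sup, cj_of_mem_nrm (n ⊤ (mem_top y)), cj_zpowers, show y * b * y⁻¹ = ⁅y, b⁆ * b by
      simp only [commutatorElement_def]; group]
    exact sup_le le_sup_left (zpowers_le.2 (mul_mem (mem_sup_left h2) (mem_sup_right (mem_zpowers b))))
  rw [← e0]
  exact cj_mono _ (sup_le (hL.C_le l) (zpowers_le.2 hb.1))
    ((cj_of_mem_nrm (h3 (mem_top _))).ge (mem_sup_right (mem_zpowers b)))

theorem fixed (hh : FP p (Y.map φ) (φ h)) (ha : a ∈ A) (hc : ⁅h, a⁆ ∈ Y ⊓ C(⊤)) : a ∈ Y ⊓ C(⊤) := by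
  obtain ⟨h1, k, l, u, v, hu, hv, e⟩ := hh
  obtain ⟨k, rfl⟩ := hφ k
  obtain ⟨l, rfl⟩ := hφ l
  rw [← map_cj] at hu hv
  obtain ⟨u, hu, rfl⟩ := hu
  obtain ⟨v, hv, rfl⟩ := hv
  have n : ∀ g : G, g ∈ N(Y ⊓ C(⊤)) := fun g => cents_norm (centsC inf_le_right) (mem_top g)
  have h2 : (u * v)⁻¹ * h ∈ A := hk.le (by rw [MonoidHom.mem_ker, map_mul, map_inv, map_mul, e, inv_mul_cancel])
  have h3 : ⁅u * v, a⁆ ∈ Y ⊓ C(⊤) := by
    rw [show ⁅u * v, a⁆ = (u * v * ⁅(u * v)⁻¹ * h, a⁆ * (u * v)⁻¹)⁻¹ * ⁅h, a⁆ by simp only [commutatorElement_def]; group]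
    exact mul_mem (inv_mem (conj_mem (n _) (hL.der_A (comm_mem h2 ha)))) hc
  have pu := (hL.ea.cj k).pow hu
  have pv := (hL.ea.cj l).pow hv
  have hkl : l * k⁻¹ ∉ N(FT.cj k Y) := fun e2 => by
    rw [← cj_eq_self, cj_cj, inv_mul_cancel_right] at e2
    exact h1 (by rw [e, ← map_mul, ← map_pow, (hL.ea.cj k).pow (mul_mem hu (e2.le hv)), map_one])
  have hI : FT.cj k Y ⊓ FT.cj l Y ≤ Y ⊓ C(⊤) := by
    have := (hL.cj k).inf_le hkl
    rwa [cj_cj, inv_mul_cancel_right, hL.C_eq] at this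
  have cu : ⁅u, a⁆ ∈ FT.cj k Y := ((commC _ _).le.trans (hL.cj k).comm_B (comm_mem hu ha)).1
  have cv : ⁅v, a⁆ ∈ FT.cj l Y := ((commC _ _).le.trans (hL.cj l).comm_B (comm_mem hv ha)).1
  have e1 : ⁅u * v, a⁆ = u * ⁅v, a⁆ * u⁻¹ * ⁅u, a⁆ := by simp only [commutatorElement_def]; group
  have h4 : ⁅v, a⁆ ∈ Y ⊓ C(⊤) := hI ⟨by
    have := hL.C_le k h3
    rwa [e1, mul_mem_cancel_right cu, mul_mem_cancel_right (inv_mem hu), mul_mem_cancel_left hu] at this, cv⟩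
  have h5 : ⁅u, a⁆ ∈ Y ⊓ C(⊤) := by rwa [e1, mul_mem_cancel_left (conj_mem (n u) h4)] at h3
  refine hI ⟨hL.spread hφ hk hG k hu (fun e2 => h1 ?_) ha h5, hL.spread hφ hk hG l hv (fun e2 => h1 ?_) ha h4⟩
  · rw [e, (hk.ge e2 : φ u = 1), one_mul, ← map_pow, pv, map_one]
  · rw [e, (hk.ge e2 : φ v = 1), mul_one, ← map_pow, pu, map_one]

theorem main (hh : ¬ PiElt {p} h) (ha : a ∈ A) (hc : ⁅h, a⁆ ∈ Y ⊓ C(⊤)) : a ∈ Y ⊓ C(⊤) := by
  have n : ∀ g : G, g ∈ N(Y ⊓ C(⊤)) := fun g => cents_norm (centsC inf_le_right) (mem_top g)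
  have h1 : ¬ PiElt {p} (φ h) := fun e => by
    obtain ⟨k, e⟩ := e.exists_pow
    obtain ⟨l, e2⟩ := (hL.pA.piElt (hk.le (show h ^ p ^ k ∈ φ.ker by rw [MonoidHom.mem_ker, map_pow, e]))).exists_pow
    exact hh ((pElt_iff hL.hp).2 ⟨k + l, by rw [pow_add, pow_mul, e2]⟩)
  rcases hG.q3 _ h1 with ⟨_, ⟨k, rfl⟩, h2⟩ | ⟨hz, _, ⟨y, hy, rfl⟩, h2⟩
  · exact hL.fixed hφ hk hG (h := h ^ k) (by rwa [map_zpow]) ha
      (comm_zp_zp_le (n _) (n _) hc (comm_mem (zpow_mem_zpowers h k) (mem_zpowers a)))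
  let W : Subgroup G :=
    { carrier := {a | a ∈ A ∧ ⁅h, a⁆ ∈ Y ⊓ C(⊤)}
      one_mem' := ⟨one_mem _, by rw [commutatorElement_one_right]; exact one_mem _⟩
      mul_mem' := fun {g k} hg hk => ⟨mul_mem hg.1 hk.1, by
        rw [show ⁅h, g * k⁆ = ⁅h, g⁆ * (g * ⁅h, k⁆ * g⁻¹) by simp only [commutatorElement_def]; group]
        exact mul_mem hg.2 (conj_mem (n _) hk.2)⟩
      inv_mem' := fun {g} hg => ⟨inv_mem hg.1, by
        rw [show ⁅h, g⁻¹⁆ = g⁻¹ * ⁅h, g⁆⁻¹ * g by simp only [commutatorElement_def]; group]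
        exact conj_mem' (n _) (inv_mem hg.2)⟩ }
  have nW : ⊤ ≤ N(W) := fun l _ => mem_nrm.2 fun b hb => ⟨conj_mem (hL.nA (mem_top l)) hb.1, by
    have h3 : h⁻¹ * (l⁻¹ * h * l) ∈ A := hk.le (by
      simp only [MonoidHom.mem_ker, map_mul, map_inv]
      rw [mul_assoc (φ l)⁻¹, ← mem_center_iff.1 hz]; group)
    rw [show ⁅h, l * b * l⁻¹⁆ = l * (h * ⁅h⁻¹ * (l⁻¹ * h * l), b⁆ * h⁻¹ * ⁅h, b⁆) * l⁻¹ by
      simp only [commutatorElement_def]; group]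
    exact conj_mem (n _) (mul_mem (conj_mem (n _) (hL.der_A (comm_mem h3 hb.1))) hb.2)⟩
  by_contra hn
  obtain ⟨b, hb, b1, b2⟩ := ((hL.ea.pGrp hL.hp).sup hL.pA hL.nrm).nil.exists_comm_mem (H := W) (R := Y ⊓ C(⊤))
    ⟨fun _ hx => mem_sup_right hx.1, le_top.trans nW⟩ fun e => hn (e ⟨ha, hc⟩)
  refine b1 (hL.fixed hφ hk hG (h := h * y) (by rwa [map_mul]) hb.1 ?_)
  rw [show ⁅h * y, b⁆ = h * ⁅b, y⁆⁻¹ * h⁻¹ * ⁅h, b⁆ by simp only [commutatorElement_def]; group]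
  exact mul_mem (conj_mem (n _) (inv_mem (b2 y (mem_sup_left hy)).1)) hb.2

end LL

theorem frakL [hp : Fact p.Prime] {M L : Subgroup G} (hL : IsInFrakL p M L) :
    LL p ((largestPReducedOf p M).subgroupOf L) (pCore p L) ∧
      Good p (((largestPReducedOf p M).subgroupOf L).map (QuotientGroup.mk' (pCore p L))) := by
  obtain ⟨h1, h2, h3, h4, -, ⟨h5, h6⟩, h7⟩ := hL
  have ea := (H22.pred_Y (p := p) M).ea
  generalize largestPReducedOf p M = Y at *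
  have e1 : (Y ⊓ pCoreOf p L).subgroupOf L = Y.subgroupOf L ⊓ pCore p L := by rw [so_inf, pCoreOf, so_map]
  have hL : LL p (Y.subgroupOf L) (pCore p L) := by
    refine ⟨hp.out, Abelem.so ea h1, by rw [pcore_top, piCore_singleton hp.out], fun X a b => ?_, ?_, fun X a b => ?_, ?_,
      fun X a b => ?_⟩
    · have := nml_top_iff.1 ⟨le_top, a⟩
      rw [map_injective L.subtype_injective h2, e1]
      exact normalClosure_le_normal b
    · rw [← so_nrm h1, ← so_map (pCore p L)]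
      exact comap_mono h3
    · have := nml_top_iff.1 ⟨le_top, a⟩
      exact top_le_iff.1 (h4.1.ge.trans (normalClosure_le_normal b))
    · rw [← so_nrm h1, Ne, subgroupOf_eq_top]
      exact fun e => h5.ne (inf_eq_left.2 e)
    · rw [← so_nrm h1, ← so_map X]
      refine comap_mono ((h6 _ ((map_so h1).ge.trans (map_mono a)) (lt_of_le_of_ne (map_subtype_le X) fun e => b ?_)).trans
        inf_le_right)
      rw [← so_map X, e, subgroupOf_self]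
  refine ⟨hL, ?_⟩
  have s := QuotientGroup.mk'_surjective (pCore p L)
  have k := QuotientGroup.ker_mk' (pCore p L)
  have c := hL.card_map s k
  rw [← e1, relIndex_subgroupOf h1] at c
  have ab := hL.ea.map (QuotientGroup.mk' (pCore p L))
  rcases h7 with ⟨F, _, _, hF, ⟨e⟩⟩ | ⟨h2, F, _, _, m, hm, hF, ⟨e⟩⟩ | ⟨h2, r, hr, r2, ⟨e⟩⟩
  · obtain ⟨n, hn⟩ := ab.card hp.out
    obtain ⟨q, hq⟩ := CharP.exists F
    obtain ⟨l, q1, q2⟩ := FiniteField.card F q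
    obtain rfl : q = p := (Nat.prime_dvd_prime_iff_eq q1 hp.out).1 (q1.dvd_of_dvd_pow (n := n) (by
      rw [← hn, c, ← hF, q2]; exact dvd_pow_self q l.ne_zero))
    exact (good_sl (ab.map e.toMonoidHom) (by
      rw [card_map_of_injective e.injective, c, ← hF, Nat.card_eq_fintype_card])).of_map e
  · rcases Nat.eq_zero_or_pos m with rfl | m0
    · exact hL.good_of_two s k h2 (by rw [c, ← hF, hm]; rfl)
    subst h2
    exact good_sz ((H13.szDataB m0 (by rw [Nat.card_eq_fintype_card, hm])).ofEquiv e) ab (c.trans (hF.symm.trans hm))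
  refine hL.good_of_two s k h2 ?_
  subst h2
  obtain ⟨n, hn⟩ := ab.card hp.out
  have h8 := card_subgroup_dvd_card ((Y.subgroupOf L).map (QuotientGroup.mk' (pCore 2 L)))
  rw [Nat.card_congr e.toEquiv, DihedralGroup.nat_card, hn] at h8
  have h9 := (Nat.Coprime.pow_left n ((Nat.coprime_primes Nat.prime_two hr).2 r2.symm)).dvd_of_dvd_mul_right h8
  rw [← hn] at h9
  refine ((Nat.dvd_prime Nat.prime_two).1 h9).resolve_left fun e => hL.not_le_A ?_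
  rwa [← eq_bot_iff_card', Subgroup.map_eq_bot_iff, k] at e

end Cfsg.Agent.H5e
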