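import Cfsg.Agent.H5.Sims3
import Cfsg.Agent.H5.Brd
import Cfsg.Agent.FT.BG04a

/-! `2`-groups without noncyclic abelian subgroups of order eight. -/

set_option autoImplicit false
set_option linter.unusedSectionVars false

namespace Cfsg.Agent.H5g

open Cfsg Subgroup Cfsg.Agent.FT Cfsg.Agent.P22
open scoped commutatorElement

variable {G : Type*} [Group G] [Finite G] {A B C D E H K R T U V W X Y Z : Subgroup G} {t u x y : G}

/-- no noncyclic abelian subgroup of order eight -/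
def N8 (Y : Subgroup G) : Prop := ∀ A, A ≤ Y → Ab A → #A = 8 → Cyc A

theorem N8.mono (h : N8 Y) (hX : X ≤ Y) : N8 X := fun A hA => h A (hA.trans hX)

/-- four-groups -/
def V4 (E : Subgroup G) : Prop := Abelem 2 E ∧ #E = 4

theorem V4.not_cyc (h : V4 E) : ¬ Cyc E := fun hc => by
  have := h.1.card_dvd_of_cyc hc
  rw [h.2] at this; omega

theorem V4.ab8 (h : V4 E) (hB : E ≤ B) (hc : B ≤ C(E)) (h8 : #B = 8) : Ab B := by
  have a := card_mul_relIndex hB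
  rw [h.2, h8] at a
  exact ab_of_cyc_quo (le_inf hB (centsC hc)) (cyc_quo_of_prime_relIndex (cents_norm hc)
    (by rw [show E.relIndex B = 2 by omega]; exact Nat.prime_two))

theorem N8.cen (h : N8 Y) (hY : PGrp 2 Y) (hE : V4 E) (hle : E ≤ Y) : Y ⊓ C(E) = E := by
  have l : E ≤ Y ⊓ C(E) := le_inf hle hE.1.ab.le_cen
  by_contra e
  have a := (hY.inf_left _).mul_card_le (lt_of_le_of_ne l (Ne.symm e))
  obtain ⟨B, b1, b2, b3⟩ := (hY.inf_left C(E)).exists_between (n := 3) Nat.prime_two l (by rw [hE.2]; norm_num)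
    (by rw [hE.2] at a; omega)
  exact hE.not_cyc ((h B (b2.trans inf_le_left) (hE.ab8 b1 (b2.trans inf_le_right) b3) b3).mono b1)

theorem N8.ab (h : N8 Y) (hY : PGrp 2 Y) (hA : Ab A) (hle : A ≤ Y) : Cyc A ∨ V4 A := by
  by_cases hc : Cyc A
  · exact .inl hc
  obtain ⟨p, E, hE⟩ := hA.exists_pnElem_two hc
  obtain rfl : p = 2 := hE.pGrp.eq_of_pgrp (hY.mono (hE.le.trans hle)) hE.ne_bot
  have v : V4 E := ⟨hE.abelem, hE.card⟩
  exact .inr (le_antisymm hE.le ((le_inf hle (hA.cents hE.le le_rfl)).trans (h.cen hY v (hE.le.trans hle)).le) ▸ v)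

theorem cyc_cents (hA : Cyc A) (h2 : PGrp 2 A) (hR : PiGrp {2}ᶜ R) (hn : R ≤ N(A)) : R ≤ C(A) := by
  obtain ⟨n, e⟩ := h2.card
  refine hA.cents_of_coprime hn (PiNat.coprime' hR ?_)
  rcases n with _ | n
  · rw [e]; exact piNat_one _
  · rw [e, Nat.totient_prime_pow_succ Nat.prime_two]; simpa using piNat_self_pow Nat.prime_two n

theorem comm_le_two (h : U.relIndex E = 2) (h1 : R ≤ N(E)) (h2 : R ≤ N(U)) : ⁅E, R⁆ ≤ U :=
  comm_le_iff.2 fun e he r hr => by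
    rw [commutatorElement_def, mul_assoc, mul_assoc, ← mul_assoc r, mem_two h he (conj_mem (h1 hr) (inv_mem he))]
    exact ⟨fun a => conj_mem (h2 hr) (inv_mem a), fun a => inv_mem_iff.1 ((mem_normalizer_iff.1 (h2 hr) _).2 a)⟩

theorem idx_two (h : U ≤ E) (hc : #E = 2 * #U) : U.relIndex E = 2 := by
  have := card_mul_relIndex h
  rw [hc, mul_comm] at this
  exact Nat.eq_of_mul_eq_mul_right (card_pos U) this

theorem stab_two (hE : PGrp 2 E) (hR : PiGrp {2}ᶜ R) (hn : R ≤ N(E)) (h : U ≤ E) (hc : #E = 2 * #U) (h2 : R ≤ C(U)) :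
    R ≤ C(E) := stable_factor_cent hn (hE.cop hR) (comm_le_two (idx_two h hc) hn (cents_norm h2)) h2

theorem four (hE : #E = 4) (hR : PiGrp {2}ᶜ R) (hn : R ≤ N(E)) (hc : ¬ R ≤ C(E)) (hT : PGrp 2 T) (h1 : T ≤ N(E))
    (h2 : R ≤ N(T)) : T ≤ C(E) := by
  have pE : PGrp 2 E := pGrp_of_card (n := 2) Nat.prime_two hE
  have a := one_lt_card (hT.meet_cen pE h1 (ne_bot_of_one_lt_card (by omega)))
  have b := card_dvd (inf_le_left : E ⊓ C(T) ≤ E)
  by_contra e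
  have c := card_lt (lt_of_le_of_ne (inf_le_left : E ⊓ C(T) ≤ E) fun k => e (centsC (inf_eq_left.1 k)))
  have d : #(E ⊓ C(T)) = 2 := by
    rw [hE] at b c
    generalize #(E ⊓ C(T)) = m at *
    interval_cases m <;> omega
  exact hc (stab_two pE hR hn inf_le_left (by omega) (cents_two d (norms_subcent hn h2)))

/-- quaternion groups of order eight -/
structure Q8 (Y : Subgroup G) : Prop where
  card : #Y = 8
  nab : ¬ Ab Y
  sq : ∀ u ∈ Y, u * u = 1 → u ∈ C(Y)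

theorem ex8 (h : #Y = 8) (hn : ¬ Ab Y) : #Z(Y) = 2 ∧ ⁅Y, Y⁆ = Z(Y) ∧ Phi Y = Z(Y) :=
  have e := p3group_extraspecial Nat.prime_two h hn
  ⟨e.card_center (pGrp_of_card (n := 3) Nat.prime_two h), e.special.der, e.special.phi⟩

theorem eight (h : #Y = 8) (hn : ¬ Ab Y) (hR : PiGrp {2}ᶜ R) (h0 : R ≤ N(Y)) (hc : ¬ R ≤ C(Y)) (hT : PGrp 2 T)
    (h1 : T ≤ N(Y)) (h2 : R ≤ N(T)) : ⁅Y, T⁆ ≤ Z(Y) := by
  obtain ⟨z2, -, -⟩ := ex8 h hn
  have n := (center_nml Y).nrm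
  have c4 : #(Y /ₛ Z(Y)) = 4 := by have := card_quo_mul (center_nml Y); rw [z2, h] at this; omega
  refine (quo_cents_iff n (norms_center h1)).1 (centsC (four c4 (hR.quo _) (quo_norms _ h0) (fun e => hc ?_) (hT.quo _)
    (quo_norms _ h1) (quo_norms _ h2)))
  exact stable_factor_cent h0 ((pGrp_of_card (n := 3) Nat.prime_two h).cop hR)
    ((quo_cents_iff n (norms_center h0)).1 (centsC e)) (cents_two z2 (norms_center h0))

theorem sq_mem (h : #Y = 8) (hn : ¬ Ab Y) (hx : x ∈ Y) : x * x ∈ Z(Y) := by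
  rw [← (ex8 h hn).2.2, ← pow_two]; exact (pGrp_of_card (n := 3) Nat.prime_two h).pow_mem_Phi hx

theorem two_eq (h : #Z = 2) (hx : x ∈ Z) (hy : y ∈ Z) (x1 : x ≠ 1) (y1 : y ≠ 1) : x = y := by
  have a := mul_mem_two (A := ⊥) (by rw [relIndex_bot_left, h]) hx hy (mt mem_bot.1 x1) (mt mem_bot.1 y1)
  have b := mul_mem_two (A := ⊥) (by rw [relIndex_bot_left, h]) hy hy (mt mem_bot.1 y1) (mt mem_bot.1 y1)
  rw [mem_bot] at a b
  exact mul_right_cancel (a.trans b.symm)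

theorem Q8.order (h : Q8 Y) (hx : x ∈ Y) (hn : x ∉ C(Y)) : orderOf x = 4 := by
  have : Fact (Nat.Prime 2) := ⟨Nat.prime_two⟩
  refine orderOf_eq_prime_pow (p := 2) (n := 1) (by rw [pow_one, pow_two]; exact fun e => hn (h.sq x hx e)) ?_
  have := pow_card (sq_mem h.card h.nab hx)
  rwa [(ex8 h.card h.nab).1, ← pow_two, ← pow_mul] at this

theorem Q8.equiv (h : Q8 Y) : Nonempty (Y ≃* QuaternionGroup 2) := by
  obtain ⟨z2, d, -⟩ := ex8 h.card h.nab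
  have := mt ab_iff_forall.2 h.nab
  push Not at this
  obtain ⟨c, hc, s, hs, e⟩ := this
  have c1 : c ∉ C(Y) := fun a => e (mem_cen.1 a s hs).symm
  have s1 : s ∉ C(Y) := fun a => e (mem_cen.1 a c hc)
  have a1 : s * s = c * c := two_eq z2 (sq_mem h.card h.nab hs) (sq_mem h.card h.nab hc) (fun a => s1 (h.sq s hs a))
    fun a => c1 (h.sq c hc a)
  have a2 : ⁅s, c⁆ = c * c := two_eq z2 (d ▸ comm_mem hs hc) (sq_mem h.card h.nab hc)
    (fun a => e (commutatorElement_eq_one_iff_mul_comm.1 a).symm) fun a => c1 (h.sq c hc a)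
  have o := h.order hc c1
  refine H10.nonempty_equiv_quaternion (c := (⟨c, hc⟩ : Y)) (s := ⟨s, hs⟩) (by rw [← orderOf_coe]; exact o)
    (Subtype.ext (by rw [pow_two]; exact a1)) (Subtype.ext ?_) (fun a => ?_) h.card
  · change s * c * s⁻¹ = c⁻¹
    rw [← mul_inv_cancel_right (s * c * s⁻¹) c⁻¹, ← commutatorElement_def, a2, inv_inv, eq_inv_iff_mul_eq_one,
      ← pow_orderOf_eq_one c, o]
    simp only [pow_succ, pow_zero, one_mul]
  · obtain ⟨k, hk⟩ := mem_zpowers_iff.1 a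
    have : c ^ k = s := congrArg Subtype.val hk
    exact e (this ▸ ((Commute.refl c).zpow_right k).eq)

theorem ab_sup_zp (hZ : Z ≤ C(D)) (hZD : Z ≤ D) (hx : x ∈ D) : Ab (Z ⊔ ⟪x⟫) :=
  (ab_iff.2 (centsS hZD hZ)).sup (ab_zpowers x) (centsC (centsS (zpowers_le.2 hx) hZ))

theorem crit_two (hD : PGrp 2 D) (h : N8 D) (hc : Cyc Z(D)) (hn : ¬ Ab D) (h1 : ∀ x ∈ D, x ^ 2 ∈ C(D))
    (h2 : ⁅D, D⁆ ≤ Z(D)) : #Z(D) = 2 := by
  have pZ : PGrp 2 Z(D) := hD.inf_left _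
  have ne : Z(D) ≠ ⊥ := hD.center_ne_bot fun e => hn (e ▸ ab_bot)
  by_contra e
  have c4 : 4 ≤ #Z(D) := by
    obtain ⟨n, hn⟩ := pZ.card
    have := one_lt_card ne
    rw [hn] at e this ⊢
    rcases n with _ | _ | n
    · simp at this
    · simp at e
    · rw [pow_succ, pow_succ]; have := Nat.one_le_two_pow (n := n); omega
  have key : ∀ u ∈ D, u ∉ Z(D) → u * u ≠ 1 := fun u hu hz e => by
    have l : Z(D) ⊔ ⟪u⟫ ≤ D := sup_le inf_le_left (zpowers_le.2 hu)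
    have lt : Z(D) < Z(D) ⊔ ⟪u⟫ := lt_of_le_of_ne le_sup_left fun a => hz (a.ge (mem_sup_right (mem_zpowers u)))
    have c := card_lt lt
    rcases h.ab hD (ab_sup_zp inf_le_right inf_le_left hu) l with a | a
    · rcases a.eq_of_sup (hD.mono l) rfl with b | b
      · exact lt.ne b
      · rw [← b, card_zpowers'] at c
        have := Nat.le_of_dvd (by norm_num) (orderOf_dvd_of_pow_eq_one (x := u) (n := 2) (by rw [pow_two, e]))
        omega
    · have := a.2; omega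
  have i2 : ℧[2](Z(D)).relIndex Z(D) = 2 := by rw [(ab_center D).relIndex_Mho, hc.card_Ohm_pGrp pZ ne]
  have key2 : ∀ u ∈ D, u ∉ Z(D) → u * u ∉ ℧[2](Z(D)) := fun u hu hz e => by
    obtain ⟨w, hw, e⟩ := (ab_center D).mem_Mho_iff.1 e
    refine key (u * w⁻¹) (mul_mem hu (inv_mem hw.1)) (fun a => hz ((mul_mem_cancel_right (inv_mem hw)).1 a)) ?_
    rw [mul_assoc, ← mul_assoc w⁻¹, ← mem_cen.1 (inv_mem hw).2 u hu, ← mul_assoc, ← mul_assoc, e]; group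
  have := mt ab_iff_forall.2 hn
  push Not at this
  obtain ⟨x, hx, y, hy, e⟩ := this
  have x1 : x ∉ Z(D) := fun a => e (mem_cen.1 a.2 y hy).symm
  have y1 : y ∉ Z(D) := fun a => e (mem_cen.1 a.2 x hx)
  have xy : x * y ∉ Z(D) := fun a => e (by
    have := mem_cen.1 a.2 x hx
    rw [mul_assoc] at this; exact mul_left_cancel this)
  have c := h2 (comm_mem hy hx)
  refine key2 _ (mul_mem hx hy) xy ?_
  rw [← pow_two, H3.mul_pow_of_class_two (mem_cen.1 c.2 x hx) (mem_cen.1 c.2 y hy)]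
  refine mul_mem (mul_mem_two i2 ⟨pow_mem hx 2, h1 x hx⟩ ⟨pow_mem hy 2, h1 y hy⟩ (pow_two x ▸ key2 x hx x1)
    (pow_two y ▸ key2 y hy y1)) (pow_mem (hc.Ohm_le_of_ne pZ (Mho_le _ _) (fun a => ?_) (mem_Ohm c ?_)) _)
  · rw [a, relIndex_bot_left] at i2; omega
  · rw [← H3.comm_pow_left (mem_cen.1 c.2 y hy), commutatorElement_eq_one_iff_mul_comm]
    exact (mem_cen.1 (h1 y hy) x hx).symm

theorem crit_eight (hD : PGrp 2 D) (h : N8 D) (hz : #Z(D) = 2) (hn : ¬ Ab D) (h1 : ∀ x ∈ D, x ^ 2 ∈ C(D))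
    (h2 : ⁅D, D⁆ ≤ Z(D)) : #D = 8 := by
  obtain ⟨x, hx, x1⟩ := SetLike.not_le_iff_exists.1 (mt ab_iff.2 hn)
  have e4 : ∀ A, A ≤ D → Ab A → #A ≤ 4 := fun A hA ha => by
    rcases h.ab hD ha hA with a | a
    · refine Nat.le_of_dvd (by norm_num) (a.card_dvd_of_pow fun u hu => ?_)
      have := pow_card (H := Z(D)) (x := u ^ 2) ⟨pow_mem (hA hu) 2, h1 u (hA hu)⟩
      rwa [hz, ← pow_mul] at this
    · exact a.2.le
  have l : Z(D) ⊔ ⟪x⟫ ≤ D := sup_le inf_le_left (zpowers_le.2 hx)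
  have a1 := ab_sup_zp inf_le_right inf_le_left hx
  have c4 : 4 ≤ #(Z(D) ⊔ ⟪x⟫) := by
    have := (hD.mono l).mul_card_le (lt_of_le_of_ne le_sup_left fun a => x1 (a.ge (mem_sup_right (mem_zpowers x))).2)
    omega
  have c1 : D ⊓ C[x] ≤ Z(D) ⊔ ⟪x⟫ := fun y hy => by
    have a2 : Ab (Z(D) ⊔ ⟪x⟫ ⊔ ⟪y⟫) := a1.sup (ab_zpowers y) (zpowers_le.2 (by
      rw [cen_sup, cen_zpowers]; exact ⟨le_cen_center le_rfl hy.1, hy.2⟩))
    exact (eq_of_card_le le_sup_left ((e4 _ (sup_le l (zpowers_le.2 hy.1)) a2).trans c4)).ge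
      (mem_sup_right (mem_zpowers y))
  let f : D →* G :=
    { toFun := fun d => ⁅(d : G), x⁆
      map_one' := by simp
      map_mul' := fun a b => by
        rw [coe_mul, H3.comm_mul_left_of_commute (mem_cen.1 (h2 (comm_mem b.2 hx)).2 a a.2)]
        exact mem_cen.1 (h2 (comm_mem a.2 hx)).2 _ (h2 (comm_mem b.2 hx)).1 }
  have k : f.ker = C[x].subgroupOf D := by
    ext d; rw [MonoidHom.mem_ker, mem_subgroupOf, mem_cen1]; exact commutatorElement_eq_one_iff_mul_comm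
  have i : C[x].relIndex D ≤ 2 := by
    rw [relIndex, ← k, index_ker, ← hz]
    exact card_le (by rintro _ ⟨d, rfl⟩; exact h2 (comm_mem d.2 hx))
  have c2 := card_inf_mul_relIndex C[x] D
  rw [inf_comm] at c2
  have c3 := (card_le c1).trans (e4 _ l a1)
  have c5 : #D ≤ 8 := by nlinarith
  obtain ⟨n, e⟩ := hD.card
  have c6 : ¬ #D ≤ 2 ^ 2 := fun a => hn (hD.ab_of_card_le Nat.prime_two a)
  rw [e] at c5 c6 ⊢
  have b1 : n ≤ 3 := (Nat.pow_le_pow_iff_right (by norm_num : 1 < 2)).1 c5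
  have b2 : ¬ n ≤ 2 := fun a => c6 (Nat.pow_le_pow_right (by norm_num) a)
  rw [show n = 3 by omega]; rfl

theorem q8_of_act (h : #D = 8) (hn : ¬ Ab D) (hR : PiGrp {2}ᶜ R) (h0 : R ≤ N(D)) (hc : ¬ R ≤ C(D)) : Q8 D := by
  refine ⟨h, hn, fun u hu e => by_contra fun u1 => ?_⟩
  obtain ⟨z2, -, -⟩ := ex8 h hn
  have pD : PGrp 2 D := pGrp_of_card (n := 3) Nat.prime_two h
  have cZ := cents_two z2 (norms_center h0)
  have cu : #⟪u⟫ = 2 := (card_zpowers' u).trans (orderOf_eq_prime (by rw [pow_two, e]) fun a => u1 (a ▸ one_mem _))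
  have l : Z(D) ⊔ ⟪u⟫ ≤ D := sup_le inf_le_left (zpowers_le.2 hu)
  have v : V4 (Z(D) ⊔ ⟪u⟫) := ⟨(abelem_of_card_prime Nat.prime_two z2).sup_zpowers (le_cen_center le_rfl hu)
    (by rw [pow_two, e]), by
      rw [card_sup_of_inf ((zpowers_le.2 hu).trans (center_nml D).nrm), z2, cu]
      rw [inf_comm]; exact prime_inf_of_not_le (cu ▸ Nat.prime_two) fun a => u1 (zpowers_le.1 a).2⟩
  have zl : Z(D) ≤ Z(D) ⊔ ⟪u⟫ := le_sup_left
  generalize Z(D) ⊔ ⟪u⟫ = E at *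
  obtain ⟨r, hr, r1⟩ := SetLike.not_le_iff_exists.1 fun a : R ≤ N(E) => hc (stab_two pD hR h0 l (by rw [h, v.2])
    (stab_two (pD.mono l) hR a zl (by rw [z2, v.2]) cZ))
  have p : ∀ g ∈ R, V4 (cj g E) ∧ cj g E ≤ D ∧ Z(D) ≤ cj g E := fun g hg =>
    ⟨⟨v.1.cj g, (card_cj _ _).trans v.2⟩, cj_le_of_nrm (h0 hg) l,
      cj_of_mem_nrm (norms_center h0 hg) ▸ cj_mono g zl⟩
  have q : ∀ {E F : Subgroup G}, V4 E → V4 F → Z(D) ≤ E → Z(D) ≤ F → E ≠ F → E ⊓ F = Z(D) := fun a b c d e =>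
    (eq_or_eq_of_prime_relIndex (by rw [idx_two c (by rw [a.2, z2])]; exact Nat.prime_two) (le_inf c d)
      inf_le_left).resolve_right fun k => e (eq_of_card_eq (inf_eq_left.1 k) (a.2.trans b.2.symm))
  obtain ⟨v2, l2, z2'⟩ := p r hr
  obtain ⟨v3, l3, z3⟩ := p _ (mul_mem hr hr)
  have n12 : E ≠ cj r E := fun a => r1 (cj_eq_self.1 a.symm)
  have n13 : E ≠ cj (r * r) E := fun a => r1 ((hR.piElt hr).mem_of_pow_mem (n := 2)
    (piNat_compl_compl.2 ((piNat_prime Nat.prime_two).2 rfl)) (pow_two r ▸ cj_eq_self.1 a.symm))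
  have n23 : cj r E ≠ cj (r * r) E := fun a => n12 (by rwa [← cj_cj, cj_eq_cj] at a)
  obtain ⟨w, hw, w1⟩ := SetLike.not_le_iff_exists.1 fun a : cj (r * r) E ≤ Z(D) => by
    have := card_le a; rw [v3.2, z2] at this; omega
  refine hn (abelem_two fun d hd => ?_).ab
  by_cases d1 : d ∈ E
  · exact v.1.pow d1
  by_cases d2 : d ∈ cj r E
  · exact v2.1.pow d2
  refine v3.1.pow ((mul_mem_cancel_right hw).1 (z3 ((q v v2 zl z2' n12).le ⟨?_, ?_⟩)))
  · exact mul_mem_two (idx_two l (by rw [h, v.2])) hd (l3 hw) d1 fun a => w1 ((q v v3 zl z3 n13).le ⟨a, hw⟩)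
  · exact mul_mem_two (idx_two l2 (by rw [h, v2.2])) hd (l3 hw) d2 fun a => w1 ((q v2 v3 z2' z3 n23).le ⟨a, hw⟩)

theorem N8.act (h : N8 Y) (hY : PGrp 2 Y) (hR : PiGrp {2}ᶜ R) (h0 : R ≤ N(Y)) (hc : ¬ R ≤ C(Y)) : V4 Y ∨ Q8 Y := by
  have : Fact (Nat.Prime 2) := ⟨Nat.prime_two⟩
  obtain ⟨D, d1, d2, d3, d4, d5⟩ := H3.exists_critical hY.isPGroup
  have pD := hY.mono d1
  have nD := h0.trans d2
  have cD : ¬ R ≤ C(D) := fun e => hc (coprime_nil_selfcent h0 (hY.cop hR) hY.nil d1 d5 e)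
  rcases h.ab hY (ab_center D) (inf_le_left.trans d1) with a | a
  · have na : ¬ Ab D := fun e => cD (cyc_cents (e.center ▸ a) pD hR nD)
    have dd : ⁅D, D⁆ ≤ Z(D) := (commSS le_rfl d1).trans d4
    have z2 := crit_two pD (h.mono d1) a na d3 dd
    have c8 := crit_eight pD (h.mono d1) z2 na d3 dd
    have e : D = Y := le_antisymm d1 ((bg4_cprod_of_center_prime hY d1 (z2 ▸ Nat.prime_two) d4).sup.ge.trans
      (sup_le le_rfl d5))
    exact .inr (e ▸ q8_of_act c8 na hR nD cD)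
  · have e : Z(D) = D := le_antisymm inf_le_left ((le_inf d1 (le_cen_center le_rfl)).trans
      (h.cen hY a (inf_le_left.trans d1)).le)
    rw [e] at a
    exact .inl (le_antisymm d1 ((le_inf le_rfl (four a.2 hR nD cD hY ((le_nrm Y).trans d2) h0)).trans d5) ▸ a)

end Cfsg.Agent.H5g
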