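import Cfsg.Agent.H5.Nca

/-! Minimal `2`-groups with operators containing a noncyclic abelian subgroup of order eight. -/

set_option autoImplicit false
set_option linter.unusedSectionVars false

namespace Cfsg.Agent.H5g

open Cfsg Subgroup Cfsg.Agent.FT Cfsg.Agent.P22 Cfsg.Agent.H5f
open scoped commutatorElement

variable {G : Type*} [Group G] [Finite G] {A B C D E H K R T U V W X Y Z : Subgroup G} {t u x y : G}

theorem idx_le_two (hA : PGrp 2 A) (h : U.relIndex A ∣ 6) : #A ≤ 2 * #(U ⊓ A) := by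
  have a : U.relIndex A ∣ 2 := PiNat.dvd_of_dvd_mul (c := 2) (d := 3) (hA.relIndex U)
    ((piNat_prime Nat.prime_three).2 (by simp)) h
  rw [← card_inf_mul_relIndex U A, mul_comm]
  exact Nat.mul_le_mul_right _ (Nat.le_of_dvd two_pos a)

theorem Q8.mem (h : Q8 H) (hC : C(H) ≤ H) (hT : PGrp 2 T) (h1 : T ≤ N(H)) (h2 : ⁅H, T⁆ ≤ Z(H)) : T ≤ H := by
  obtain ⟨z2, d, -⟩ := ex8 h.card h.nab
  exact le_sup_right.trans ((bg4_cprod_of_center_prime ((pGrp_of_card (n := 3) Nat.prime_two h.card).sup hT h1)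
    le_sup_left (z2 ▸ Nat.prime_two) (comm_sup_le' (norms_center (sup_le (le_nrm H) h1)) d.le h2)).sup.ge.trans
    (sup_le le_rfl (inf_le_right.trans hC)))

theorem N8.not_self_cen (h : V4 H ∨ Q8 H) (hC : C(H) ≤ H) (hn : A ≤ N(H)) (hA : Ab A) (h8 : #A = 8) : Cyc A := by
  have pA : PGrp 2 A := pGrp_of_card (n := 3) Nat.prime_two h8
  rcases h with h | h
  · have a := idx_le_two pA (idx_cen_dvd hn h.2.le)
    have b : C(H) ⊓ A = H := eq_of_card_le (inf_le_left.trans hC) (by rw [h.2]; omega)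
    have c := card_le ((hA.cents (b.ge.trans inf_le_right) le_rfl).trans hC)
    rw [h.2] at c; omega
  by_contra hc
  obtain ⟨z2, d, -⟩ := ex8 h.card h.nab
  have pH : PGrp 2 H := pGrp_of_card (n := 3) Nat.prime_two h.card
  have n := (center_nml H).nrm
  have c4 : #(H /ₛ Z(H)) = 4 := by have := card_quo_mul (center_nml H); rw [z2, h.card] at this; omega
  have a := idx_cen_dvd (quo_norms Z(H) hn) c4.le
  rw [← relIndex_qpre _ (norms_center hn)] at a
  have b := idx_le_two pA a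
  have l : qpre(Z(H), C(H /ₛ Z(H))) ⊓ A ≤ H ⊓ A := le_inf (h.mem hC (pA.inf_right _) (inf_le_right.trans hn)
    (by rw [commutator_comm]; exact ((le_qpre_cen n).1 inf_le_left).2)) inf_le_right
  have c := card_le l
  have c1 := card_lt (lt_of_le_of_ne (inf_le_left : H ⊓ A ≤ H) fun e => h.nab (hA.mono (inf_eq_left.1 e)))
  obtain ⟨k, hk⟩ := (pH.inf_left A).card
  have c2 : #(H ⊓ A) = 4 := by
    rw [h.card] at c1
    have b1 : k < 3 := (Nat.pow_lt_pow_iff_right (by norm_num : 1 < 2)).1 (hk ▸ c1)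
    have b2 : 2 ≤ k := (Nat.pow_le_pow_iff_right (by norm_num : 1 < 2)).1 (by rw [← hk]; omega)
    rw [hk, show k = 2 by omega]; rfl
  have c3 := card_sup_mul_card_inf hn
  have nA : H ≤ N(A) := le_sup_left.trans (nrm_two (idx_two le_sup_right (by rw [c2, h.card, h8] at c3; omega))
    le_sup_right)
  obtain ⟨p, E, hE⟩ := hA.exists_pnElem_two hc
  obtain rfl : p = 2 := hE.pGrp.eq_of_pgrp (pA.mono hE.le) hE.ne_bot
  have lE : E ≤ H := h.mem hC hE.pGrp (hE.le.trans hn) (comm_le_iff.2 fun s hs t ht => by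
    have w : ⁅s, t⁆ ∈ H := comm_le_left (hE.le.trans hn) (comm_mem hs ht)
    refine ⟨w, h.sq _ w ?_⟩
    have t2 : t ^ 2 = 1 := hE.abelem.pow ht
    rw [← pow_two, commutatorElement_def, mul_assoc _ _ t⁻¹, ← mul_assoc (s * t), Commute.mul_pow
      (ab_iff_forall.1 hA _ (conj_mem (nA hs) (hE.le ht)) _ (inv_mem (hE.le ht))), conj_pow, inv_pow, t2]
    simp)
  have := card_le (show E ≤ Z(H) from fun e he => ⟨lE he, h.sq e (lE he) (by rw [← pow_two]; exact hE.abelem.pow he)⟩)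
  rw [hE.card, z2] at this; omega

theorem Q8.cen_le (h : Q8 W) (hB : N8 B) (pB : PGrp 2 B) (hle : W ≤ B) : B ⊓ C(W) ≤ W := fun d hd => by
  obtain ⟨c, hc, c1⟩ := SetLike.not_le_iff_exists.1 (mt ab_iff.2 h.nab)
  have l : ⟪c⟫ ⊔ ⟪d⟫ ≤ B := sup_le (zpowers_le.2 (hle hc)) (zpowers_le.2 hd.1)
  rcases hB.ab pB ((ab_zpowers c).sup (ab_zpowers d) (centsS (zpowers_le.2 hc) (zpowers_le.2 hd.2))) l with a | a
  · rcases a.eq_of_sup (pB.mono l) rfl with b | b
    · exact zpowers_le.2 hc (b.ge (mem_sup_right (mem_zpowers d)))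
    · exact absurd (zpowers_le.2 hd.2 (b.ge (mem_sup_left (mem_zpowers c)))) c1
  · exact absurd (h.sq c hc (by rw [← pow_two]; exact a.1.pow (mem_sup_left (mem_zpowers c)))) c1

theorem min_main (hX : PGrp 2 X) (hK : PiGrp {2}ᶜ K) (hn : K ≤ N(X)) (h8 : ¬ N8 X)
    (hmin : ∀ Y, Y < X → K ≤ N(Y) → N8 Y) (na : ¬ Ab X) :
    (∃ W, W ≤ X ∧ W.relIndex X = 2 ∧ Q8 W ∧ W ⊔ (X ⊓ C(W)) = X) ∨
      (Phi X = Z(X) ∧ ⁅X, X⁆ = Z(X) ∧ (#Z(X) = 2 ∧ 32 ≤ #X ∨ #Z(X) = 4)) := by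
  have cop := hX.cop hK
  obtain ⟨A, hA, aA, cA, nA⟩ : ∃ A, A ≤ X ∧ Ab A ∧ #A = 8 ∧ ¬ Cyc A := by
    by_contra e; exact h8 fun A a b c => by_contra fun d => e ⟨A, a, b, c, d⟩
  have ltA : A < X := lt_of_le_of_ne hA fun e => na (e ▸ aA)
  have c16 : 16 ≤ #X := by have := hX.mul_card_le ltA; omega
  have hc : ¬ K ≤ C(X) := fun e => nA (hmin A ltA (cents_norm (centsS hA e)) A le_rfl aA cA)
  have nW := comm_nml_left hn
  by_cases hW : ⁅X, K⁆ = X
  swap
  · have nB : ∀ B, ⁅X, K⁆ ≤ B → B ≤ X → K ≤ N(B) := fun B a b => norms_of_comm_le ((commSS b le_rfl).trans a)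
    have cW : ¬ K ≤ C(⁅X, K⁆) := fun e => hc (comm_eq_bot'.1 ((coprime_commGid hn cop).symm.trans (comm_eq_bot'.2 e)))
    have kW := norm_comm_right X K
    rcases (hmin _ (lt_of_le_of_ne nW.le hW) kW).act (hX.mono nW.le) hK kW cW with a | a
    · obtain ⟨B, b1, b2, b3⟩ := hX.exists_between (n := 3) Nat.prime_two nW.le (by rw [a.2]; norm_num) (by omega)
      exact (a.not_cyc ((hmin B (lt_of_le_of_ne b2 fun e => by rw [e] at b3; omega) (nB B b1 b2) B le_rfl
        (a.ab8 b1 (b2.trans (four a.2 hK kW cW hX nW.nrm hn)) b3) b3).mono b1)).elim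
    · obtain ⟨B, b1, b2, b3⟩ := hX.exists_between (n := 4) Nat.prime_two nW.le (by rw [a.card]; norm_num) c16
      have cp := (bg4_cprod_of_center_prime (hX.mono b2) b1 ((ex8 a.card a.nab).1 ▸ Nat.prime_two)
        ((commSS le_rfl b2).trans (eight a.card a.nab hK kW cW hX nW.nrm hn))).sup
      obtain rfl : B = X := by_contra fun e => by
        rw [sup_eq_left.2 (a.cen_le (hmin B (lt_of_le_of_ne b2 e) (nB B b1 b2)) (hX.mono b2) b1)] at cp
        rw [← cp, a.card] at b3; omega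
      exact .inl ⟨_, b1, idx_two b1 (by rw [b3, a.card]; rfl), a, cp⟩
  have ck : X ⊓ C(K) ≤ ⁅X, X⁆ := by have := coprime_cent_comm_le_der hn cop; rwa [hW] at this
  have ne : X ≠ ⊥ := fun e => na (e ▸ ab_bot)
  have dz : ⁅X, X⁆ ≤ Z(X) := le_inf (der_le X) (centsC (by
    have kD := norms_der hn
    have nD := norms_der (le_nrm X)
    by_cases e : K ≤ C(⁅X, X⁆)
    · exact hW.ge.trans ((commSS le_rfl e).trans (comm_le_right (norms_cent nD)))
    rcases (hmin _ (hX.nil.sol.der_lt ne) kD).act (hX.mono (der_le X)) hK kD e with a | a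
    · exact four a.2 hK kD e hX nD hn
    · exact (Phi_nongen inf_le_left ((bg4_cprod_of_center_prime hX (der_le X) ((ex8 a.card a.nab).1 ▸ Nat.prime_two)
        (eight a.card a.nab hK kD e hX nD hn)).sup.ge.trans (sup_le_sup_right hX.der_le_Phi _))).ge.trans inf_le_right))
  have cz : ∀ x ∈ X, ∀ y ∈ X, ⁅x, y⁆ ∈ Z(X) := fun x hx y hy => dz (comm_mem hx hy)
  have pc : ∀ n, (∀ z ∈ Z(X), z ^ n = 1) → ∀ x ∈ X, x ^ n ∈ Z(X) := fun n h x hx => ⟨pow_mem hx n, mem_cen.2 fun y hy => by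
    rw [eq_comm, ← commutatorElement_eq_one_iff_mul_comm, H3.comm_pow_left (mem_cen.1 (cz x hx y hy).2 x hx)]
    exact h _ (cz x hx y hy)⟩
  have ph : (∀ z ∈ Z(X), z ^ 2 = 1) → ⁅X, X⁆ = Z(X) → Phi X = Z(X) := fun h e =>
    le_antisymm ((hX.Phi_le_iff Nat.prime_two).2 ⟨dz, pc 2 h⟩) (e.ge.trans hX.der_le_Phi)
  have abl : ∀ Y, Y ≤ X → Ab Y → K ≤ N(Y) → Cyc Y ∨ V4 Y := fun Y a b c =>
    (hmin Y (lt_of_le_of_ne a fun e => na (e ▸ b)) c).ab (hX.mono a) b le_rfl
  have kZ := norms_center hn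
  right
  rcases abl _ inf_le_left (ab_center X) kZ with a | a
  swap
  · have e : ⁅X, X⁆ = Z(X) := by_contra fun e => by
      have b := (hX.inf_left _).mul_card_le (lt_of_le_of_ne dz e)
      have c := one_lt_card (mt ab_iff_der.2 na)
      rw [a.2] at b
      exact e (le_antisymm dz ((le_inf inf_le_left (centsC (stab_two (hX.inf_left _) hK kZ dz (by rw [a.2]; omega)
        (cents_two (by omega) (norms_der hn))))).trans ck))
    exact ⟨ph (fun z hz => a.1.pow hz) e, e, .inr a.2⟩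
  have e : ⁅X, X⁆ = Z(X) := le_antisymm dz ((le_inf inf_le_left (centsC (cyc_cents a (hX.inf_left _) hK kZ))).trans ck)
  have z2 : #Z(X) = 2 := by
    obtain ⟨m, hm⟩ := (hX.inf_left C(X)).card
    have z1 := one_lt_card (hX.center_ne_bot ne)
    rcases m with _ | _ | m
    · omega
    · exact hm
    have l : Z(X) ⊔ ℧[2 ^ (m + 1)](X) ≤ X := sup_le inf_le_left (Mho_le _ _)
    have aM : Ab ℧[2 ^ (m + 1)](X) := ab_iff.2 (Mho_le_iff.2 fun x hx => centsC (Mho_le_iff.2 fun y hy => by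
      rw [cen_zpowers, mem_cen1, ← commutatorElement_eq_one_iff_mul_comm, H3.comm_pow_pow
        (mem_cen.1 (cz y hy x hx).2 y hy) (mem_cen.1 (cz y hy x hx).2 x hx), ← pow_add,
        show m + 1 + (m + 1) = m + 1 + 1 + m by ring, pow_add, pow_mul, ← hm, pow_card (cz y hy x hx), one_pow])
      (mem_zpowers (x ^ 2 ^ (m + 1))))
    have kM := normsY kZ (norms_Mho (2 ^ (m + 1)) hn)
    have cy : Cyc (Z(X) ⊔ ℧[2 ^ (m + 1)](X) : Subgroup G) := (abl _ l ((ab_center X).sup aM ((Mho_le _ _).trans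
      (le_cen_center le_rfl))) kM).resolve_right fun v => v.not_cyc (eq_of_card_le le_sup_left (by
        rw [v.2, hm, pow_succ, pow_succ]; have := Nat.one_le_two_pow (n := m); omega) ▸ a)
    have b := (le_inf l (centsC (cyc_cents cy (hX.mono l) hK kM))).trans (ck.trans dz)
    have c : Z(X) ≤ Ω[2 ^ (m + 1)](Z(X)) := e.ge.trans (comm_le_iff.2 fun x hx y hy => mem_Ohm (cz x hx y hy) (by
      rw [← H3.comm_pow_left (mem_cen.1 (cz x hx y hy).2 x hx), commutatorElement_eq_one_iff_mul_comm]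
      exact (mem_cen.1 (b (mem_sup_right (pow_mem_Mho _ hx))).2 y hy).symm))
    have d := a.card_dvd_of_pow fun z hz => ((ab_center X).mem_Ohm_iff.1 (c hz)).2
    rw [hm, Nat.pow_dvd_pow_iff_le_right one_lt_two] at d
    omega
  refine ⟨ph (fun z hz => z2 ▸ pow_card hz) e, e, .inl ⟨z2, ?_⟩⟩
  obtain ⟨n, hN⟩ := hX.card
  by_contra c
  have c1 : #X = 16 := by
    have b1 : n < 5 := (Nat.pow_lt_pow_iff_right (by norm_num : 1 < 2)).1 (by rw [← hN]; omega)
    have b2 : 4 ≤ n := (Nat.pow_le_pow_iff_right (by norm_num : 1 < 2)).1 (by rw [← hN]; omega)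
    rw [hN, show n = 4 by omega]; rfl
  have i := idx_two hA (by rw [c1, cA])
  obtain ⟨x, hx, x1⟩ := SetLike.exists_of_lt ltA
  have b1 := card_comm_zp aA (nrm_two i hA hx)
  have b2 := card_le ((commSS hA (zpowers_le.2 hx)).trans dz)
  have s : A ⊔ ⟪x⟫ = X := (eq_or_eq_of_prime_relIndex (i ▸ Nat.prime_two) le_sup_left
    (sup_le hA (zpowers_le.2 hx))).resolve_left fun k => x1 (k.le (mem_sup_right (mem_zpowers x)))
  have b3 := card_le (show A ⊓ C[x] ≤ Z(X) from le_inf (inf_le_left.trans hA) (by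
    rw [← s, cen_sup, cen_zpowers]; exact inf_le_inf_right _ aA.le_cen))
  rw [z2] at b2 b3
  rw [cA] at b1
  nlinarith

theorem isSpecial_of (hX : PGrp 2 X) (h1 : Phi X = Z(X)) (h2 : ⁅X, X⁆ = Z(X)) : IsSpecial 2 X :=
  ⟨hX.isPGroup, map_injective X.subtype_injective (h1.trans (center_eq_map X)),
    map_injective X.subtype_injective ((der_eq_map X).symm.trans (h2.trans (center_eq_map X)))⟩

theorem card_center' (X : Subgroup G) : Nat.card (center X) = #Z(X) := by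
  rw [center_eq_map, card_map_inj X.subtype_injective]

theorem min_syl (hs : Sol (⊤ : Subgroup G)) (hO : O[{2}ᶜ]((⊤ : Subgroup G)) = ⊥) (hK : Hall {2}ᶜ K ⊤) (h8 : ¬ N8 (⊤ : Subgroup G))
    (hmin : ∀ R, R ≠ ⊤ → K ≤ R → N8 R) : O[{2}]((⊤ : Subgroup G)) ⊔ K = ⊤ := by
  by_contra e
  have hC : C(O[{2}]((⊤ : Subgroup G))) ≤ O[{2}]((⊤ : Subgroup G)) := by
    have := cent_sub_Fitting hs
    rwa [fitting_eq_pcore hO, top_inf_eq] at this
  have pH := pcore_pi {2} (⊤ : Subgroup G)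
  have nH := pcore_nrm {2} (⊤ : Subgroup G)
  refine h8 fun A _ a b => N8.not_self_cen (((hmin _ e le_sup_right).mono le_sup_left).act pH hK.pi
    (le_top.trans nH) fun c => e ?_) hC (le_top.trans nH) a b
  have := hK.eq_bot_iff.1 ((pH.mono (c.trans hC)).eq_bot hK.pi)
  rw [compl_compl] at this
  rw [this.pcore_eq, top_sup_eq]

end Cfsg.Agent.H5g
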