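import Cfsg.Agent.H7.Sect
import Cfsg.Agent.H6.Except

/-! Character theoretic tools for the Smith-Tyrer theorem. -/

set_option autoImplicit false
set_option linter.unusedSectionVars false
set_option linter.unusedVariables false

namespace Cfsg.Agent.H5.ST

open Cfsg Cfsg.Agent.H7 Subgroup
open scoped ComplexConjugate

universe u

variable {G : Type u} [Group G] [Finite G]

theorem ip_self_nonneg (φ : G → ℂ) : 0 ≤ (ip φ φ).re := by
  have := Fintype.ofFinite G
  rw [ip_eq_classInner]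
  exact H6.classInner_self_re_nonneg φ

theorem bessel {ι : Type} [Fintype ι] [DecidableEq ι] (e : ι → G → ℂ)
    (he : ∀ i j, ip (e i) (e j) = if i = j then 1 else 0) (θ : G → ℂ) (c : ι → ℝ)
    (hc : ∀ i, ip θ (e i) = c i) : ∑ i, c i ^ 2 ≤ (ip θ θ).re := by
  have h := ip_self_nonneg (θ - ∑ i, (c i : ℂ) • e i)
  have hc' : ∀ i, ip (e i) θ = c i := fun i => by rw [← ip_conj_symm, hc, Complex.conj_ofReal]
  simp only [ip_sub_left, ip_sub_right, ip_sum_left, ip_sum_right, ip_smul_left, ip_smul_right,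
    hc, hc', he, Complex.conj_ofReal, mul_ite, mul_one, mul_zero, Finset.sum_ite_eq,
    Finset.sum_ite_eq', Finset.mem_univ, if_true, Finset.mul_sum] at h
  simp only [sub_self, sub_zero, Complex.sub_re, Finset.sum_const_zero, mul_zero,
    Complex.re_sum, ← Complex.ofReal_mul, Complex.ofReal_re] at h
  simp only [sq]
  linarith

theorem tsum_one [Fintype G] {θ : G → ℂ} (hθ : IsGeneralizedCharacter G θ) (h : ip θ θ = 1)
    (t : G) : θ 1 ≠ 0 ∧ ∑ x, θ (x * t * x⁻¹ * t) = Nat.card G * (θ t * θ t / θ 1) := by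
  rw [ip_eq_classInner] at h
  rcases H6.isIrr_or_neg_of_norm_one hθ h with h | h
  · exact ⟨irr_one_ne_zero h, by rw [H6.sum_irr_conj_mul h]; ring⟩
  · have h1 := irr_one_ne_zero h
    have h2 := H6.sum_irr_conj_mul h t t
    simp only [Pi.neg_apply, Finset.sum_neg_distrib, ne_eq, neg_eq_zero] at h1 h2
    refine ⟨h1, ?_⟩
    rw [neg_eq_iff_eq_neg] at h2
    rw [h2]; field_simp

theorem alg {p A s : ℂ} (hp : p ^ 2 ≠ 1) (hA : A ≠ 0) (hX : p - (p - 1) / 2 * (1 - A) ≠ 0)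
    (hY : p - (p + 1) / 2 * (1 - A) ≠ 0)
    (h : 1 - s * s / A = (p - (p - 1) / 2 * (1 - s)) * (p - (p - 1) / 2 * (1 - s)) /
      (p - (p - 1) / 2 * (1 - A)) - (p - (p + 1) / 2 * (1 - s)) * (p - (p + 1) / 2 * (1 - s)) /
      (p - (p + 1) / 2 * (1 - A))) : A = 1 ∨ s = A := by
  rw [div_sub_div _ _ hX hY, one_sub_div hA, div_eq_div_iff hA (mul_ne_zero hX hY)] at h
  have : (p ^ 2 - 1) * ((1 - A) * (s - A) ^ 2) = 0 := by linear_combination (-4) * h
  rcases mul_eq_zero.1 ((mul_eq_zero.1 this).resolve_left (sub_ne_zero.2 hp)) with h | h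
  · exact Or.inl (sub_eq_zero.1 h).symm
  · exact Or.inr (sub_eq_zero.1 (pow_eq_zero_iff two_ne_zero |>.1 h))

variable {p : ℕ} [hp : Fact p.Prime]

theorem exists_conj_into (S : Sylow p G) {V : Subgroup G} (hV : IsPGroup p V) :
    ∃ g : G, ∀ v ∈ V, g * v * g⁻¹ ∈ (S : Subgroup G) := by
  obtain ⟨Q, hQ⟩ := hV.exists_le_sylow
  obtain ⟨g, hg⟩ := MulAction.exists_smul_eq G Q S
  refine ⟨g, fun v hv => ?_⟩
  rw [← hg, Sylow.coe_subgroup_smul]
  exact Subgroup.smul_mem_pointwise_smul v (MulAut.conj g) Q (hQ hv)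

theorem pgroup_of_dvd {H : Type*} [Group H] [Finite H] {k : ℕ} (h : Nat.card H ∣ p ^ k) :
    IsPGroup p H := by
  obtain ⟨j, -, hj⟩ := (Nat.dvd_prime_pow hp.out).1 h
  exact IsPGroup.of_card hj

theorem exists_rep (S : Sylow p G) {u : G} {k : ℕ} (hu : orderOf u ∣ p ^ k) :
    ∃ x : S.1, IsConj u (x : G) := by
  obtain ⟨g, hg⟩ := exists_conj_into S (V := zpowers u) (pgroup_of_dvd (by rwa [Nat.card_zpowers]))
  exact ⟨⟨_, hg u (mem_zpowers u)⟩, isConj_iff.2 ⟨g, rfl⟩⟩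

/-- An exponent giving the `p`-part of elements. -/
structure PE (p : ℕ) (G : Type u) [Group G] (m k a : ℕ) : Prop where
  cop : m.Coprime p
  dvd : Nat.card G ∣ m * p ^ k
  ha : m ∣ a
  ha' : a ≡ 1 [MOD p ^ k]

variable {m k a : ℕ}

theorem PE.ord (E : PE p G m k a) (g : G) : orderOf (g ^ a) ∣ p ^ k :=
  orderOf_pow_part E.dvd E.ha g

theorem PE.exists_r (E : PE p G m k a) (S : Sylow p G) :
    ∃ r : G → S.1, ∀ g, IsConj (g ^ a) (r g : G) := by
  choose r hr using fun g => exists_rep S (E.ord g)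
  exact ⟨r, hr⟩

theorem PE.pow_self (E : PE p G m k a) {u : G} {j : ℕ} (hu : u ^ p ^ j = 1) : u ^ a = u := by
  have h1 : orderOf u ∣ p ^ k := by
    refine Nat.Coprime.dvd_of_dvd_mul_left ?_ ((orderOf_dvd_natCard u).trans E.dvd)
    exact (Nat.Coprime.pow_left j E.cop.symm).coprime_dvd_left (orderOf_dvd_of_pow_eq_one hu)
  conv_rhs => rw [← pow_one u]
  exact pow_eq_pow_iff_modEq.mpr (E.ha'.of_dvd h1)

theorem PE.star (E : PE p G m k a) (S : Sylow p G) {r : G → S.1}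
    (hr : ∀ g, IsConj (g ^ a) (r g : G)) {f : S.1 → ℂ}
    (hf : IsGeneralizedCharacter S.1 f)
    (hs : ∀ x y : S.1, IsConj (x : G) y → f x = f y) :
    IsGeneralizedCharacter G (fun g => f (r g)) := by
  classical
  let F : G → ℂ := fun u => if h : ∃ x : S.1, IsConj u (x : G) then f h.choose else 0
  have hF : ∀ u (x : S.1), IsConj u (x : G) → F u = f x := fun u x h => by
    have e : ∃ x : S.1, IsConj u (x : G) := ⟨x, h⟩
    simp only [F, dif_pos e]
    exact hs _ _ (e.choose_spec.symm.trans h)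
  have hcf : IsClassFunction G F := fun g h => by
    have e : IsConj g (h * g * h⁻¹) := isConj_iff.2 ⟨h, rfl⟩
    by_cases h1 : ∃ x : S.1, IsConj g (x : G)
    · obtain ⟨x, hx⟩ := h1
      rw [hF g x hx, hF _ x (e.symm.trans hx)]
    · have h2 : ¬ ∃ x : S.1, IsConj (h * g * h⁻¹) (x : G) := fun ⟨x, hx⟩ =>
        h1 ⟨x, e.trans hx⟩
      simp only [F, dif_neg h1, dif_neg h2]
  have := gen_pow_of_elem (E.cop.pow_right k) E.dvd E.ha E.ha' hcf fun V q _ _ hV => by
    obtain ⟨g, hg⟩ := exists_conj_into S (V := V) (pgroup_of_dvd hV)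
    let j : V →* S.1 :=
      ((MulAut.conj g).toMonoidHom.comp V.subtype).codRestrict _ fun v => hg v v.2
    have e : (fun v : V => F v) = fun v => f (j v) :=
      funext fun v => hF _ _ (isConj_iff.2 ⟨g, rfl⟩)
    rw [e]
    exact H6.isGen_comp j hf
  simpa only [fun g => hF _ _ (hr g)] using this

end Cfsg.Agent.H5.ST
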