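import Cfsg.Agent.H5.ST1

/-! Abelian Sylow subgroups with automizer of order two: the exceptional characters. -/

set_option autoImplicit false
set_option linter.unusedSectionVars false
set_option linter.unusedVariables false

namespace Cfsg.Agent.H5.ST

open Cfsg Cfsg.Agent.H7 Subgroup
open scoped ComplexConjugate

universe u

variable {G : Type u} [Group G] [Finite G] {p : ℕ} [hp : Fact p.Prime] {m k a : ℕ}

theorem PE.pow_one (E : PE p G m k a) {u : G} (hu : (orderOf u).Coprime p) : u ^ a = 1 :=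
  orderOf_dvd_iff_pow_eq_one.1 ((Nat.Coprime.dvd_of_dvd_mul_right (hu.pow_right k)
    ((orderOf_dvd_natCard u).trans E.dvd)).trans E.ha)

theorem PE.pow_mem (E : PE p G m k a) (P : Sylow p G) {x : G} (hx : x ∈ P.1) : x ^ a = x := by
  obtain ⟨j, hj⟩ := P.isPGroup' ⟨x, hx⟩
  exact E.pow_self (j := j) (congrArg Subtype.val hj)

theorem PE.burn (E : PE p G m k a) (P : Sylow p G) (hc : ∀ x ∈ P.1, ∀ y ∈ P.1, x * y = y * x)
    (H : Subgroup G) (hPH : P.1 ≤ H)
    (hN : ∀ n ∈ H, n ∈ normalizer (P.1 : Set G) → ∀ x ∈ P.1, n * x * n⁻¹ = x) :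
    ∃ K : Subgroup G, (∀ g, g ∈ K ↔ g ∈ H ∧ g ^ a = 1) ∧ Nat.card K * Nat.card P.1 = Nat.card H ∧
      (Nat.card K).Coprime p := by
  let Q : Sylow p H := P.subtype hPH
  have hQ : ∀ x : H, x ∈ Q.1 ↔ (x : G) ∈ P.1 := fun x => Iff.rfl
  have hN' : normalizer (Q.1 : Set H) ≤ centralizer (Q.1 : Set H) := fun n hn => by
    have h1 : (n : G) ∈ normalizer (P.1 : Set G) := by
      refine mem_normalizer_fintype fun x hx => ?_
      exact (hQ _).1 ((mem_normalizer_iff.1 hn ⟨x, hPH hx⟩).1 hx)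
    intro x hx
    refine Subtype.ext ?_
    have := hN n n.2 h1 x hx
    simp only [coe_mul]
    rw [mul_inv_eq_iff_eq_mul] at this
    exact this.symm
  have : IsMulCommutative Q.1 := ⟨⟨fun x y => Subtype.ext (Subtype.ext (hc _ x.2 _ y.2))⟩⟩
  have hcomp := MonoidHom.ker_transferSylow_isComplement' Q hN'
  set f := MonoidHom.transferSylow Q hN'
  have hcQ : Nat.card Q.1 = Nat.card P.1 :=
    Nat.card_congr (subgroupOfEquivOfLe hPH).toEquiv
  have hco : (Nat.card f.ker).Coprime p := by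
    rw [← hcomp.index_eq_card]
    exact ((Nat.Prime.coprime_iff_not_dvd hp.out).2 Q.not_dvd_index).symm
  have hcK : Nat.card (f.ker.map H.subtype) = Nat.card f.ker :=
    card_map_of_injective H.subtype_injective
  refine ⟨f.ker.map H.subtype, fun g => ⟨?_, fun ⟨h1, h2⟩ => ⟨⟨g, h1⟩, ?_, rfl⟩⟩, ?_, hcK ▸ hco⟩
  · intro hg
    refine ⟨map_subtype_le _ hg, E.pow_one (hco.coprime_dvd_left ?_)⟩
    rw [← hcK]
    exact orderOf_dvd_natCard _ hg
  · have h3 : (f ⟨g, h1⟩) ^ a = 1 := by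
      rw [← map_pow, show (⟨g, h1⟩ : H) ^ a = 1 from Subtype.ext h2, map_one]
    have h4 := E.pow_mem P ((hQ _).1 (f ⟨g, h1⟩).2)
    refine Subtype.ext (Subtype.ext ?_)
    rw [← h4]
    exact congrArg (fun x : Q.1 => ((x : H) : G)) h3
  · rw [hcK, ← hcQ, hcomp.card_mul_card]

/-- Abelian Sylow subgroup with automizer generated by inversion. -/
structure Hyp (P : Sylow p G) : Prop where
  odd : p ≠ 2
  comm : ∀ x ∈ P.1, ∀ y ∈ P.1, x * y = y * x
  nor : ∀ n ∈ normalizer (P.1 : Set G),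
    (∀ x ∈ P.1, n * x * n⁻¹ = x) ∨ ∀ x ∈ P.1, n * x * n⁻¹ = x⁻¹
  inv : ∃ τ : G, ∀ x ∈ P.1, τ * x * τ⁻¹ = x⁻¹

namespace Hyp

variable {P : Sylow p G} (h : Hyp P)
include h

theorem sq {x : G} (hx : x ∈ P.1) (e : x = x⁻¹) : x = 1 := by
  obtain ⟨j, hj⟩ := P.isPGroup' ⟨x, hx⟩
  have h1 : x ^ p ^ j = 1 := congrArg Subtype.val hj
  have h2 : x ^ 2 = 1 := by rw [pow_two]; nth_rewrite 1 [e]; exact inv_mul_cancel x
  have h3 : Nat.Coprime 2 (p ^ j) :=
    ((Nat.coprime_primes Nat.prime_two hp.out).2 h.odd.symm).pow_right j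
  exact orderOf_eq_one_iff.1 (Nat.eq_one_of_dvd_coprimes h3 (orderOf_dvd_of_pow_eq_one h2)
    (orderOf_dvd_of_pow_eq_one h1))

theorem fus {x : G} (hx : x ∈ P.1) (g : G) (hg : g * x * g⁻¹ ∈ P.1) :
    g * x * g⁻¹ = x ∨ g * x * g⁻¹ = x⁻¹ := by
  have : IsMulCommutative P.1 := ⟨⟨fun x y => Subtype.ext (h.comm _ x.2 _ y.2)⟩⟩
  obtain ⟨n, hn, e⟩ := P.conj_eq_normalizer_conj_of_mem x g⁻¹ hx (by rw [inv_inv]; exact hg)
  rw [inv_inv] at e
  rw [e]
  simpa only [inv_inv] using (h.nor n⁻¹ (inv_mem hn)).imp (fun h => h x hx) fun h => h x hx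

theorem fus2 (g : G) (x : G) (hx : x ∈ P.1) (y : G) (hy : y ∈ P.1) (h1 : g * x * g⁻¹ ∈ P.1)
    (h2 : g * y * g⁻¹ ∈ P.1) :
    (g * x * g⁻¹ = x ∧ g * y * g⁻¹ = y) ∨ (g * x * g⁻¹ = x⁻¹ ∧ g * y * g⁻¹ = y⁻¹) := by
  have e : g * (x * y) * g⁻¹ = (g * x * g⁻¹) * (g * y * g⁻¹) := by group
  have h3 := h.fus (P.1.mul_mem hx hy) g (e ▸ P.1.mul_mem h1 h2)
  rw [e, mul_inv_rev, h.comm _ (P.1.inv_mem hy) _ (P.1.inv_mem hx)] at h3
  rcases h.fus hx g h1 with e1 | e1 <;> rcases h.fus hy g h2 with e2 | e2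
  · exact Or.inl ⟨e1, e2⟩
  · rw [e1, e2] at h3
    rcases h3 with h3 | h3
    · exact Or.inl ⟨e1, e2.trans (mul_left_cancel h3)⟩
    · exact Or.inr ⟨e1.trans (mul_right_cancel h3), e2⟩
  · rw [e1, e2] at h3
    rcases h3 with h3 | h3
    · exact Or.inl ⟨e1.trans (mul_right_cancel h3), e2⟩
    · exact Or.inr ⟨e1, e2.trans (mul_left_cancel h3)⟩
  · exact Or.inr ⟨e1, e2⟩

theorem conj_iff {x y : P.1} : IsConj (x : G) y ↔ y = x ∨ y = x⁻¹ := by
  constructor
  · intro e
    obtain ⟨g, hg⟩ := isConj_iff.1 e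
    rcases h.fus x.2 g (hg ▸ y.2) with e | e
    · exact Or.inl (Subtype.ext (hg.symm.trans e))
    · exact Or.inr (Subtype.ext (hg.symm.trans e))
  · rintro (rfl | rfl)
    · exact IsConj.refl _
    · obtain ⟨τ, hτ⟩ := h.inv
      exact isConj_iff.2 ⟨τ, hτ x x.2⟩

theorem card_fib (E : PE p G m k a) {x : G} (hx : x ∈ P.1) (h1 : x ≠ 1) :
    Nat.card {g : G // g ^ a = x} * Nat.card P.1 = Nat.card (centralizer ({x} : Set G)) := by
  obtain ⟨K, hK, hc, -⟩ := E.burn P h.comm (centralizer ({x} : Set G))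
    (fun y hy => mem_centralizer_singleton_iff.2 (h.comm _ hy _ hx)) fun n hn hn' => by
      refine (h.nor n hn').resolve_right fun e => h1 (h.sq hx ?_)
      rw [← e x hx, mem_centralizer_singleton_iff.1 hn, mul_inv_cancel_right]
  rw [← hc]
  congr 1
  have xa := E.pow_mem P hx
  refine Nat.card_congr
    { toFun := fun g => ⟨g.1 * x⁻¹, (hK _).2 ?_⟩
      invFun := fun y => ⟨y.1 * x, ?_⟩
      left_inv := fun g => Subtype.ext (inv_mul_cancel_right _ _)
      right_inv := fun g => Subtype.ext (mul_inv_cancel_right _ _) }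
  · have c : Commute g.1 x := by
      have := (Commute.refl g.1).pow_right a
      rwa [g.2] at this
    refine ⟨mem_centralizer_singleton_iff.2 (c.mul_left (Commute.refl x).inv_left), ?_⟩
    rw [c.inv_right.mul_pow, g.2, inv_pow, xa, mul_inv_cancel]
  · obtain ⟨e1, e2⟩ := (hK _).1 y.2
    have c : Commute y.1 x := mem_centralizer_singleton_iff.1 e1
    rw [c.mul_pow, e2, xa, one_mul]

open Classical in
theorem card_sec [Fintype G] (E : PE p G m k a) {x : G} (hx : x ∈ P.1) (h1 : x ≠ 1) :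
    (∑ g : G, if IsConj (g ^ a) x then (1 : ℂ) else 0) * Nat.card P.1 = Nat.card G := by
  have e1 : ∀ g : G, (∑ t : G, if t * g ^ a * t⁻¹ = x then (1 : ℂ) else 0) =
      (if IsConj (g ^ a) x then (1 : ℂ) else 0) * Nat.card (centralizer ({x} : Set G)) := by
    intro g
    rw [Finset.sum_boole, ← Fintype.card_subtype, ← Nat.card_eq_fintype_card]
    split_ifs with e
    · have e2 : Nat.card {t : G // t * g ^ a * t⁻¹ = x} =
          Nat.card {t : G // t * x * t⁻¹ = g ^ a} :=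
        Nat.card_congr ((Equiv.inv G).subtypeEquiv fun t => by
          simp only [Equiv.inv_apply, inv_inv]
          constructor <;> intro e3
          · rw [← e3]; group
          · rw [← e3]; group)
      rw [e2, H6.card_conj_eq e.symm, one_mul]
    · have : IsEmpty {t : G // t * g ^ a * t⁻¹ = x} := ⟨fun t => e (isConj_iff.2 ⟨t.1, t.2⟩)⟩
      simp
  have e2 : ∀ t : G, (∑ g : G, if t * g ^ a * t⁻¹ = x then (1 : ℂ) else 0) =
      Nat.card {g : G // g ^ a = x} := by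
    intro t
    rw [Finset.sum_boole, ← Fintype.card_subtype, ← Nat.card_eq_fintype_card]
    congr 1
    exact Nat.card_congr ((MulAut.conj t).toEquiv.subtypeEquiv fun g => by
      simp only [MulEquiv.toEquiv_eq_coe, MulEquiv.coe_toEquiv, MulAut.conj_apply, conj_pow])
  have e3 := Finset.sum_comm (s := Finset.univ) (t := Finset.univ)
    (f := fun g t : G => if t * g ^ a * t⁻¹ = x then (1 : ℂ) else 0)
  simp only [e1, e2, ← Finset.sum_mul, Finset.sum_const, Finset.card_univ, nsmul_eq_mul,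
    ← Nat.card_eq_fintype_card] at e3
  have e4 : (Nat.card {g : G // g ^ a = x} : ℂ) * Nat.card P.1 =
      Nat.card (centralizer ({x} : Set G)) := by exact_mod_cast h.card_fib E hx h1
  refine mul_right_cancel₀ (card_ne_zero' (centralizer ({x} : Set G))) ?_
  linear_combination (Nat.card P.1 : ℂ) * e3 + (Nat.card G : ℂ) * e4

theorem avg [Fintype P.1] (E : PE p G m k a) {r : G → P.1} (hr : ∀ g, IsConj (g ^ a) (r g : G))
    {F : P.1 → ℂ} (hF : ∀ x, F x⁻¹ = F x) (h1 : F 1 = 0) :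
    ip (fun g => F (r g)) 1 = (∑ x, F x) / (2 * Nat.card P.1) := by
  classical
  have := Fintype.ofFinite G
  have e1 : ∀ g, 2 * F (r g) = ∑ x : P.1, (if IsConj (g ^ a) (x : G) then (1 : ℂ) else 0) * F x := by
    intro g
    have e : ∀ x : P.1, IsConj (g ^ a) (x : G) ↔ x ∈ ({r g, (r g)⁻¹} : Finset P.1) := fun x => by
      rw [Finset.mem_insert, Finset.mem_singleton, ← h.conj_iff]
      exact ⟨fun e => (hr g).symm.trans e, fun e => (hr g).trans e⟩
    simp only [e, ite_mul, one_mul, zero_mul, Finset.sum_ite_mem, Finset.univ_inter]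
    by_cases e0 : r g = (r g)⁻¹
    · have : r g = 1 := Subtype.ext (h.sq (r g).2 (congrArg Subtype.val e0))
      simp [this, h1]
    · rw [Finset.sum_pair e0, hF, two_mul]
  have e2 : ∀ x : P.1, (∑ g : G, if IsConj (g ^ a) (x : G) then (1 : ℂ) else 0) * F x *
      Nat.card P.1 = Nat.card G * F x := fun x => by
    by_cases e : x = 1
    · rw [e, h1]; simp
    · rw [← h.card_sec E x.2 (fun e' => e (Subtype.ext e'))]; ring
  have e3 : 2 * (∑ g, F (r g)) * Nat.card P.1 = Nat.card G * ∑ x, F x := by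
    rw [Finset.mul_sum, Finset.mul_sum]
    simp only [e1, ← e2]
    rw [Finset.sum_comm, Finset.sum_mul]
    simp only [Finset.sum_mul]
  rw [ip_def]
  simp only [Pi.one_apply, map_one, mul_one]
  have := card_ne_zero' G
  have := card_ne_zero' P.1
  field_simp
  linear_combination e3

end Hyp

end Cfsg.Agent.H5.ST
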