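import Cfsg.Agent.H5.ST2

/-! The non-exceptional character for an abelian Sylow subgroup with automizer of order two. -/

set_option autoImplicit false
set_option linter.unusedSectionVars false
set_option linter.unusedVariables false

namespace Cfsg.Agent.H5.ST

open Cfsg Cfsg.Agent.H7 Subgroup
open scoped ComplexConjugate

universe u

theorem conj_lin {H : Type*} [Group H] [Finite H] (l : H →* ℂˣ) (x : H) :
    conj (l x : ℂ) = ((l x : ℂ))⁻¹ := by
  rw [← char_inv (char_of_hom l) x, map_inv, Units.val_inv_eq_inv_val]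

theorem sum_lin {H : Type*} [Group H] [Fintype H] {l : H →* ℂˣ} (h : l ≠ 1) :
    ∑ x, (l x : ℂ) = 0 :=
  sum_hom_units_eq_zero ((Units.coeHom ℂ).comp l) fun e => h (MonoidHom.ext fun x =>
    Units.ext (DFunLike.congr_fun e x))

theorem exists_lin {H : Type*} [Group H] [Finite H] (hc : ∀ x y : H, x * y = y * x) {x : H}
    (hx : x ≠ 1) : ∃ l : H →* ℂˣ, l x ≠ 1 := by
  let _ : CommGroup H := { (inferInstance : Group H) with mul_comm := hc }
  have : NeZero ((Monoid.exponent H : ℕ) : ℂ) := ⟨Nat.cast_ne_zero.2 Monoid.exponent_ne_zero_of_finite⟩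
  exact CommGroup.exists_apply_ne_one_of_hasEnoughRootsOfUnity H ℂ hx

theorem lin_eq_inv {H : Type*} [Group H] {l n : H →* ℂˣ} (h : l * n = 1) : l = n⁻¹ :=
  MonoidHom.ext fun x => eq_inv_of_mul_eq_one_left (DFunLike.congr_fun h x)

theorem lin_eq_of {H : Type*} [Group H] {l n : H →* ℂˣ} (h : l * n⁻¹ = 1) : l = n :=
  MonoidHom.ext fun x => mul_inv_eq_one.1 (DFunLike.congr_fun h x)

theorem lin_mul_inv {H : Type*} [Group H] (l : H →* ℂˣ) : l * l⁻¹ = 1 :=
  MonoidHom.ext fun x => mul_inv_cancel (l x)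

theorem lin_inv_ne {H : Type*} [Group H] {l : H →* ℂˣ} (h : l ≠ 1) : l⁻¹ ≠ 1 := fun e =>
  h (MonoidHom.ext fun x => inv_eq_one.1 (DFunLike.congr_fun e x))

variable {G : Type u} [Group G] [Finite G]

theorem ip_int_symm {φ ψ : G → ℂ} {n : ℤ} (h : ip φ ψ = n) : ip ψ φ = n := by
  rw [← ip_conj_symm, h, map_intCast]

theorem bessel_int {ι : Type} [Fintype ι] [DecidableEq ι] (e : ι → G → ℂ)
    (he : ∀ i j, ip (e i) (e j) = if i = j then 1 else 0) (θ : G → ℂ) (c : ι → ℤ)
    (hc : ∀ i, ip θ (e i) = c i) {n : ℤ} (hn : ip θ θ = n) : ∑ i, c i ^ 2 ≤ n := by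
  have := bessel e he θ (fun i => c i) (fun i => by rw [hc]; simp)
  rw [hn, Complex.intCast_re] at this
  exact_mod_cast this

/-- Four vectors of norm two with pairwise inner product one have a common constituent. -/
theorem exists_common (θ : Fin 4 → G → ℂ) (hg : ∀ i, IsGeneralizedCharacter G (θ i))
    (h0 : ∀ i, θ i 1 = 0) (h1 : ∀ i, ip (θ i) 1 = 1)
    (h2 : ∀ i j, ip (θ i) (θ j) = if i = j then 3 else 2) :
    ∃ e : Option (Fin 4) → G → ℂ, (∀ i, IsGeneralizedCharacter G (e i)) ∧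
      (∀ i j, ip (e i) (e j) = if i = j then 1 else 0) ∧ (∀ i, ip (e i) 1 = 0) ∧
      ∀ i, θ i = 1 + e none - e (some i) := by
  classical
  have := Fintype.ofFinite G
  obtain ⟨ε, hε, μ, hμ, hinj, hτ⟩ := H6.exists_exceptional (0 : Fin 4) (fun i => θ i - θ 0)
    (sub_self _) (fun i => H6.isGen_sub (hg i) (hg 0)) (fun i => by simp [h0])
    (fun i hi => by
      rw [← ip_eq_classInner]
      simp only [ip_sub_left, ip_sub_right, h2, hi, hi.symm, if_true, if_false]; norm_num)
    (fun i j hi hj hij => by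
      rw [← ip_eq_classInner]
      simp only [ip_sub_left, ip_sub_right, h2, hi, hj.symm, hij, if_true, if_false]; norm_num)
  let ξ : Fin 4 → G → ℂ := fun i => -(ε • μ i)
  have hξg : ∀ i, IsGeneralizedCharacter G (ξ i) := fun i => by
    rcases hε with rfl | rfl
    · simpa [ξ] using H6.isGen_neg (H6.isGen_of_irr (hμ i))
    · simpa [ξ] using H6.isGen_of_irr (hμ i)
  have hξ : ∀ i j, ip (ξ i) (ξ j) = if i = j then 1 else 0 := fun i j => by
    simp only [ξ, ip_neg_left, ip_neg_right, ip_smul_left, ip_smul_right, neg_neg]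
    by_cases e : i = j
    · rw [e, ip_irr_self (hμ j)]; rcases hε with rfl | rfl <;> simp
    · rw [ip_irr_ne (hμ i) (hμ j) (hinj.ne e)]; simp [e]
  have hd : ∀ i, θ i = θ 0 + ξ 0 - ξ i := fun i => by
    have := hτ i
    simp only [smul_sub] at this
    simp only [ξ]
    linear_combination this
  choose b hb using fun i => ip_gen_int (hξg i) H6.isGen_one
  choose c hc using fun i => ip_gen_int (hg 0) (hξg i)
  have hb' : ∀ i, ip (ξ i) 1 = b i := hb
  have b0 : ∀ i, b i = b 0 := fun i => by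
    have := h1 i
    rw [hd i, ip_sub_left, ip_add_left, h1, hb', hb'] at this
    have e : (b i : ℂ) = b 0 := by linear_combination -this
    exact_mod_cast e
  have b1 := bessel_int ξ hξ 1 b (fun i => ip_int_symm (hb' i)) (n := 1) (by simp [ip_one_one])
  simp only [Fin.sum_univ_four, b0 1, b0 2, b0 3] at b1
  have b2 : ∀ i, ip (ξ i) 1 = 0 := fun i => by
    rw [hb', b0, show b 0 = 0 by nlinarith, Int.cast_zero]
  have b3 : ∀ i, ip 1 (ξ i) = 0 := fun i => ip_eq_zero_comm.1 (b2 i)
  have c0 : ∀ i, i ≠ 0 → c i = c 0 + 1 := fun i hi => by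
    have := h2 0 i
    rw [hd i, ip_sub_right, ip_add_right, h2, hc, hc, if_pos rfl, if_neg hi.symm] at this
    have e : (c i : ℂ) = c 0 + 1 := by linear_combination -this
    exact_mod_cast e
  have h1' : ∀ i, ip 1 (θ i) = 1 := fun i => by
    rw [← ip_conj_symm, h1, map_one]
  have c1 := bessel_int ξ hξ (θ 0 - 1) c (fun i => by rw [ip_sub_left, hc, b3, sub_zero]) (n := 2)
    (by simp only [ip_sub_left, ip_sub_right, h2, h1, h1', ip_one_one, if_true]; norm_num)
  simp only [Fin.sum_univ_four, c0 1 (by decide), c0 2 (by decide), c0 3 (by decide)] at c1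
  have c2 : c 0 = -1 := by nlinarith
  have c3 : ∀ i, ip (θ 0) (ξ i) = if 0 = i then -1 else 0 := fun i => by
    rw [hc]
    split_ifs with e
    · rw [← e, c2]; simp
    · rw [c0 i (Ne.symm e), c2]; simp
  have c4 : ∀ i, ip (ξ i) (θ 0) = if 0 = i then -1 else 0 := fun i => by
    rw [← ip_conj_symm, c3]; split_ifs <;> simp
  refine ⟨fun o => o.elim (θ 0 - 1 + ξ 0) ξ, ?_, ?_, ?_, fun i => ?_⟩
  · rintro (_ | i)
    · exact H6.isGen_add (H6.isGen_sub (hg 0) H6.isGen_one) (hξg 0)
    · exact hξg i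
  · rintro (_ | i) (_ | j)
    · simp only [Option.elim, ip_sub_left, ip_sub_right, ip_add_left, ip_add_right, h2, h1, h1',
        ip_one_one, if_true, c3, c4, b2, b3, hξ]
      norm_num
    · simp only [Option.elim, ip_sub_left, ip_add_left, c3, b3, hξ, reduceCtorEq, if_false]
      split_ifs <;> norm_num
    · simp only [Option.elim, ip_sub_right, ip_add_right, c4, b2, hξ, eq_comm (a := i),
        reduceCtorEq, if_false]
      split_ifs <;> norm_num
    · simp only [Option.elim, hξ, Option.some.injEq]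
  · rintro (_ | i)
    · simp only [Option.elim, ip_sub_left, ip_add_left, h1, ip_one_one, b2]; simp
    · exact b2 i
  · simp only [Option.elim]
    rw [hd i]; abel

variable {p : ℕ} [hp : Fact p.Prime] {m k a : ℕ} {P : Sylow p G}

/-- The basic virtual characters. -/
noncomputable def th (r : G → P.1) (l : P.1 →* ℂˣ) : G → ℂ :=
  fun g => 2 - (l (r g) : ℂ) - ((l (r g) : ℂ))⁻¹

variable {r : G → P.1}

theorem th_one : th r 1 = 0 := by
  ext g; simp only [th, MonoidHom.one_apply, Units.val_one, Pi.zero_apply]; norm_num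

theorem th_inv (l : P.1 →* ℂˣ) : th r l⁻¹ = th r l := by
  ext g; simp only [th, MonoidHom.inv_apply, Units.val_inv_eq_inv_val, inv_inv]; ring

theorem th_star (l : P.1 →* ℂˣ) : star (th r l) = th r l := by
  ext g
  simp only [th, Pi.star_apply, RCLike.star_def, map_sub, map_inv₀, conj_lin, inv_inv, map_ofNat]
  ring

theorem th_mul (l n : P.1 →* ℂˣ) : th r l * th r n =
    th r l + th r l + th r n + th r n - th r (l * n) - th r (l * n⁻¹) := by
  ext g
  simp only [th, Pi.mul_apply, Pi.add_apply, Pi.sub_apply, MonoidHom.mul_apply,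
    MonoidHom.inv_apply, Units.val_mul, Units.val_inv_eq_inv_val, mul_inv, inv_inv]
  ring

theorem th_real (l : P.1 →* ℂˣ) (g : G) : ∃ t : ℝ, 0 ≤ t ∧ t ≤ 4 ∧ th r l g = t ∧
    (t = 0 → l (r g) = 1) := by
  have h1 : ‖(l (r g) : ℂ)‖ = 1 := by
    have := Complex.mul_conj (l (r g) : ℂ)
    rw [conj_lin, mul_inv_cancel₀ (Units.ne_zero _), Complex.normSq_eq_norm_sq] at this
    have h : ‖(l (r g) : ℂ)‖ ^ 2 = 1 := by exact_mod_cast this.symm
    nlinarith [norm_nonneg (l (r g) : ℂ)]
  have h2 := norm_sub_le 1 (l (r g) : ℂ)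
  rw [h1, norm_one] at h2
  refine ⟨‖1 - (l (r g) : ℂ)‖ ^ 2, by positivity, by nlinarith [norm_nonneg (1 - (l (r g) : ℂ))],
    ?_, fun e => ?_⟩
  · rw [← Complex.normSq_eq_norm_sq, ← Complex.mul_conj, map_sub, map_one, conj_lin, th]
    have := Units.ne_zero (l (r g))
    field_simp
    ring
  · rw [pow_eq_zero_iff two_ne_zero, norm_eq_zero, sub_eq_zero] at e
    exact Units.ext e.symm

namespace Hyp

variable (h : Hyp P) (E : PE p G m k a) (hr : ∀ g, IsConj (g ^ a) (r g : G))
include h E hr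

theorem star_sym {F : P.1 → ℂ} (hg : IsGeneralizedCharacter P.1 F) (hF : ∀ x, F x⁻¹ = F x) :
    IsGeneralizedCharacter G fun g => F (r g) :=
  E.star P hr hg fun x y e => by
    rcases h.conj_iff.1 e with rfl | rfl
    · rfl
    · exact (hF x).symm

theorem th_gen (l : P.1 →* ℂˣ) : IsGeneralizedCharacter G (th r l) := by
  refine h.star_sym E hr (F := fun x => 2 - (l x : ℂ) - ((l x : ℂ))⁻¹) ?_ fun x => ?_
  · convert H6.isGen_sub (H6.isGen_sub (H6.isGen_add H6.isGen_one H6.isGen_one)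
      (H6.isGen_of_isCharacter (char_of_hom l))) (H6.isGen_of_isCharacter (char_of_hom l⁻¹)) using 1
    ext x
    simp only [Pi.sub_apply, Pi.add_apply, MonoidHom.inv_apply, Units.val_inv_eq_inv_val]
    ring
  · simp only [map_inv, Units.val_inv_eq_inv_val, inv_inv]; ring

theorem th_avg {l : P.1 →* ℂˣ} (hl : l ≠ 1) : ip (th r l) 1 = 1 := by
  have := Fintype.ofFinite P.1
  refine (h.avg E hr (F := fun x => 2 - (l x : ℂ) - ((l x : ℂ))⁻¹) (fun x => ?_) ?_).trans ?_
  · simp only [map_inv, Units.val_inv_eq_inv_val, inv_inv]; ring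
  · simp only [map_one, Units.val_one]; norm_num
  · have h1 := sum_lin (lin_inv_ne hl)
    simp only [MonoidHom.inv_apply, Units.val_inv_eq_inv_val] at h1
    simp only [Finset.sum_sub_distrib, sum_lin hl, h1, Finset.sum_const, Finset.card_univ,
      nsmul_eq_mul, ← Nat.card_eq_fintype_card]
    have := card_ne_zero' P.1
    field_simp
    ring

omit E hr in
theorem lin_sq {l : P.1 →* ℂˣ} (hl : l * l = 1) : l = 1 := by
  ext x
  obtain ⟨j, hj⟩ := P.isPGroup' x
  have h1 : l x ^ p ^ j = 1 := by rw [← map_pow, hj, map_one]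
  have h2 : l x ^ 2 = 1 := by rw [pow_two]; exact DFunLike.congr_fun hl x
  have h3 : Nat.Coprime 2 (p ^ j) :=
    ((Nat.coprime_primes Nat.prime_two hp.out).2 h.odd.symm).pow_right j
  rw [orderOf_eq_one_iff.1 (Nat.eq_one_of_dvd_coprimes h3 (orderOf_dvd_of_pow_eq_one h2)
    (orderOf_dvd_of_pow_eq_one h1))]
  rfl

open Classical in
theorem th_ip {l n : P.1 →* ℂˣ} (hl : l ≠ 1) (hn : n ≠ 1) (h1 : l * n ≠ 1) :
    ip (th r l) (th r n) = if l = n then 3 else 2 := by
  rw [← ip_one_right_eq, th_star, th_mul]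
  simp only [ip_sub_left, ip_add_left, h.th_avg E hr hl, h.th_avg E hr hn, h.th_avg E hr h1]
  split_ifs with e
  · rw [e, lin_mul_inv, th_one, ip_zero_left]; norm_num
  · rw [h.th_avg E hr (fun e' => e (lin_eq_of e'))]; norm_num

theorem exists_s (l : Fin 4 → P.1 →* ℂˣ) (h1 : ∀ i j, l i * l j ≠ 1) (h2 : Function.Injective l) :
    ∃ s : G → ℂ, IsGeneralizedCharacter G s ∧ ip s s = 1 ∧ ip s 1 = 0 ∧
      ∀ g, g ^ a ≠ 1 → s g = 1 := by
  classical
  have := Fintype.ofFinite G
  have l1 : ∀ i, l i ≠ 1 := fun i e => h1 i i (by rw [e]; ext x; simp)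
  have r1 : r 1 = 1 := by simpa using (hr 1).symm
  obtain ⟨e, eg, eo, e1, eθ⟩ := exists_common (fun i => th r (l i)) (fun i => h.th_gen E hr _)
    (fun i => by simp only [th, r1, map_one, Units.val_one]; norm_num)
    (fun i => h.th_avg E hr (l1 i)) (fun i j => by
      rw [h.th_ip E hr (l1 i) (l1 j) (h1 i j)]; simp only [h2.eq_iff])
  have e1' : ∀ i, ip 1 (e i) = 0 := fun i => ip_eq_zero_comm.1 (e1 i)
  have eθ' : ∀ i, e (some i) = 1 + e none - th r (l i) := fun i => by
    rw [show th r (l i) = _ from eθ i]; abel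
  have key : ∀ n : P.1 →* ℂˣ, n ≠ 1 → ip (th r n) (e none) = 1 := fun n hn => by
    have k1 : ∀ i, ip (th r (l i)) (e none) = 1 := fun i => by
      rw [show th r (l i) = _ from eθ i]
      simp [ip_sub_left, ip_add_left, e1', eo]
    by_cases c1 : ∃ i, n = l i
    · obtain ⟨i, rfl⟩ := c1; exact k1 i
    by_cases c2 : ∃ i, n * l i = 1
    · obtain ⟨i, c2⟩ := c2
      rw [lin_eq_inv c2, th_inv]; exact k1 i
    push Not at c1 c2
    obtain ⟨b, hb⟩ := ip_gen_int (h.th_gen E hr n) (eg none)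
    have := bessel_int e eo (th r n - 1) (fun o => o.elim b fun _ => b - 1) (by
      rintro (_ | i)
      · rw [ip_sub_left, e1', hb, sub_zero]; rfl
      · rw [ip_sub_left, e1', eθ', ip_sub_right, ip_add_right, hb, h.th_avg E hr hn,
          h.th_ip E hr hn (l1 i) (c2 i), if_neg (c1 i)]
        simp only [Option.elim]; push_cast; ring) (n := 2) (by
      have : ip 1 (th r n) = 1 := by rw [← ip_conj_symm, h.th_avg E hr hn, map_one]
      simp only [ip_sub_left, ip_sub_right, h.th_avg E hr hn, this, ip_one_one,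
        h.th_ip E hr hn hn (fun e => hn (h.lin_sq e)), if_true]
      norm_num)
    simp only [Fintype.sum_option, Option.elim, Finset.sum_const, Finset.card_univ,
      Fintype.card_fin, nsmul_eq_mul] at this
    rw [hb, show b = 1 by push_cast at this; nlinarith, Int.cast_one]
  set v : G → ℂ := 1 - e none with hv
  have vg : IsGeneralizedCharacter G v := H6.isGen_sub H6.isGen_one (eg none)
  have v0 : ∀ n : P.1 →* ℂˣ, ip v (th r n) = 0 := fun n => by
    by_cases hn : n = 1
    · rw [hn, th_one, ip_zero_right]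
    · rw [ip_eq_zero_comm, ip_sub_right, key n hn, h.th_avg E hr hn, sub_self]
  refine ⟨e none, eg none, by simpa using eo none none, e1 none, fun g hg => ?_⟩
  have rg : r g ≠ 1 := fun e => hg (by simpa [e] using hr g)
  obtain ⟨n, hn⟩ := exists_lin (fun x y : P.1 => Subtype.ext (h.comm _ x.2 _ y.2)) rg
  obtain ⟨N, hN⟩ := ip_gen_int (H6.isGen_mul vg (h.th_gen E hr n)) vg
  have w1 : ip (v * th r n) 1 = 0 := by rw [ip_mul_right, th_star, one_mul, v0]
  have w2 : ip (v * th r n) (e none) = -N := by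
    rw [show e none = 1 - v by rw [hv]; abel, ip_sub_right, w1, hN, zero_sub]
  have w3 := bessel e eo (v * th r n) (fun _ => -N) (by
    rintro (_ | i)
    · rw [w2]; simp
    · rw [eθ', ip_sub_right, ip_add_right, w1, w2, ip_mul_right, th_star, th_mul]
      simp [ip_sub_right, ip_add_right, v0])
  choose t t0 t4 ht ht' using th_real (r := r) n
  have w4 : (N : ℝ) = (Nat.card G : ℝ)⁻¹ * ∑ x, t x * ‖v x‖ ^ 2 := by
    rw [ip_def] at hN
    refine Complex.ofReal_injective ?_
    push_cast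
    rw [← hN]
    congr 1
    refine Finset.sum_congr rfl fun x _ => ?_
    rw [Pi.mul_apply, ht, mul_comm (v x), mul_assoc, Complex.mul_conj, Complex.normSq_eq_norm_sq]
    push_cast; ring
  have w5 : (ip (v * th r n) (v * th r n)).re ≤ 4 * N := by
    rw [ip_self_eq_ofReal, Complex.ofReal_re, w4, ← mul_assoc, mul_comm 4, mul_assoc,
      Finset.mul_sum _ _ (4 : ℝ)]
    refine mul_le_mul_of_nonneg_left (Finset.sum_le_sum fun x _ => ?_)
      (inv_nonneg.2 (Nat.cast_nonneg _))
    rw [Pi.mul_apply, ht, norm_mul, Complex.norm_real, Real.norm_of_nonneg (t0 x), mul_pow]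
    have := mul_nonneg (mul_nonneg (t0 x) (sq_nonneg ‖v x‖)) (sub_nonneg.2 (t4 x))
    nlinarith
  simp only [Finset.sum_const, Finset.card_univ, Fintype.card_option, Fintype.card_fin,
    nsmul_eq_mul] at w3
  have w6 : N = 0 := by
    have : (5 : ℤ) * N ^ 2 ≤ 4 * N := by
      have : (5 : ℝ) * N ^ 2 ≤ 4 * N := by push_cast at w3; nlinarith
      exact_mod_cast this
    nlinarith
  rw [w6, Int.cast_zero, eq_comm, mul_eq_zero] at w4
  have w7 := (Finset.sum_eq_zero_iff_of_nonneg fun x _ => mul_nonneg (t0 x) (sq_nonneg ‖v x‖)).1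
    (w4.resolve_left (inv_ne_zero (Nat.cast_ne_zero.2 Nat.card_pos.ne'))) g (Finset.mem_univ g)
  have w8 := (mul_eq_zero.1 w7).resolve_left fun e => hn (ht' g e)
  rw [pow_eq_zero_iff two_ne_zero, norm_eq_zero] at w8
  exact (sub_eq_zero.1 w8).symm

end Hyp

end Cfsg.Agent.H5.ST
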