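import Cfsg.Agent.H22.S3A

/-! Tutte–Sims sequences of involutions. -/

set_option autoImplicit false
set_option linter.unusedSectionVars false

namespace Cfsg.Agent.H5f

open Cfsg Subgroup Cfsg.Agent.FT Cfsg.Agent.P22
open scoped commutatorElement

variable {G : Type*} [Group G] [Finite G] {A B T : Subgroup G} {x : ℤ → G} {s : ℕ} {a b c i j l : ℤ} {u : G}

/-- the subgroup generated by the `x i`, `a ≤ i < b` -/
def U (x : ℤ → G) (a b : ℤ) : Subgroup G := closure (x '' Set.Ico a b)

theorem mem_U (h1 : a ≤ i) (h2 : i < b) : x i ∈ U x a b := subset_closure ⟨i, ⟨h1, h2⟩, rfl⟩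

theorem U_le : U x a b ≤ A ↔ ∀ i, a ≤ i → i < b → x i ∈ A := by
  rw [U, closure_le]
  exact ⟨fun h i h1 h2 => h ⟨i, ⟨h1, h2⟩, rfl⟩, by rintro h _ ⟨i, ⟨h1, h2⟩, rfl⟩; exact h i h1 h2⟩

theorem U_mono {a' b' : ℤ} (h1 : a' ≤ a) (h2 : b ≤ b') : U x a b ≤ U x a' b' :=
  U_le.2 fun _ k1 k2 => mem_U (h1.trans k1) (k2.trans_le h2)

theorem U_bot (h : b ≤ a) : U x a b = ⊥ := le_bot_iff.1 (U_le.2 fun _ k1 k2 => by omega)

theorem U_sup {a' b' : ℤ} (h1 : a ≤ a') (h2 : a' ≤ b) (h3 : b ≤ b') : U x a b ⊔ U x a' b' = U x a b' :=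
  le_antisymm (sup_le (U_mono le_rfl h3) (U_mono h1 le_rfl)) (U_le.2 fun i k1 k2 => by
    by_cases h : i < b
    exacts [mem_sup_left (mem_U k1 h), mem_sup_right (mem_U (by omega) k2)])

theorem U_rev (x : ℤ → G) (c a b : ℤ) : U (fun i => x (c - i)) a b = U x (c - b + 1) (c - a + 1) :=
  le_antisymm (U_le.2 fun _ k1 k2 => mem_U (by omega) (by omega)) (U_le.2 fun i k1 k2 => by
    have := mem_U (x := fun i => x (c - i)) (i := c - i) (a := a) (b := b) (by omega) (by omega)
    simpa using this)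

theorem U_cen {a' b' : ℤ} (h : ∀ i j, a ≤ i → i < b → a' ≤ j → j < b' → Commute (x i) (x j)) :
    U x a b ≤ C(U x a' b') :=
  U_le.2 fun i k1 k2 => le_cen1.1 (U_le.2 fun j k3 k4 => mem_cen1.2 (h i j k1 k2 k3 k4).eq.symm)

theorem nrm_two (h : A.relIndex T = 2) (hle : A ≤ T) : T ≤ N(A) :=
  ((nml_iff_normal hle).2 (normal_of_index_eq_two h)).nrm

/-- a Sims sequence -/
structure Sims (x : ℤ → G) (s : ℕ) : Prop where
  sq : ∀ i, x i * x i = 1
  card : ∀ (a : ℤ) (m : ℕ), m ≤ s → #(U x a (a + m)) = 2 ^ m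
  sh : ∀ i j k, Commute (x i) (x j) → Commute (x (i + k)) (x (j + k))

namespace Sims

theorem rev (h : Sims x s) (c : ℤ) : Sims (fun i => x (c - i)) s where
  sq i := h.sq _
  card a m hm := by
    rw [U_rev, show c - a + 1 = (c - (a + m) + 1) + m by ring]; exact h.card _ m hm
  sh i j k e := by
    have := h.sh _ _ (-k) e
    rwa [show c - i + -k = c - (i + k) by ring, show c - j + -k = c - (j + k) by ring] at this

theorem inv (h : Sims x s) (i : ℤ) : (x i)⁻¹ = x i := inv_eq_of_mul_eq_one_right (h.sq i)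

theorem card' (h : Sims x s) (m : ℕ) (hm : m ≤ s) (e : b = a + m) : #(U x a b) = 2 ^ m := e ▸ h.card a m hm

theorem idxL (h : Sims x s) (h1 : a < b) (h2 : b - a ≤ s) : (U x (a + 1) b).relIndex (U x a b) = 2 := by
  obtain ⟨m, hm⟩ : ∃ m : ℕ, b = a + 1 + m := ⟨(b - a - 1).toNat, by omega⟩
  have := card_mul_relIndex (U_mono (x := x) (a := a + 1) (a' := a) (b := b) (by omega) le_rfl)
  rw [h.card' m (by omega) hm, h.card' (m + 1) (by omega) (by push_cast; omega), pow_succ] at this
  exact Nat.eq_of_mul_eq_mul_left (by positivity) this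

theorem idxR (h : Sims x s) (h1 : a ≤ b) (h2 : b - a < s) : (U x a b).relIndex (U x a (b + 1)) = 2 := by
  have := (h.rev 0).idxL (a := -b) (b := -a + 1) (by omega) (by omega)
  rwa [U_rev, U_rev, show 0 - (-a + 1) + 1 = a by ring, show 0 - (-b + 1) + 1 = b by ring,
    show 0 - -b + 1 = b + 1 by ring] at this

theorem notL (h : Sims x s) (h1 : a < b) (h2 : b - a ≤ s) : x a ∉ U x (a + 1) b := fun e => by
  have := h.idxL h1 h2
  rw [relIndex_eq_one.2 (U_le.2 fun i k1 k2 => by
    rcases k1.eq_or_lt with rfl | k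
    exacts [e, mem_U (by omega) k2])] at this
  omega

theorem ne_one (h : Sims x s) (hs : 1 ≤ s) (i : ℤ) : x i ≠ 1 := fun e =>
  h.notL (a := i) (b := i + 1) (by omega) (by omega) (e ▸ one_mem _)

theorem caseL (h : Sims x s) (h1 : a < b) (h2 : b - a ≤ s) (hu : u ∈ U x a b) :
    u ∈ U x (a + 1) b ∨ u * x a ∈ U x (a + 1) b := by
  by_cases e : u ∈ U x (a + 1) b
  exacts [.inl e, .inr (mul_mem_two (h.idxL h1 h2) hu (mem_U le_rfl h1) e (h.notL h1 h2))]

theorem infL (h : Sims x s) (h1 : a < b) (h2 : b ≤ c) (h3 : c - a ≤ s) (hu : u ∈ U x a b) (hu' : u ∈ U x (a + 1) c) :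
    u ∈ U x (a + 1) b :=
  (h.caseL h1 (by omega) hu).resolve_right fun e => h.notL (h1.trans_le h2) h3
    ((mul_mem_cancel_left hu').1 (U_mono le_rfl h2 e))

theorem disj (h : Sims x s) (h1 : a ≤ b) (h2 : b ≤ c) (h3 : c - a ≤ s) (hu : u ∈ U x a b) (hu' : u ∈ U x b c) :
    u = 1 := by
  have key : ∀ k : ℕ, a + k ≤ b → u ∈ U x (a + k) b := fun k => by
    induction k with
    | zero => intro _; simpa using hu
    | succ k ih =>
      intro hk
      push_cast at hk ⊢
      rw [← add_assoc]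
      exact h.infL (by omega) h2 (by omega) (ih (by omega)) (U_mono (by omega) le_rfl hu')
  have := key (b - a).toNat (by omega)
  rwa [U_bot (by omega), mem_bot] at this

theorem nrmL (h : Sims x s) (h1 : a < b) (h2 : b - a ≤ s) : U x a b ≤ N(U x (a + 1) b) :=
  nrm_two (h.idxL h1 h2) (U_mono (by omega) le_rfl)

theorem nrmR (h : Sims x s) (h1 : a ≤ b) (h2 : b - a < s) : U x a (b + 1) ≤ N(U x a b) :=
  nrm_two (h.idxR h1 h2) (U_mono le_rfl (by omega))

theorem comm_mem (h : Sims x s) (h1 : a < b) (h2 : b - a < s) : ⁅x a, x b⁆ ∈ U x (a + 1) b := by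
  refine h.infL h1 (c := b + 1) (by omega) (by omega) ?_ ?_
  · rw [commutatorElement_def, mul_assoc, mul_assoc, ← mul_assoc (x b)]
    exact mul_mem (mem_U le_rfl h1) (conj_mem (h.nrmR h1.le h2 (mem_U h1.le (by omega))) (inv_mem (mem_U le_rfl h1)))
  · rw [commutatorElement_def]
    exact mul_mem (conj_mem (h.nrmL (b := b + 1) (by omega) (by omega) (mem_U le_rfl (by omega)))
      (mem_U (by omega) (by omega))) (inv_mem (mem_U (by omega) (by omega)))

end Sims

/-- `l` is the first distance at which the involutions fail to commute -/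
structure Lam (x : ℤ → G) (l : ℤ) : Prop where
  comm : ∀ i j, i - j < l → j - i < l → Commute (x i) (x j)
  not : ∀ i, ¬ Commute (x i) (x (i + l))

theorem Lam.rev (h : Lam x l) (c : ℤ) : Lam (fun i => x (c - i)) l where
  comm i j h1 h2 := h.comm _ _ (by omega) (by omega)
  not i e := h.not (c - (i + l)) (by
    rw [show c - (i + l) + l = c - i by ring]; exact e.symm)

theorem Lam.pos (h : Lam x l) (h0 : 0 ≤ l) : 0 < l := by
  rcases h0.eq_or_lt with e | e
  · subst e; exact absurd (by simp) (h.not 0)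
  · exact e

theorem Lam.cen (h : Lam x l) {a' b' : ℤ} (h1 : b - a' ≤ l) (h2 : b' - a ≤ l) : U x a b ≤ C(U x a' b') :=
  U_cen fun i j _ _ _ _ => h.comm i j (by omega) (by omega)

theorem Lam.cen1 (h : Lam x l) (h1 : b - i ≤ l) (h2 : i - a < l) (hu : u ∈ U x a b) : Commute u (x i) :=
  (mem_cen.1 (h.cen (a' := i) (b' := i + 1) h1 (by omega) hu) _ (mem_U le_rfl (by omega))).symm

theorem exists_lam (h : Sims x s) (hn : ¬ ∀ i j, Commute (x i) (x j)) : ∃ l : ℕ, Lam x l := by
  classical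
  have key : ∀ (k : ℕ) (i j : ℤ), Commute (x 0) (x k) → j - i = k → Commute (x i) (x j) := fun k i j e hk => by
    have := h.sh _ _ i e
    rwa [zero_add, show (k : ℤ) + i = j by omega] at this
  have ex : ∃ k : ℕ, ¬ Commute (x 0) (x k) := by
    by_contra! e
    refine hn fun i j => ?_
    rcases le_total i j with t | t
    exacts [key (j - i).toNat i j (e _) (by omega), (key (i - j).toNat j i (e _) (by omega)).symm]
  refine ⟨Nat.find ex, fun i j h1 h2 => ?_, fun i e => Nat.find_spec ex ?_⟩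
  · rcases le_total i j with t | t
    · exact key (j - i).toNat i j (not_not.1 (Nat.find_min ex (by omega))) (by omega)
    · exact (key (i - j).toNat j i (not_not.1 (Nat.find_min ex (by omega))) (by omega)).symm
  · have := h.sh _ _ (-i) e
    rwa [add_neg_cancel, show i + Nat.find ex + -i = Nat.find ex by ring] at this

theorem U_abelem (h : Sims x s) (hc : U x a b ≤ C(U x a b)) : Abelem 2 (U x a b) := by
  refine abelem_iff.2 ⟨ab_iff.2 hc, fun u hu => ?_⟩
  rw [pow_two]
  induction hu using closure_induction with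
  | mem u hu => obtain ⟨i, -, rfl⟩ := hu; exact h.sq i
  | one => simp
  | mul u v hu hv iu iv =>
    have := mem_cen.1 (hc hu) v hv
    rw [mul_assoc, ← mul_assoc v, this, mul_assoc, iv, mul_one, iu]
  | inv u hu iu => rw [← mul_inv_rev, iu, inv_one]

theorem step (h : Sims x s) (hl : Lam x l) (h1 : 1 ≤ j) (h2 : j < l) (h3 : j + l < s) (hc : ⁅x 0, x l⁆ ∈ U x j l) :
    ⁅x 0, x l⁆ ∈ U x (j + 1) l := by
  refine (h.caseL h2 (by omega) hc).resolve_right fun e => hl.not j ?_
  have hw : ⁅x 0, x (j + l)⁆ ∈ U x (0 + 1) (j + l) := h.comm_mem (by omega) (by omega)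
  set w := ⁅x 0, x (j + l)⁆
  set c := ⁅x 0, x l⁆ with hcd
  have w1 : Commute w (x l) := hl.cen1 (by omega) (by omega) hw
  have w2 : w * c = c * w := mem_cen.1 (hl.cen (by omega) (by omega) hc) w hw
  have m1 : Commute (x (j + l)) (x l) := hl.comm _ _ (by omega) (by omega)
  have e1 : x (j + l) * x 0 * (x (j + l))⁻¹ = w⁻¹ * x 0 := by simp only [w, commutatorElement_def]; group
  have e2 : x (j + l) * c * (x (j + l))⁻¹ = c := by
    have : x (j + l) * c * (x (j + l))⁻¹ =
        ⁅x (j + l) * x 0 * (x (j + l))⁻¹, x (j + l) * x l * (x (j + l))⁻¹⁆ := by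
      simp only [hcd, commutatorElement_def]; group
    rw [this, e1, m1.eq, mul_inv_cancel_right]
    calc ⁅w⁻¹ * x 0, x l⁆ = w⁻¹ * (c * (x l * w * (x l)⁻¹)) := by simp only [hcd, commutatorElement_def]; group
      _ = c := by rw [← w1.eq, mul_inv_cancel_right, ← w2, inv_mul_cancel_left]
  have e3 : Commute c (x (j + l)) := (mul_inv_eq_iff_eq_mul.1 e2).symm
  have e4 : Commute (c * x j) (x (j + l)) := hl.cen1 (by omega) (by omega) e
  simpa using e3.inv_left.mul_left e4

theorem comm_mem_hi (h : Sims x s) (hl : Lam x l) (h0 : 0 < l) (h1 : l < s) (h2 : s - l ≤ l) :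
    ⁅x 0, x l⁆ ∈ U x (s - l) l := by
  have key : ∀ k : ℕ, 1 + k ≤ s - l → ⁅x 0, x l⁆ ∈ U x (1 + k) l := fun k => by
    induction k with
    | zero => intro _; simpa using h.comm_mem h0 (by omega)
    | succ k ih =>
      intro hk
      push_cast at hk ⊢
      rw [← add_assoc]
      exact step h hl (by omega) (by omega) (by omega) (ih (by omega))
  have := key (s - l - 1).toNat (by omega)
  rwa [show 1 + ((s - l - 1).toNat : ℤ) = s - l by omega] at this

theorem lam_lower (h : Sims x s) (hl : Lam x l) (h0 : 0 < l) (h1 : l < s) : 2 * (s : ℤ) ≤ 3 * l := by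
  by_contra! hn
  refine hl.not 0 (commutatorElement_eq_one_iff_commute.1 ?_)
  rw [zero_add]
  by_cases h2 : s - l ≤ l
  · have a1 := comm_mem_hi h hl h0 h1 h2
    have a2 := comm_mem_hi (h.rev l) (hl.rev l) h0 h1 h2
    simp only [sub_zero, sub_self, U_rev] at a2
    rw [← commutatorElement_inv, inv_mem_iff] at a2
    exact h.disj (a := 1) (b := s - l) (c := l) (by omega) h2 (by omega) (U_mono (by omega) (by omega) a2) a1
  · have key : ∀ k : ℕ, 1 + k ≤ l → ⁅x 0, x l⁆ ∈ U x (1 + k) l := fun k => by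
      induction k with
      | zero => intro _; simpa using h.comm_mem h0 (by omega)
      | succ k ih =>
        intro hk
        push_cast at hk ⊢
        rw [← add_assoc]
        exact step h hl (by omega) (by omega) (by omega) (ih (by omega))
    have := key (l - 1).toNat (by omega)
    rwa [U_bot (by omega), mem_bot] at this

theorem six (h : Sims x 6) (hl : Lam x 4) : x 0 ∈ N(U x 2 6) := by
  have c4 : ⁅x 0, x 4⁆ ∈ U x 2 4 := by
    have := comm_mem_hi h hl (by norm_num) (by norm_num) (by norm_num)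
    rwa [show ((6 : ℕ) : ℤ) - 4 = 2 by norm_num] at this
  have hw : ⁅x 0, x 5⁆ ∈ U x 1 5 := by
    have := h.comm_mem (a := 0) (b := 5) (by norm_num) (by norm_num)
    rwa [zero_add] at this
  have c5 : ⁅x 0, x 5⁆ ∈ U x 2 5 := by
    have := h.caseL (by norm_num) (by norm_num) hw
    rw [one_add_one_eq_two] at this
    refine this.resolve_right fun e => hl.not 1 ?_
    rw [show (1 : ℤ) + 4 = 5 by norm_num]
    set w := ⁅x 0, x 5⁆ with hwd
    have w2 : w * w = 1 := by rw [← pow_two]; exact (U_abelem h (hl.cen (by norm_num) (by norm_num))).pow hw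
    have e1 : w * x 5 = x 0 * x 5 * (x 0)⁻¹ := by rw [hwd, commutatorElement_def, inv_mul_cancel_right]
    have e2 : w * x 5 * (w * x 5) = 1 := by
      rw [e1]; calc _ = x 0 * (x 5 * x 5) * (x 0)⁻¹ := by group
        _ = 1 := by rw [h.sq, mul_one, mul_inv_cancel]
    have e3 : Commute w (x 5) := by
      have a := eq_inv_of_mul_eq_one_left e2
      rw [mul_inv_rev, h.inv, inv_eq_of_mul_eq_one_right w2] at a
      exact a
    have e4 : Commute (w * x 1) (x 5) := hl.cen1 (by norm_num) (by norm_num) e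
    simpa using e3.inv_left.mul_left e4
  rw [← cj_eq_self]
  refine eq_of_card_eq (cj_le_iff.2 (U_le.2 fun i k1 k2 => ?_)) (card_cj _ _)
  rw [mem_cj, inv_inv, show x 0 * x i * (x 0)⁻¹ = ⁅x 0, x i⁆ * x i by rw [commutatorElement_def, inv_mul_cancel_right]]
  refine mul_mem ?_ (mem_U k1 k2)
  rcases (by omega : i < 4 ∨ i = 4 ∨ i = 5) with e | rfl | rfl
  · rw [commutatorElement_eq_one_iff_commute.2 (hl.comm _ _ (by omega) (by omega))]; exact one_mem _
  · exact U_mono le_rfl (by norm_num) c4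
  · exact U_mono le_rfl (by norm_num) c5

end Cfsg.Agent.H5f
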