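import Cfsg.Agent.H5.Sims1

/-! The Sims sequence attached to an edge transitive amalgam with dihedral local action. -/

set_option autoImplicit false
set_option linter.unusedSectionVars false

namespace Cfsg.Agent.H5f

open Cfsg Subgroup Cfsg.Agent.FT Cfsg.Agent.P22
open scoped commutatorElement

variable {G : Type*} [Group G] [Finite G] {H P Q X : Subgroup G} {g y h : G} {k s : ℕ}

/-- arc stabilisers -/
def Ar (g : G) (P : Subgroup G) (k : ℕ) : Subgroup G := (fun X => X ⊓ cj g X)^[k] P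

theorem Ar_zero : Ar g P 0 = P := rfl
theorem Ar_succ (k : ℕ) : Ar g P (k + 1) = Ar g P k ⊓ cj g (Ar g P k) := Function.iterate_succ_apply' _ _ _

theorem Ar_le (k : ℕ) : Ar g P (k + 1) ≤ Ar g P k := (Ar_succ k).le.trans inf_le_left
theorem Ar_le₂ (k : ℕ) : Ar g P (k + 1) ≤ cj g (Ar g P k) := (Ar_succ k).le.trans inf_le_right
theorem Ar_le' (k : ℕ) : cj g⁻¹ (Ar g P (k + 1)) ≤ Ar g P k := le_cj_iff.1 (Ar_le₂ k)
theorem Ar_anti : Antitone (Ar g P) := antitone_nat_of_succ_le Ar_le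

theorem Ar_stab (hg : g ∈ N(Ar g P k)) (j : ℕ) : Ar g P (k + j) = Ar g P k := by
  induction j with
  | zero => rfl
  | succ j ih => rw [← add_assoc, Ar_succ, ih, cj_of_mem_nrm hg, inf_idem]

/-- the data of the shift -/
structure Sh (g : G) (P : Subgroup G) : Prop where
  idx : (Ar g P 1).relIndex P = 2
  core : ∀ X, X ≤ P → P ≤ N(X) → g ∈ N(X) → X = ⊥

namespace Sh

theorem idx_le (h : Sh g P) (k : ℕ) : (Ar g P (k + 1)).relIndex (Ar g P k) ≤ 2 := by
  induction k with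
  | zero => exact h.idx.le
  | succ k ih =>
    rw [Ar_succ (k + 1), inf_relIndex_left]
    rw [← relIndex_cj g] at ih
    exact (relIndex_le_of_le_right (Ar_le₂ k) (relIndex_pos _ _).ne').trans ih

theorem idx_or (h : Sh g P) (k : ℕ) : Ar g P (k + 1) = Ar g P k ∨ (Ar g P (k + 1)).relIndex (Ar g P k) = 2 := by
  have a := h.idx_le k
  have b := relIndex_pos (Ar g P (k + 1)) (Ar g P k)
  rcases (by omega : (Ar g P (k + 1)).relIndex (Ar g P k) = 1 ∨ (Ar g P (k + 1)).relIndex (Ar g P k) = 2) with e | e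
  exacts [.inl (le_antisymm (Ar_le k) (relIndex_eq_one.1 e)), .inr e]

theorem nrm (h : Sh g P) (k : ℕ) : Ar g P k ≤ N(Ar g P (k + 1)) := by
  rcases h.idx_or k with e | e
  exacts [e ▸ le_nrm _, nrm_two e (Ar_le k)]

theorem sup (h : Sh g P) (hg : g ∉ N(Ar g P (k + 1))) : cj g⁻¹ (Ar g P (k + 1)) ⊔ Ar g P (k + 1) = Ar g P k := by
  have hn : ¬ cj g⁻¹ (Ar g P (k + 1)) ≤ Ar g P (k + 1) := fun e => hg (by simpa using inv_mem (mem_nrm_of_cj_le e))
  rcases h.idx_or k with e | e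
  · exact absurd (e ▸ Ar_le' k) (e ▸ hn)
  · rw [sup_comm]; exact (maxIn_of_prime_relIndex (e ▸ Nat.prime_two) (Ar_le k)).sup_eq (Ar_le' k) hn

theorem eq_bot (h : Sh g P) (hg : g ∈ N(Ar g P k)) : Ar g P k = ⊥ := by
  refine h.core _ (Ar_anti (Nat.zero_le k)) ?_ hg
  have key : ∀ d m, m + d = k → Ar g P m ≤ N(Ar g P k) := fun d => by
    induction d with
    | zero => rintro m rfl; exact le_nrm _
    | succ d ih =>
      intro m e
      have := ih (m + 1) (by omega)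
      by_cases c : g ∈ N(Ar g P (m + 1))
      · rw [show k = m + 1 + d by omega, Ar_stab c]; exact h.nrm m
      · rw [← h.sup c]
        exact sup_le (cj_le_of_mem (inv_mem hg) this) this
  exact key k 0 (by omega)

theorem not_nrm (h : Sh g P) (hs : k < s) (hc : #(Ar g P k) = 2 ^ (s - k)) : g ∉ N(Ar g P k) := fun e => by
  rw [h.eq_bot e, card_bot', eq_comm, Nat.pow_eq_one] at hc
  omega

theorem card (h : Sh g P) (hP : #P = 2 ^ s) (k : ℕ) (hk : k ≤ s) : #(Ar g P k) = 2 ^ (s - k) := by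
  induction k with
  | zero => exact hP
  | succ k ih =>
    have a := ih (by omega)
    rcases h.idx_or k with e | e
    · exact absurd (cj_eq_self.1 (eq_of_card_eq (e.ge.trans (Ar_le₂ k)) (card_cj _ _).symm).symm)
        (h.not_nrm (by omega) a)
    · have b := card_mul_relIndex (Ar_le (g := g) (P := P) k)
      rw [e, a, show s - k = s - (k + 1) + 1 by omega, pow_succ] at b
      omega

theorem exists_seq (h : Sh g P) (hP : #P = 2 ^ s) (hs : 1 ≤ s) : ∃ x : ℤ → G, Sims x s ∧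
    (∀ i, x (i + 1) = g * x i * g⁻¹) ∧
    ∀ (m : ℕ), m ≤ s → ∀ a : ℤ, U x a (a + m) = cj (g ^ (a + m - 1 - s)) (Ar g P (s - m)) := by
  have c1 : #(Ar g P (s - 1)) = 2 := by rw [h.card hP _ (by omega), show s - (s - 1) = 1 by omega, pow_one]
  obtain ⟨z, hz, z1⟩ := exists_ne_one (ne_bot_of_prime_card (c1 ▸ Nat.prime_two))
  have ez := eq_zpowers_of_prime (c1 ▸ Nat.prime_two) hz z1
  have z2 : z * z = 1 := by have := pow_card hz; rwa [c1, pow_two] at this
  let x : ℤ → G := fun i => g ^ (i - s) * z * (g ^ (i - s))⁻¹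
  have xs : ∀ i k, x (i + k) = g ^ k * x i * (g ^ k)⁻¹ := fun i k => by
    simp only [x]; rw [show i + k - s = k + (i - s) by ring, zpow_add]; group
  have hU : ∀ (m : ℕ), m ≤ s → ∀ a : ℤ, U x a (a + m) = cj (g ^ (a + m - 1 - s)) (Ar g P (s - m)) := fun m hm => by
    rcases Nat.eq_zero_or_pos m with rfl | h0
    · intro a
      rw [U_bot (by simp), eq_comm, cj_eq_bot, eq_bot_iff_card', h.card hP _ (by omega)]; simp
    induction m, h0 using Nat.le_induction with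
    | base =>
      intro a
      rw [ez, cj_zpowers, show a + (1 : ℕ) - 1 - s = a - s by push_cast; ring]
      refine le_antisymm (U_le.2 fun i k1 k2 => ?_) (zpowers_le.2 (mem_U (x := x) (i := a) le_rfl (by push_cast; omega)))
      rw [show i = a by push_cast at k2; omega]; exact mem_zpowers _
    | succ m h0 ih =>
      intro a
      rw [← U_sup (b := a + m) (a' := a + 1) (by omega) (by omega) (by push_cast; omega),
        show a + (m + 1 : ℕ) = a + 1 + m by push_cast; ring, ih (by omega), ih (by omega),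
        show a + m - 1 - s = (a + 1 + m - 1 - s) + -1 by ring, zpow_add, zpow_neg_one, ← cj_cj, ← cj_sup,
        show s - m = s - (m + 1) + 1 by omega, h.sup (h.not_nrm (s := s) (by omega) (h.card hP _ (by omega)))]
  refine ⟨x, ⟨fun i => ?_, fun a m hm => ?_, fun i j k e => ?_⟩, fun i => by rw [xs, zpow_one], hU⟩
  · calc x i * x i = g ^ (i - s) * (z * z) * (g ^ (i - s))⁻¹ := by simp only [x]; group
      _ = 1 := by rw [z2]; group
  · rw [hU m hm, card_cj, h.card hP _ (by omega), show s - (s - m) = m by omega]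
  · rw [xs, xs]
    exact e.map (MulAut.conj (g ^ k))

end Sh

/-- the hypotheses of Glauberman's theorem -/
structure Gl (H P Q : Subgroup G) (y h : G) : Prop where
  syl : Syl 2 P H
  nml : Q ⊴ H
  le : Q ≤ P
  idx : Q.relIndex P = 2
  ne : Q ≠ ⊥
  mem : h ∈ H
  gen : cj h P ⊔ P = H
  neq : P ≠ H
  nrm : y ∈ N(P)
  sq : y ^ 2 ∈ P ⊔ C(P)
  core : ∀ X, X ≤ P → H ≤ N(X) → y ∈ N(X) → X = ⊥

namespace Gl

theorem cjP (d : Gl H P Q y h) : cj (y * h⁻¹)⁻¹ P = cj h P := by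
  rw [mul_inv_rev, inv_inv, ← cj_cj, cj_of_mem_nrm (inv_mem d.nrm)]

theorem inf (d : Gl H P Q y h) : cj h P ⊓ P = Q := by
  rcases eq_or_eq_of_prime_relIndex (d.idx ▸ Nat.prime_two) (le_inf (cj_of_mem_nrm (d.nml.nrm d.mem) ▸ cj_mono h d.le)
    d.le) (inf_le_right : cj h P ⊓ P ≤ P) with e | e
  · exact e
  · have := eq_of_card_eq (inf_eq_right.1 e) (card_cj _ _).symm
    exact absurd (by rw [← d.gen, ← this, sup_idem]) d.neq

theorem A1 (d : Gl H P Q y h) : cj (y * h⁻¹)⁻¹ (Ar (y * h⁻¹) P 1) = Q := by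
  rw [Ar_succ, Ar_zero, cj_inf, cj_inv_cj, d.cjP, d.inf]

theorem A1' (d : Gl H P Q y h) : Ar (y * h⁻¹) P 1 = cj y Q := by
  rw [← cj_cj_inv (y * h⁻¹) (Ar _ _ _), d.A1, ← cj_cj, cj_of_mem_nrm (d.nml.nrm (inv_mem d.mem))]

theorem sh (d : Gl H P Q y h) : Sh (y * h⁻¹) P where
  idx := by rw [d.A1', ← cj_of_mem_nrm d.nrm, relIndex_cj, d.idx]
  core X h1 h2 h3 := by
    have a : H ≤ N(X) := by
      rw [← d.gen, ← d.cjP]
      exact sup_le (cj_le_of_mem (inv_mem h3) h2) h2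
    exact d.core X h1 a (by simpa using mul_mem h3 (a d.mem))

theorem nrmW (d : Gl H P Q y h) : y ∈ N(Q ⊓ cj y Q) := by
  rw [← cj_eq_self, cj_inf, cj_cj, ← pow_two, inf_comm,
    cj_of_mem_nrm (sup_le (d.syl.le.trans d.nml.nrm) (cents_norm (cen_anti d.le)) d.sq)]

theorem cen (d : Gl H P Q y h) {z : G} (hz : z ∈ P) (h1 : z ∈ C(H)) (h2 : z ∈ C(cj y H)) : z = 1 := by
  have a : y ^ 2 ∈ C[z] := sup_le (le_cen1.2 (cen_anti d.syl.le h1)) (cen_le_cen1 hz) d.sq
  have a' : y * (y * z * y⁻¹) * y⁻¹ = z := by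
    rw [mem_cen1] at a
    calc _ = y ^ 2 * z * (y ^ 2)⁻¹ := by rw [pow_two]; group
      _ = z := by rw [a, mul_inv_cancel_right]
  have b : y * z * y⁻¹ ∈ C(H) := by rwa [← cj_cen, ← a', conj_mem_cj] at h2
  have := d.core (⟪z⟫ ⊔ ⟪y * z * y⁻¹⟫) (sup_le (zpowers_le.2 hz) (zpowers_le.2 (conj_mem d.nrm hz)))
    (cents_norm (centsC (sup_le (zpowers_le.2 h1) (zpowers_le.2 b))))
    (by rw [← cj_eq_self, cj_sup, cj_zpowers, cj_zpowers, a', sup_comm])
  exact mem_bot.1 (this ▸ mem_sup_left (mem_zpowers z))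

theorem shape (d : Gl H P Q y h) : (#P = 4 ∧ #Q = 2 ∧ Abelem 2 P) ∨
    ((#P = 8 ∨ #P = 16) ∧ Abelem 2 Q ∧ ∃ W t, W ≤ Q ⊓ C(P) ∧ #Q = 2 * #W ∧ ¬ H ≤ N(W) ∧
      t ∈ P ∧ t ∉ Q ∧ t * t = 1) := by
  obtain ⟨s, hs⟩ := d.syl.pi.card
  have cQ := card_mul_relIndex d.le
  have q1 := one_lt_card d.ne
  rw [d.idx, hs] at cQ
  have s2 : 2 ≤ s := by
    by_contra! c
    interval_cases s <;> omega
  obtain ⟨x, hx, xs, hU⟩ := d.sh.exists_seq hs (by omega)
  have eP : U x 1 (s + 1) = P := by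
    have := hU s le_rfl 1
    rwa [show (1 : ℤ) + s - 1 - s = 0 by ring, zpow_zero, cj_one, Nat.sub_self, Ar_zero, add_comm] at this
  have eP' : U x 0 s = cj h P := by
    have := hU s le_rfl 0
    rwa [show (0 : ℤ) + s - 1 - s = -1 by ring, zpow_neg_one, Nat.sub_self, Ar_zero, zero_add, d.cjP] at this
  have eH : U x 0 (s + 1) = H := by rw [← d.gen, ← eP', ← eP, U_sup (by omega) (by omega) (by omega)]
  have eQ : U x 1 s = Q := by
    have := hU (s - 1) (by omega) 1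
    rwa [show (1 : ℤ) + (s - 1 : ℕ) = s by omega, show (s : ℤ) - 1 - s = -1 by ring, zpow_neg_one,
      show s - (s - 1) = 1 by omega, d.A1] at this
  have eW : U x 2 s = Q ⊓ cj y Q := by
    have := hU (s - 2) (by omega) 2
    rwa [show (2 : ℤ) + (s - 2 : ℕ) = s by omega, show (s : ℤ) - 1 - s = -1 by ring, zpow_neg_one,
      show s - (s - 2) = 1 + 1 by omega, Ar_succ, cj_inf, d.A1, cj_inv_cj, d.A1'] at this
  have eH' : cj y H ≤ U x 1 (s + 2) := by
    have : cj y H = cj (y * h⁻¹) H := by rw [← cj_cj, cj_of_mem (inv_mem d.mem)]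
    rw [this, cj_le_iff, ← eH]
    exact U_le.2 fun i k1 k2 => by rw [mem_cj, inv_inv, ← xs]; exact mem_U (by omega) (by omega)
  have noZ : ∀ j : ℤ, 1 ≤ j → j ≤ s → (∀ i : ℤ, 0 ≤ i → i ≤ s + 1 → Commute (x i) (x j)) → False := fun j k1 k2 e => by
    have a : x j ∈ C(U x 0 (s + 2)) := le_cen1.1 (U_le.2 fun i i1 i2 => mem_cen1.2 (e i i1 (by omega)).eq)
    exact hx.ne_one (by omega) j (d.cen (eP ▸ mem_U k1 (by omega)) (eH ▸ cen_anti (U_mono le_rfl (by omega)) a)
      (cen_anti (eH'.trans (U_mono (by omega) le_rfl)) a))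
  obtain ⟨l, hl⟩ := exists_lam hx fun e => noZ 1 le_rfl (by omega) fun i _ _ => e _ _
  have l0 := hl.pos (by omega)
  have l1 : 2 * (l : ℤ) ≤ s + 2 := by
    by_contra! c
    exact noZ (min (l - 1) s) (by omega) (by omega) fun i i1 i2 => hl.comm _ _ (by omega) (by omega)
  have noW : 3 ≤ s → ¬ H ≤ N(U x 2 s) := fun s3 e => hx.ne_one (by omega) 2
    (mem_bot.1 (d.core _ (eP ▸ U_mono (by omega) (by omega)) e (eW ▸ d.nrmW) ▸ mem_U le_rfl (by omega)))
  rcases s2.eq_or_lt with rfl | s3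
  · left
    refine ⟨hs, by omega, eP ▸ U_abelem hx (ab_iff.1 (ab_of_card_sq Nat.prime_two (eP ▸ hs)))⟩
  right
  have l2 := lam_lower hx hl l0 (by omega)
  have s6 : s ≠ 6 := by
    rintro rfl
    obtain rfl : l = 4 := by omega
    refine noW (by omega) ?_
    rw [← eH, ← U_sup (a' := 1) (b := 1) (by omega) le_rfl (by omega)]
    refine sup_le (U_le.2 fun i i1 i2 => ?_) ?_
    · rw [show i = 0 by omega]; exact six hx hl
    · rw [eP, eW]
      exact normsI (d.syl.le.trans d.nml.nrm) (cj_of_mem_nrm d.nrm ▸ cj_norms.2 (d.syl.le.trans d.nml.nrm))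
  have l3 : (l : ℤ) = s - 1 := by omega
  refine ⟨?_, eQ ▸ U_abelem hx (hl.cen (by omega) (by omega)), U x 2 s, x s,
    le_inf (eQ ▸ U_mono (by omega) le_rfl) (eP ▸ hl.cen (by omega) (by omega)), ?_, noW (by omega),
    eP ▸ mem_U (by omega) (by omega), fun e => ?_, hx.sq _⟩
  · rcases (by omega : s = 3 ∨ s = 4) with rfl | rfl
    exacts [.inl hs, .inr hs]
  · rw [← eQ, hx.card' (s - 1) (by omega) (by omega), hx.card' (s - 2) (by omega) (by omega),
      show s - 1 = s - 2 + 1 by omega, pow_succ']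
  · have := (hx.rev 0).notL (a := -s) (b := 0) (by omega) (by omega)
    rw [U_rev, show (0 : ℤ) - 0 + 1 = 1 by ring, show (0 : ℤ) - (-s + 1) + 1 = s by ring, eQ] at this
    exact this (by simpa using e)

end Gl

end Cfsg.Agent.H5f
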