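import Cfsg.Agent.H5.Sims2

/-! Glauberman's theorem on subgroups with dihedral quotient over the `2`-core. -/

set_option autoImplicit false
set_option linter.unusedSectionVars false

namespace Cfsg.Agent.H5f

open Cfsg Subgroup Cfsg.Agent.FT Cfsg.Agent.P22
open scoped commutatorElement

variable {G : Type*} [Group G] [Finite G] {H K P Q V W X : Subgroup G} {g y h t : G} {k s : ℕ}

theorem oddpart (hK : K ⊴ H) (hQ : Syl 2 Q K) (hc : K ≤ C(Q)) : K ≤ O[{2}ᶜ](H) ⊔ Q := by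
  obtain ⟨R, h1, h2⟩ := hQ.exists_compl (cents_norm hc)
  have : R ⊴ K := ⟨h1.le, h2.sup ▸ sup_le (cents_norm (centsC (h1.le.trans hc))) (le_nrm R)⟩
  rw [← h2.sup, sup_comm]
  exact sup_le_sup_right ((pcore_max h1.pi this).trans (pcore_mono_nml _ (h2.sup ▸ hK))) _

theorem two_idx (hn : K ≤ N(Q)) (hQ : PGrp 2 Q) (hc : K ≤ C(⁅Q, K⁆)) : PiNat {2} (C(Q).relIndex K) := fun p hp hd => by
  by_contra hne
  obtain ⟨S, hS⟩ := exists_syl p K
  have : S ≤ C(Q) := coprime_cents_of_comm_cents (hS.le.trans hn) (hQ.cop (hS.pi.p' hne))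
    (centsC (centSS (commSS le_rfl hS.le) hS.le hc))
  exact (hS.relIndex_of_le this).not_dvd hp rfl hd

theorem card_stab {α : Type*} [Finite α] (a : α) :
    Nat.card (MulAction.stabilizer (Equiv.Perm α) a) = (Nat.card α - 1).factorial := by
  classical
  have h1 := (MulAction.stabilizer (Equiv.Perm α) a).card_mul_index
  rw [MulAction.index_stabilizer_of_transitive, Nat.card_perm] at h1
  have : Nonempty α := ⟨a⟩
  have h2 : 0 < Nat.card α := Nat.card_pos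
  rw [← Nat.mul_factorial_pred h2.ne', mul_comm] at h1
  exact Nat.eq_of_mul_eq_mul_left h2 h1

theorem idx_cen_dvd (hn : H ≤ N(V)) (h4 : #V ≤ 4) : C(V).relIndex H ∣ 6 := by
  refine (relIndex_cen_dvd_card_aut hn).trans (dvd_trans ?_ (Nat.factorial_dvd_factorial (by omega : #V - 1 ≤ 3)))
  rw [← card_stab (1 : V)]
  let f : MulAut V →* MulAction.stabilizer (Equiv.Perm V) (1 : V) :=
    (MulAut.toPerm V).codRestrict _ fun a => map_one a
  exact card_dvd_of_injective f fun a b e => MulEquiv.ext fun v => congrArg (fun z => z.1 v) e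

theorem Gl.six (d : Gl H P Q y h) (hQ : Abelem 2 Q) (h1 : W ≤ Q ⊓ C(P)) (h2 : #Q = 2 * #W) (h3 : ¬ H ≤ N(W))
    (t1 : t ∈ P) (t2 : t ∉ Q) : H ⊓ C(Q) ≤ O[{2}ᶜ](H) ⊔ Q ∧ (O[{2}ᶜ](H) ⊔ Q).relIndex H = 6 := by
  have pQ : PGrp 2 Q := d.syl.pi.mono d.le
  have nP := d.syl.le.trans d.nml.nrm
  have mx := maxIn_of_prime_relIndex (d.idx ▸ Nat.prime_two) d.le
  have eP : Q ⊔ ⟪t⟫ = P := mx.sup_eq (zpowers_le.2 t1) fun e => t2 (zpowers_le.1 e)
  have c1 : #⁅Q, P⁆ ≤ 2 := by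
    have a := card_comm_zp hQ.ab (nP t1)
    have b : #W ≤ #(Q ⊓ C[t]) := card_le (h1.trans (inf_le_inf_left _ (cen_le_cen1 t1)))
    have c : ⁅Q, P⁆ ≤ ⁅Q, ⟪t⟫⁆ := by
      have n : ⟪t⟫ ≤ N(Q) := zpowers_le.2 (nP t1)
      conv_lhs => rw [← eP]
      exact comm_sup_le' (sup_le (norm_comm_left _ _) (norm_comm_right _ _)) (by rw [ab_iff_der.1 hQ.ab]; exact bot_le)
        le_rfl
    have := card_le c
    have := card_pos W
    nlinarith
  have eQ := cj_of_mem_nrm (d.nml.nrm d.mem)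
  have nP' : cj h P ≤ N(Q) := eQ ▸ cj_norms.2 nP
  have c2 : #⁅Q, cj h P⁆ ≤ 2 := by rw [← eQ, ← cj_comm, card_cj]; exact c1
  have hVQ : ⁅Q, H⁆ ≤ Q := comm_le_left d.nml.nrm
  have c3 : #⁅Q, H⁆ ≤ 4 := by
    have a : ⁅Q, cj h P⁆ ⊔ ⁅Q, P⁆ ≤ Q := sup_le (comm_le_left nP') (comm_le_left nP)
    have b : ⁅Q, H⁆ ≤ ⁅Q, cj h P⁆ ⊔ ⁅Q, P⁆ := by
      conv_lhs => rw [← d.gen]
      exact comm_sup_le' (sup_le (norms_of_comm_le_of_le le_sup_left a) (norms_of_comm_le_of_le le_sup_right a))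
        le_sup_left le_sup_right
    have c := Nat.le_of_dvd (Nat.mul_pos (card_pos _) (card_pos _))
      (card_sup_dvd ((comm_le_left nP).trans (hQ.ab.norms (comm_le_left nP'))))
    have := card_le b
    nlinarith
  have nV : H ≤ N(⁅Q, H⁆) := norm_comm_right _ _
  have i6 := idx_cen_dvd nV c3
  rw [← inf_relIndex_left] at i6
  have hK := subcent_nml nV
  set K := H ⊓ C(⁅Q, H⁆)
  have k2 : PiNat {2} (C(Q).relIndex K) :=
    two_idx (hK.le.trans d.nml.nrm) pQ (centsS (commSS le_rfl hK.le) inf_le_right)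
  have cW : H ⊓ C(Q) ≤ N(W) := inf_le_right.trans (cents_norm (cen_anti (h1.trans inf_le_left)))
  have pW : P ≤ N(W) := cents_norm (centsC (h1.trans inf_le_right))
  have hPK : ¬ P ≤ K := fun e => by
    have : H ≤ K := d.gen.ge.trans (sup_le (cj_le_of_nrm (hK.nrm d.mem) e) e)
    rw [le_antisymm hK.le this, ← inf_relIndex_left] at k2
    exact h3 ((d.syl.sup_eq_of_relIndex inf_le_left k2).ge.trans (sup_le cW pW))
  have hQK : Q ≤ K := le_inf d.nml.le (hQ.ab.cents hVQ le_rfl)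
  have e1 : P ⊓ K = Q := (eq_or_eq_of_prime_relIndex (d.idx ▸ Nat.prime_two) (le_inf d.le hQK) inf_le_left).resolve_right
    fun e => hPK (inf_eq_left.1 e)
  have sK : Syl 2 Q K := e1 ▸ d.syl.inf_nml hK
  have kC : K ≤ C(Q) := relIndex_eq_one.1 (k2.eq_one (sK.relIndex_of_le hQ.ab.le_cen))
  have oC : O[{2}ᶜ](H) ≤ C(Q) := pcore_cents_of_pi' (piGrp_compl_compl.2 pQ) d.nml
  have e2 : O[{2}ᶜ](H) ⊔ Q = K := le_antisymm (sup_le (le_inf (pcore_le _ _) (centsS hVQ oC)) hQK) (oddpart hK sK kC)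
  rw [e2]
  refine ⟨inf_le_inf_left _ (cen_anti hVQ), ?_⟩
  have a : 2 ∣ K.relIndex H := (d.syl.pi.dvd_relIndex hPK).trans (relIndex_dvd_of_norm d.syl.le hK.nrm)
  have b : K.relIndex H ≠ 2 := fun e => h3 ((d.syl.sup_eq_of_relIndex hK.le
    (by rw [e]; exact (piNat_prime Nat.prime_two).2 rfl)).ge.trans (sup_le ((le_inf hK.le kC).trans cW) pW))
  have c := Nat.le_of_dvd (by norm_num) i6
  generalize K.relIndex H = m at *
  interval_cases m <;> omega

theorem Gl.main (d : Gl H P Q y h) (hK : K ⊴ H) (k1 : Q ≤ K) (k2 : K.relIndex H = 2) {G' : Type*} [Group G'] [Finite G']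
    (f : H →* G') (hf : pmap f H = ⊤) (hk : pker f = O[{2}ᶜ](H)) : (#P = 4 ∨ #P = 8 ∨ #P = 16) ∧
      (Nonempty (G' ≃* Multiplicative (ZMod 2) × Multiplicative (ZMod 2)) ∨ IsS4 G' ∨ IsS4C2 G') := by
  have hPH := d.syl.le
  have iP : pker f ⊓ P = ⊥ := hk ▸ (pcore_pi _ H).inf_eq_bot' d.syl.pi
  have oH : O[{2}ᶜ](H) ≤ H := pcore_le _ _
  rcases d.shape with ⟨c1, c2, c3⟩ | ⟨c1, hQ, W, t, h1, h2, h3, t1, t2, t3⟩
  · refine ⟨.inl c1, .inl ?_⟩
    have hPK : ¬ P ≤ K := fun e => d.syl.not_dvd Nat.prime_two (k2 ▸ relIndex_dvd_of_le e H)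
    have e1 : P ⊓ K = Q := (eq_or_eq_of_prime_relIndex (d.idx ▸ Nat.prime_two) (le_inf d.le k1) inf_le_left).resolve_right
      fun e => hPK (inf_eq_left.1 e)
    have a := oddpart hK (e1 ▸ d.syl.inf_nml hK) (hK.le.trans (cents_two c2 d.nml.nrm))
    have b := (maxIn_of_prime_relIndex (k2 ▸ Nat.prime_two) hK.le).sup_eq hPH hPK
    have c : pmap f P = ⊤ := by
      rw [eq_top_iff, ← hf, pmap_le_pmap le_rfl hPH, hk]
      exact b.ge.trans (sup_le (a.trans (sup_le_sup_left d.le _)) le_sup_right)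
    have c4 : Nat.card G' = 4 := by rw [← card_top', ← c, card_pmap_of_inf hPH iP, c1]
    have : Nontrivial G' := Finite.one_lt_card_iff_nontrivial.1 (by omega)
    have : Fact (Nat.Prime 2) := ⟨Nat.prime_two⟩
    have : IsKleinFour G' := ⟨c4, (Monoid.exponent_eq_prime_iff Nat.prime_two).2 fun g g1 =>
      orderOf_eq_prime ((c ▸ c3.pmap f).pow (mem_top g)) g1⟩
    have : IsKleinFour (Multiplicative (ZMod 2) × Multiplicative (ZMod 2)) := ⟨by simp, by simp [Monoid.exponent_prod]⟩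
    exact IsKleinFour.nonempty_mulEquiv
  refine ⟨.inr c1, .inr ?_⟩
  obtain ⟨s1, s2⟩ := d.six hQ h1 h2 h3 t1 t2
  have hT : Syl 2 (pmap f P) ⊤ := hf ▸ d.syl.pmap f le_rfl
  have hQH := d.nml.le
  have oW : O[{2}ᶜ](H) ≤ N(W) := cents_norm (centsS (h1.trans inf_le_left)
    (pcore_cents_of_pi' (piGrp_compl_compl.2 (d.syl.pi.mono d.le)) d.nml))
  have pW : P ≤ N(W) := cents_norm (centsC (h1.trans inf_le_right))
  have cQ : #(pmap f Q) = #Q := card_pmap_of_inf hQH (inf_eq_bot_mono iP le_rfl d.le)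
  have eO : O[{2}]((⊤ : Subgroup G')) = pmap f Q := by
    have i : (pmap f Q).relIndex (pmap f P) = 2 := by
      have a := card_mul_relIndex (pmap_mono f d.le)
      rw [cQ, card_pmap_of_inf hPH iP, ← card_mul_relIndex d.le, d.idx] at a
      exact Nat.eq_of_mul_eq_mul_left (card_pos Q) a
    refine (eq_or_eq_of_prime_relIndex (i ▸ Nat.prime_two) (pcore_max ((d.syl.pi.mono d.le).pmap f)
      (hf ▸ d.nml.pmap f)) (pcore_le_syl hT)).resolve_right fun e => h3 ?_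
    have n : H ≤ N(ppre f (pmap f P)) := norms_ppre le_rfl (by rw [hf, ← e]; exact pcore_nrm _ _)
    rw [ppre_pmap f hPH, hk] at n
    exact (d.gen.ge.trans (sup_le (cj_le_of_nrm (n d.mem) le_sup_right) le_sup_right)).trans (sup_le oW pW)
  have s3 : S3L (⊤ : Subgroup G') := by rw [S3L, eO, ← hf, relIndex_pmap f hQH le_rfl, hk, s2]
  have hc : ⊤ ⊓ C(pmap f Q) ≤ pmap f Q := by
    have a : ⁅ppre f C(pmap f Q), Q⁆ ≤ pker f := (pmap_cents_iff (ppre_le f _) hQH).1 (pmap_ppre_le f _)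
    have b : ppre f C(pmap f Q) ≤ C(Q) := comm_eq_bot.1 (eq_bot_of_le
      (le_inf a ((comm_le_right ((ppre_le f _).trans d.nml.nrm)).trans d.le)) iP)
    rw [← hf, ← pmap_ppre, pmap_le_pmap (ppre_le f _) hQH, hk]
    exact (le_inf (ppre_le f _) b).trans s1
  have tH := hPH t1
  obtain ⟨a1, L, a2, ⟨e⟩⟩ := s3.s4_split (eO ▸ hc) (eO ▸ hQ.pmap f) hT (mem_pmap_of_mem f tH t1)
    (fun e => t2 (by
      rw [eO, ← pmap_ker_sup f hQH] at e
      have := mem_of_pfun_mem tH le_sup_left e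
      have b : P ⊓ (pker f ⊔ Q) = Q := by
        rw [inf_sup_right (hQH.trans (pker_nml f).nrm) d.le, inf_comm, iP, bot_sup_eq]
      exact b.le ⟨t1, this⟩))
    (by rw [← pfun_mul f tH tH, t3, pfun_one]) (by
      rw [eO, cQ, h2, ← card_pmap_of_inf (f := f) ((h1.trans inf_le_left).trans hQH)
        (inf_eq_bot_mono iP le_rfl ((h1.trans inf_le_left).trans d.le))]
      exact Nat.mul_le_mul_left _ (card_le ((pmap_mono f h1).trans (pmap_subcent_le f _ _))))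
  have a3 := card_mul_relIndex d.le
  nth_rw 1 [eO] at a1
  rw [cQ] at a1
  rw [d.idx] at a3
  rcases c1 with c | c
  · left
    exact ⟨topEquiv.symm.trans ((MulEquiv.subgroupCongr (by
      rw [← a2.sup, eq_bot_iff_card'.2 (by omega : #(O[{2}]((⊤ : Subgroup G')) ⊓ C((⊤ : Subgroup G'))) = 1),
        sup_bot_eq])).trans e)⟩
  · right
    exact ⟨topEquiv.symm.trans ((DP.equivProd a2).some.trans (e.prodCongr (mulEquivOfPrimeCardEq
      (by omega : #(O[{2}]((⊤ : Subgroup G')) ⊓ C((⊤ : Subgroup G'))) = 2) (by simp))))⟩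

open DihedralGroup in
theorem dihedral {n : ℕ} (hn : 2 ≤ n) (f : H →* DihedralGroup n) (hf : pmap f H = ⊤) (hk : pker f = O[{2}](H))
    (hP : Syl 2 P H) : O[{2}](H).relIndex P = 2 ∧ P ≠ H ∧ (∃ h ∈ H, cj h P ⊔ P = H) ∧
      ∃ K, K ⊴ H ∧ O[{2}](H) ≤ K ∧ K.relIndex H = 2 := by
  have : NeZero n := ⟨by omega⟩
  have e0 : O[{2}]((⊤ : Subgroup (DihedralGroup n))) = ⊥ := by
    rw [← hf, ← pmap_pcore le_rfl (hk ▸ (pcore_pi _ H).inf_right _), ← hk, pmap_pker]
  have hodd : ¬ 2 ∣ n := by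
    rintro ⟨m, rfl⟩
    have mm : (m : ZMod (2 * m)) + m = 0 := by rw [← Nat.cast_add, ← two_mul, ZMod.natCast_self]
    have a : ⟪(r m : DihedralGroup (2 * m))⟫ ≤ O[{2}](⊤) := by
      refine pcore_max (pElt_of_pow_eq_one Nat.prime_two (by rw [pow_two, r_mul_r, mm, r_zero])).zpowers
        ⟨le_top, norms_zpowers_of_cen1 fun u _ => mem_cen1.2 ?_⟩
      rcases u with j | j
      · rw [r_mul_r, r_mul_r, add_comm]
      · rw [sr_mul_r, r_mul_sr, sub_eq_add_neg, neg_eq_of_add_eq_zero_right mm]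
    rw [e0, zpowers_le, mem_bot, one_def, r.injEq, ZMod.natCast_eq_zero_iff] at a
    have := Nat.le_of_dvd (by omega) a
    omega
  have hT : Syl 2 (pmap f P) ⊤ := hf ▸ hP.pmap f le_rfl
  have cT : #(pmap f P) = 2 := eq_of_piNat_mul (d := n) hT.pi hT.idx ((piNat_prime Nat.prime_two).2 rfl)
    (p'nat_of_not_dvd hodd) (by rw [card_mul_relIndex le_top, card_top', nat_card])
  obtain ⟨t, ht, t1⟩ := exists_ne_one (ne_bot_of_prime_card (cT ▸ Nat.prime_two))
  have t2 : t * t = 1 := by have := pow_card ht; rwa [cT, pow_two] at this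
  have u2 : ((2 : ℕ) : ZMod n) * ((2 : ℕ) : ZMod n)⁻¹ = 1 :=
    ZMod.coe_mul_inv_eq_one 2 ((Nat.Prime.coprime_iff_not_dvd Nat.prime_two).2 hodd)
  set k := ((2 : ℕ) : ZMod n)⁻¹
  push_cast at u2
  refine ⟨by rw [← hk, ← card_pmap f hP.le, cT], fun e => ?_, ?_, ppre f ⟪r 1⟫, ?_, hk ▸ pker_le_ppre f _, ?_⟩
  · rw [e, hf, card_top', nat_card] at cT; omega
  · rcases t with j | i
    · rw [r_mul_r, one_def, r.injEq] at t2
      refine absurd (by rw [one_def, r.injEq]; linear_combination k * t2 - j * u2) t1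
    obtain ⟨h, -, hh, e⟩ := mem_pmap.1 (hf.ge (mem_top (r k)))
    refine ⟨h, hh, (pmap_inj (f := f) (sup_le (cj_le_of_mem hh hP.le) hP.le) le_rfl
      (hk ▸ (pcore_le_syl hP).trans le_sup_right) (pker_le f)).1 ?_⟩
    rw [pmap_sup f (cj_le_of_mem hh hP.le) hP.le, pmap_cj f hh, e, hf, eq_top_iff]
    have a : r 1 ∈ cj (r k) (pmap f P) ⊔ pmap f P := by
      have := mul_mem (mem_sup_left (conj_mem_cj.2 ht)) (mem_sup_right (S := cj (r k) (pmap f P)) ht)
      rwa [inv_r, r_mul_sr, sr_mul_r, sr_mul_sr, show i - (i - k + -k) = 1 by linear_combination u2] at this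
    have b : ∀ j, r j ∈ cj (r k) (pmap f P) ⊔ pmap f P := fun j => by
      have := pow_mem a j.val
      rwa [r_one_pow, ZMod.natCast_zmod_val] at this
    rintro (j | j) -
    · exact b j
    · have := mul_mem (mem_sup_right ht) (b (j - i))
      rwa [sr_mul_r, add_sub_cancel] at this
  all_goals
    have i2 : ⟪(r 1 : DihedralGroup n)⟫.relIndex ⊤ = 2 := by
      have := card_mul_relIndex (le_top : ⟪(r 1 : DihedralGroup n)⟫ ≤ ⊤)
      rw [card_zpowers', orderOf_r_one, card_top', nat_card, mul_comm 2] at this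
      exact Nat.eq_of_mul_eq_mul_left (by omega) this
  · exact Nml.ppre_of_pmap le_rfl (pker_le f) (hf ▸ ⟨le_top, nrm_two i2 le_top⟩)
  · rw [relIndex_ppre f _ le_rfl, hf, i2]

end Cfsg.Agent.H5f
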